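/-
Basic vocabulary for the proof of Aschbacher's theorem: conjugation of matrices by invertible
matrices, irreducible subgroups of GL(ι, F), stabilisers of subspaces, scalars.
-/
import Mathlib
import Cfsg.Prelude.Def_GeometricClasses

set_option autoImplicit false

namespace Cfsg.Agent.Aschbacher

open Matrix

variable {ι : Type} [Fintype ι] [DecidableEq ι] {F : Type*} [Field F]

/-- Conjugation `x ↦ g x g⁻¹` as an algebra automorphism of the matrix algebra. -/
def conjMat (g : GL ι F) : Matrix ι ι F ≃ₐ[F] Matrix ι ι F where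
  toFun x := (g : Matrix ι ι F) * x * ((g⁻¹ : GL ι F) : Matrix ι ι F)
  invFun x := ((g⁻¹ : GL ι F) : Matrix ι ι F) * x * (g : Matrix ι ι F)
  left_inv x := by simp [mul_assoc]
  right_inv x := by simp [mul_assoc]
  map_mul' x y := by simp [mul_assoc]
  map_add' x y := by simp [mul_add, add_mul]
  commutes' c := by
    rw [← Algebra.commutes, mul_assoc, Units.mul_inv, mul_one]

lemma conjMat_apply (g : GL ι F) (x : Matrix ι ι F) :
    conjMat g x = (g : Matrix ι ι F) * x * ((g⁻¹ : GL ι F) : Matrix ι ι F) := rfl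

lemma conjMat_units (g h : GL ι F) :
    conjMat g (h : Matrix ι ι F) = ((g * h * g⁻¹ : GL ι F) : Matrix ι ι F) := by
  simp [conjMat_apply]

lemma conjMat_mulVec (g : GL ι F) (x : Matrix ι ι F) (v : ι → F) :
    conjMat g x *ᵥ ((g : Matrix ι ι F) *ᵥ v) = (g : Matrix ι ι F) *ᵥ (x *ᵥ v) := by
  simp [conjMat_apply, Matrix.mulVec_mulVec, mul_assoc]

lemma conjMat_eq_self_iff (g : GL ι F) (x : Matrix ι ι F) :
    conjMat g x = x ↔ (g : Matrix ι ι F) * x = x * (g : Matrix ι ι F) := by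
  rw [conjMat_apply, ← Units.eq_mul_inv_iff_mul_eq, inv_inv]

lemma conjMat_mul (g h : GL ι F) (x : Matrix ι ι F) :
    conjMat (g * h) x = conjMat g (conjMat h x) := by
  simp [conjMat_apply, mul_assoc]

lemma conjMat_inv_apply (g : GL ι F) (x : Matrix ι ι F) : conjMat g⁻¹ (conjMat g x) = x := by
  simp [conjMat_apply, mul_assoc]

lemma conjMat_eq_iff_mul (g : GL ι F) (x y : Matrix ι ι F) :
    conjMat g x = y ↔ (g : Matrix ι ι F) * x = y * (g : Matrix ι ι F) := by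
  rw [conjMat_apply, ← Units.eq_mul_inv_iff_mul_eq, inv_inv]

lemma smul_mulVec' (c : F) (v : ι → F) : (c • (1 : Matrix ι ι F)) *ᵥ v = c • v := by
  rw [Matrix.smul_mulVec, Matrix.one_mulVec]

lemma mem_scalars_of_eq_smul [Nonempty ι] (g : GL ι F) (c : F)
    (h : (g : Matrix ι ι F) = c • (1 : Matrix ι ι F)) : g ∈ Cfsg.Geo.scalars ι F := by
  rw [Cfsg.Geo.mem_scalars_iff]
  refine ⟨Units.mk0 c ?_, h⟩
  rintro rfl
  simp at h

lemma scalars_comm {z : GL ι F} (hz : z ∈ Cfsg.Geo.scalars ι F) (g : GL ι F) :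
    g * z = z * g := by
  obtain ⟨c, hc⟩ := (Cfsg.Geo.mem_scalars_iff z).1 hz
  apply Units.ext
  simp [hc]

/-- `H` acts irreducibly on the column vectors. -/
def Irred (H : Subgroup (GL ι F)) : Prop := Cfsg.Geo.ActsIrreducibly (Cfsg.Geo.matrixSet H)

lemma mem_matrixSet {R : Subgroup (GL ι F)} {g : GL ι F} (hg : g ∈ R) :
    (g : Matrix ι ι F) ∈ Cfsg.Geo.matrixSet R := ⟨g, hg, rfl⟩

lemma actsIrreducibly_iff (S : Set (Matrix ι ι F)) :
    Cfsg.Geo.ActsIrreducibly S ↔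
      ∀ W : Submodule F (ι → F), (∀ s ∈ S, ∀ v ∈ W, s *ᵥ v ∈ W) → W = ⊥ ∨ W = ⊤ := by
  refine forall_congr' fun W => imp_congr_left (forall_congr' fun s => imp_congr_right fun _ => ?_)
  simp [SetLike.le_def]

lemma irred_iff {H : Subgroup (GL ι F)} :
    Irred H ↔ ∀ W : Submodule F (ι → F),
      (∀ g ∈ H, ∀ v ∈ W, (g : Matrix ι ι F) *ᵥ v ∈ W) → W = ⊥ ∨ W = ⊤ := by
  unfold Irred
  rw [actsIrreducibly_iff]
  simp [Cfsg.Geo.matrixSet]

lemma Irred.eq_top {H : Subgroup (GL ι F)} (h : Irred H) {W : Submodule F (ι → F)}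
    (hW : ∀ g ∈ H, ∀ v ∈ W, (g : Matrix ι ι F) *ᵥ v ∈ W) {v : ι → F} (hv : v ∈ W) (hv0 : v ≠ 0) :
    W = ⊤ := by
  rcases (irred_iff.1 h) W hW with rfl | h'
  · exact absurd ((Submodule.mem_bot F).1 hv) hv0
  · exact h'

lemma Irred.mono {H K : Subgroup (GL ι F)} (h : Irred H) (hle : H ≤ K) : Irred K := by
  rw [irred_iff] at h ⊢
  exact fun W hW => h W fun g hg => hW g (hle hg)

lemma mem_subspaceStabilizer {W : Submodule F (ι → F)} {g : GL ι F} :
    g ∈ Cfsg.Geo.subspaceStabilizer W ↔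
      ∀ v, v ∈ W ↔ (g : Matrix ι ι F) *ᵥ v ∈ W := Iff.rfl

lemma mem_subspaceStabilizer_of_forall {W : Submodule F (ι → F)} {g : GL ι F}
    (h : ∀ v ∈ W, (g : Matrix ι ι F) *ᵥ v ∈ W) : g ∈ Cfsg.Geo.subspaceStabilizer W := by
  rw [mem_subspaceStabilizer]
  intro v
  refine ⟨h v, fun hv => ?_⟩
  let f : W →ₗ[F] W := (Matrix.toLin' (g : Matrix ι ι F)).restrict fun x hx => h x hx
  have hinj : Function.Injective f := by
    intro a b hab
    have h1 : (g : Matrix ι ι F) *ᵥ (a : ι → F) = (g : Matrix ι ι F) *ᵥ (b : ι → F) :=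
      congrArg Subtype.val hab
    have h2 := congrArg (fun x => ((g⁻¹ : GL ι F) : Matrix ι ι F) *ᵥ x) h1
    simp only [Matrix.mulVec_mulVec, Units.inv_mul, Matrix.one_mulVec] at h2
    exact Subtype.ext h2
  obtain ⟨u, hu⟩ := LinearMap.injective_iff_surjective.1 hinj ⟨_, hv⟩
  have h1 : (g : Matrix ι ι F) *ᵥ (u : ι → F) = (g : Matrix ι ι F) *ᵥ v := congrArg Subtype.val hu
  have h2 := congrArg (fun x => ((g⁻¹ : GL ι F) : Matrix ι ι F) *ᵥ x) h1
  simp [Matrix.mulVec_mulVec] at h2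
  exact h2 ▸ u.2

lemma exists_le_subspaceStabilizer {H : Subgroup (GL ι F)} (h : ¬ Irred H) :
    ∃ W : Submodule F (ι → F), W ≠ ⊥ ∧ W ≠ ⊤ ∧ H ≤ Cfsg.Geo.subspaceStabilizer W := by
  simp only [irred_iff, not_forall, not_or, exists_prop] at h
  obtain ⟨W, hW, h0, h1⟩ := h
  exact ⟨W, h0, h1, fun g hg => mem_subspaceStabilizer_of_forall (hW g hg)⟩

lemma mem_subalgebraNormalizer [Finite F] {K : Subalgebra F (Matrix ι ι F)} {g : GL ι F}
    (h : ∀ x ∈ K, conjMat g x ∈ K) : g ∈ Cfsg.Geo.subalgebraNormalizer K := by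
  intro k
  refine ⟨h k, fun hk => ?_⟩
  let f : K → K := fun x => ⟨conjMat g x, h x x.2⟩
  have hinj : Function.Injective f := fun a b hab =>
    Subtype.ext ((conjMat g).injective (congrArg Subtype.val hab))
  obtain ⟨u, hu⟩ := (Finite.injective_iff_surjective.1 hinj) ⟨_, hk⟩
  have : (u : Matrix ι ι F) = k := (conjMat g).injective (congrArg Subtype.val hu)
  exact this ▸ u.2

end Cfsg.Agent.Aschbacher
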