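/-
An algebra of matrices normalised by an irreducible group has trivial radical; if moreover its centre
consists of scalars it is a full matrix algebra over the field of scalars.
-/
import Mathlib
import Cfsg.Agent.Aschbacher.Basic

set_option autoImplicit false
set_option linter.style.haveILetI false

namespace Cfsg.Agent.Aschbacher

open Matrix

/-- A finite algebra over a field with trivial radical and centre consisting of scalars is a full
matrix algebra over that field. -/
theorem exists_algEquiv_matrix {K : Type*} [Field K] {A : Type*} [Ring A] [Algebra K A] [Finite A]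
    [Nontrivial A] (hJ : Ideal.jacobson (⊥ : Ideal A) = ⊥)
    (hc : ∀ z : A, (∀ a, z * a = a * z) → ∃ c : K, z = algebraMap K A c) :
    ∃ a : ℕ, 0 < a ∧ Nonempty (A ≃ₐ[K] Matrix (Fin a) (Fin a) K) := by
  classical
  haveI : Module.Finite K A := Module.Finite.of_finite
  haveI : IsArtinianRing A := inferInstance
  haveI : IsSemisimpleRing A := by
    rw [IsArtinianRing.isSemisimpleRing_iff_jacobson, ← Ideal.jacobson_bot]
    exact hJ
  obtain ⟨n, D, d, iD, iA, iF, hd, ⟨e⟩⟩ :=
    IsSemisimpleRing.exists_algEquiv_pi_matrix_divisionRing_finite K A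
  haveI : Finite (∀ i, Matrix (Fin (d i)) (Fin (d i)) (D i)) := Finite.of_equiv A e.toEquiv
  have hc' : ∀ z : (∀ i, Matrix (Fin (d i)) (Fin (d i)) (D i)), (∀ a, z * a = a * z) →
      ∃ c : K, z = algebraMap K _ c := by
    intro z hz
    obtain ⟨c, hc⟩ := hc (e.symm z) fun a => e.injective (by simp [hz])
    exact ⟨c, by rw [← AlgEquiv.commutes e c, ← hc, AlgEquiv.apply_symm_apply]⟩
  have hn : n = 1 := by
    rcases Nat.lt_trichotomy n 1 with h | h | h
    · obtain rfl : n = 0 := by omega
      obtain ⟨x, y, hxy⟩ := exists_pair_ne A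
      exact absurd (e.injective (funext fun i => i.elim0)) hxy
    · exact h
    · exfalso
      let i : Fin n := ⟨0, by omega⟩
      let j : Fin n := ⟨1, h⟩
      have hij : j ≠ i := by simp [i, j, Fin.ext_iff]
      obtain ⟨c, hc1⟩ := hc' (Pi.single i 1) (fun a => by
        funext k
        rcases eq_or_ne k i with rfl | hk
        · simp
        · simp [Pi.single_eq_of_ne hk])
      have h2 := congrFun hc1 j
      rw [Pi.single_eq_of_ne hij, Pi.algebraMap_apply] at h2
      haveI := hd j
      have hc0 : c = 0 := by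
        by_contra hne
        have := congrFun (congrFun h2 0) 0
        rw [Matrix.zero_apply, Matrix.algebraMap_matrix_apply, if_pos rfl] at this
        exact hne ((map_eq_zero _).1 this.symm)
      have h3 := congrFun hc1 i
      rw [Pi.single_eq_same, Pi.algebraMap_apply, hc0, map_zero] at h3
      haveI := hd i
      exact one_ne_zero h3
  subst hn
  let e1 : A ≃ₐ[K] Matrix (Fin (d 0)) (Fin (d 0)) (D 0) := e.trans
    { toFun := fun x => x 0
      invFun := fun x i => (Subsingleton.elim 0 i) ▸ x
      left_inv := fun x => by funext i; obtain rfl := Subsingleton.elim 0 i; rfl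
      right_inv := fun x => rfl
      map_mul' := fun x y => rfl
      map_add' := fun x y => rfl
      commutes' := fun c => rfl }
  haveI := hd 0
  haveI : Finite (Matrix (Fin (d 0)) (Fin (d 0)) (D 0)) := Finite.of_equiv A e1.toEquiv
  haveI : Finite (D 0) := Finite.of_surjective
    (fun x : Matrix (Fin (d 0)) (Fin (d 0)) (D 0) => x 0 0) fun y => ⟨fun _ _ => y, rfl⟩
  have hcomm : ∀ x y : D 0, x * y = y * x := by
    intro x y
    haveI : IsDomain (D 0) := inferInstance
    exact (Finite.isDomain_to_isField (D 0)).mul_comm x y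
  have hsurj : Function.Surjective (Algebra.ofId K (D 0)) := by
    intro x
    obtain ⟨c, hc1⟩ := hc (e1.symm (Matrix.diagonal fun _ => x)) fun a => by
      apply e1.injective
      rw [map_mul, map_mul, AlgEquiv.apply_symm_apply]
      ext p q
      simp [Matrix.diagonal_mul, Matrix.mul_diagonal, hcomm]
    refine ⟨c, ?_⟩
    have h2 := congrArg e1 hc1
    rw [AlgEquiv.apply_symm_apply, AlgEquiv.commutes] at h2
    have h3 := congrFun (congrFun h2 0) 0
    rw [Matrix.diagonal_apply_eq, Matrix.algebraMap_matrix_apply, if_pos rfl] at h3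
    exact h3.symm
  exact ⟨d 0, Nat.pos_of_ne_zero (NeZero.ne _), ⟨e1.trans (AlgEquiv.mapMatrix
    (AlgEquiv.ofBijective (Algebra.ofId K (D 0))
      ⟨(algebraMap K (D 0)).injective, hsurj⟩).symm)⟩⟩

variable {ι : Type} [Fintype ι] [DecidableEq ι] {F : Type*} [Field F] [Finite F]
variable {K : Type*} [CommRing K] [Algebra K (Matrix ι ι F)]

/-- An algebra of matrices normalised by an irreducible group has trivial Jacobson radical. -/
theorem jacobson_bot_eq_bot [Nonempty ι] (A : Subalgebra K (Matrix ι ι F))
    {H : Subgroup (GL ι F)} (hirr : Irred H) (hconj : ∀ g ∈ H, ∀ x ∈ A, conjMat g x ∈ A) :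
    Ideal.jacobson (⊥ : Ideal A) = ⊥ := by
  classical
  set J := Ideal.jacobson (⊥ : Ideal A) with hJdef
  -- invariance of the radical under conjugation
  have hinv : ∀ g ∈ H, ∀ x ∈ J,
      ∀ hx : conjMat g (x : Matrix ι ι F) ∈ A, (⟨_, hx⟩ : A) ∈ J := by
    intro g hg x hx hx'
    let φ : A →+* A :=
      { toFun := fun y => ⟨conjMat g y, hconj g hg y y.2⟩
        map_one' := Subtype.ext (map_one (conjMat g))
        map_mul' := fun a b => Subtype.ext (map_mul (conjMat g) _ _)
        map_zero' := Subtype.ext (map_zero (conjMat g))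
        map_add' := fun a b => Subtype.ext (map_add (conjMat g) _ _) }
    have hinj : Function.Injective φ := fun a b h =>
      Subtype.ext ((conjMat g).injective (congrArg Subtype.val h))
    have hbij : Function.Bijective φ := ⟨hinj, Finite.injective_iff_surjective.1 hinj⟩
    have h1 := Ideal.map_jacobson_of_bijective (I := (⊥ : Ideal A)) hbij
    rw [Ideal.map_bot] at h1
    rw [hJdef, ← h1]
    exact Ideal.mem_map_of_mem φ hx
  haveI : IsArtinianRing A := inferInstance
  obtain ⟨k, hk⟩ := IsArtinianRing.isNilpotent_jacobson_bot (R := A)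
  rw [Submodule.zero_eq_bot] at hk
  by_contra hne
  obtain ⟨a, ha, ha0⟩ := Submodule.exists_mem_ne_zero_of_ne_bot hne
  let W : Submodule F (ι → F) := Submodule.span F
    {w | ∃ x ∈ J, ∃ v, w = (x : Matrix ι ι F) *ᵥ v}
  have hWinv : ∀ g ∈ H, ∀ v ∈ W, (g : Matrix ι ι F) *ᵥ v ∈ W := by
    intro g hg v hv
    have : W ≤ W.comap (Matrix.toLin' (g : Matrix ι ι F)) := by
      refine Submodule.span_le.2 ?_
      rintro w ⟨x, hx, u, rfl⟩
      simp only [SetLike.mem_coe, Submodule.mem_comap, Matrix.toLin'_apply]
      rw [← conjMat_mulVec]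
      exact Submodule.subset_span ⟨_, hinv g hg x hx (hconj g hg _ x.2), _, rfl⟩
    simpa using this hv
  obtain ⟨v, hv⟩ : ∃ v, (a : Matrix ι ι F) *ᵥ v ≠ 0 := by
    by_contra h
    push Not at h
    exact ha0 (Subtype.ext (Matrix.ext_of_mulVec_single fun i => by rw [h, ZeroMemClass.coe_zero, Matrix.zero_mulVec]))
  have hWtop : W = ⊤ := hirr.eq_top hWinv (Submodule.subset_span ⟨a, ha, v, rfl⟩) hv
  have key : ∀ i : ℕ, Submodule.span F
      {w | ∃ x ∈ J ^ i, ∃ u, w = ((x : A) : Matrix ι ι F) *ᵥ u} = ⊤ := by
    intro i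
    induction i with
    | zero =>
      refine eq_top_iff.2 fun w _ => Submodule.subset_span ⟨1, ?_, w, ?_⟩
      · rw [Submodule.pow_zero, Ideal.one_eq_top]
        exact Submodule.mem_top
      · simp
    | succ i ih =>
      refine eq_top_iff.2 (hWtop.symm.le.trans (Submodule.span_le.2 ?_))
      rintro w ⟨x, hx, u, rfl⟩
      haveI : J.IsTwoSided := inferInstance
      have hu : u ∈ Submodule.span F
          {w | ∃ y ∈ J ^ i, ∃ u', w = ((y : A) : Matrix ι ι F) *ᵥ u'} := ih ▸ Submodule.mem_top
      induction hu using Submodule.span_induction with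
      | mem z hz =>
        obtain ⟨y, hy, u', rfl⟩ := hz
        refine Submodule.subset_span ⟨x * y, ?_, u', by simp [Matrix.mulVec_mulVec]⟩
        rw [Ideal.IsTwoSided.pow_succ]
        exact Ideal.mul_mem_mul hx hy
      | zero => simp
      | add z z' _ _ h h' =>
        rw [Matrix.mulVec_add]
        exact Submodule.add_mem _ h h'
      | smul c z _ h =>
        rw [Matrix.mulVec_smul]
        exact Submodule.smul_mem _ _ h
  have h0 := key k
  rw [hk] at h0
  have h1 : ({w | ∃ x ∈ (⊥ : Ideal A), ∃ u, w = ((x : A) : Matrix ι ι F) *ᵥ u} : Set (ι → F))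
      ⊆ {0} := by
    rintro w ⟨x, hx, u, rfl⟩
    obtain rfl : x = 0 := (Submodule.mem_bot _).1 hx
    simp
  have h2 := (Submodule.span_mono h1 (R := F))
  rw [h0, Submodule.span_zero_singleton] at h2
  exact bot_ne_top (le_antisymm h2 bot_le).symm

end Cfsg.Agent.Aschbacher
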