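/-
Clifford trichotomy for an algebra normalised by an irreducible group: its centre gives a system of
imprimitivity, or an extension field, or the algebra is a full matrix algebra.
-/
import Mathlib
import Cfsg.Agent.Aschbacher.CentralSimple

set_option autoImplicit false
set_option linter.style.haveILetI false

namespace Cfsg.Agent.Aschbacher

open Matrix

variable {ι : Type} [Fintype ι] [DecidableEq ι] {F : Type*} [Field F]

/-- The centre of a subalgebra of the matrix algebra, as a subalgebra of the matrix algebra. -/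
def subCentre (A : Subalgebra F (Matrix ι ι F)) : Subalgebra F (Matrix ι ι F) :=
  A ⊓ Subalgebra.centralizer F (A : Set (Matrix ι ι F))

lemma mem_subCentre {A : Subalgebra F (Matrix ι ι F)} {z : Matrix ι ι F} :
    z ∈ subCentre A ↔ z ∈ A ∧ ∀ a ∈ A, a * z = z * a := by
  rw [subCentre, Algebra.mem_inf, Subalgebra.mem_centralizer_iff]
  rfl

lemma conjMat_mem_subCentre {A : Subalgebra F (Matrix ι ι F)} {g : GL ι F}
    (hg : ∀ x ∈ A, conjMat g x ∈ A) (hg' : ∀ x ∈ A, conjMat g⁻¹ x ∈ A) {z : Matrix ι ι F}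
    (hz : z ∈ subCentre A) : conjMat g z ∈ subCentre A := by
  rw [mem_subCentre] at hz ⊢
  refine ⟨hg z hz.1, fun a ha => ?_⟩
  have h := congrArg (conjMat g) (hz.2 _ (hg' a ha))
  rw [map_mul, map_mul] at h
  have h1 : conjMat g (conjMat g⁻¹ a) = a := by simp [conjMat_apply, mul_assoc]
  rwa [h1] at h

lemma toLin'_conj_range (g : GL ι F) (e : Matrix ι ι F) :
    (LinearMap.range (Matrix.toLin' e)).map (Matrix.toLin' (g : Matrix ι ι F)) =
      LinearMap.range (Matrix.toLin' (conjMat g e)) := by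
  apply le_antisymm
  · rintro w ⟨v, ⟨u, rfl⟩, rfl⟩
    refine ⟨(g : Matrix ι ι F) *ᵥ u, ?_⟩
    simp only [Matrix.toLin'_apply]
    rw [conjMat_mulVec]
  · rintro w ⟨u, rfl⟩
    refine ⟨e *ᵥ (((g⁻¹ : GL ι F) : Matrix ι ι F) *ᵥ u), ⟨_, rfl⟩, ?_⟩
    simp [conjMat_apply, Matrix.mulVec_mulVec, mul_assoc]

/-- A commutative subalgebra normalised by an irreducible group and containing a non-trivial
idempotent gives a system of imprimitivity. -/
theorem exists_decomposition_of_idempotent [Finite F] (Z : Subalgebra F (Matrix ι ι F))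
    (hcomm : ∀ x ∈ Z, ∀ y ∈ Z, x * y = y * x) {H : Subgroup (GL ι F)} (hirr : Irred H)
    (hconj : ∀ g ∈ H, ∀ x ∈ Z, conjMat g x ∈ Z)
    {e₀ : Matrix ι ι F} (he₀ : e₀ ∈ Z) (he₀i : e₀ * e₀ = e₀) (h0 : e₀ ≠ 0) (h1 : e₀ ≠ 1) :
    ∃ (t m : ℕ) (E : Fin t → Matrix ι ι F) (D : Fin t → Submodule F (ι → F)),
      Cfsg.Geo.IsMDecomposition m D ∧ H ≤ Cfsg.Geo.decompositionStabilizer D ∧
      (∀ i, E i ∈ Z ∧ E i * E i = E i ∧ D i = LinearMap.range (Matrix.toLin' (E i))) ∧
      (∀ i j, i ≠ j → E i * E j = 0) ∧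
      (∀ i, E i ≠ 0 ∧ ∀ f ∈ Z, f * f = f → E i * f = 0 ∨ E i * f = E i) ∧
      (∑ i, E i = 1) ∧ (∀ i j, ∃ g ∈ H, conjMat g (E j) = E i) := by
  classical
  -- primitive idempotents
  let P : Set (Matrix ι ι F) := {e | e ∈ Z ∧ e * e = e ∧ e ≠ 0 ∧
    ∀ f ∈ Z, f * f = f → e * f = 0 ∨ e * f = e}
  haveI : Finite (Matrix ι ι F) := inferInstance
  let r : Matrix ι ι F → ℕ := fun e => Module.finrank F (LinearMap.range (Matrix.toLin' e))
  obtain ⟨e, ⟨heZ, hei, he0⟩, hmin⟩ := Set.exists_min_image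
    {e | e ∈ Z ∧ e * e = e ∧ e ≠ 0} r (Set.toFinite _) ⟨e₀, he₀, he₀i, h0⟩
  have heP : e ∈ P := by
    refine ⟨heZ, hei, he0, fun f hf hfi => ?_⟩
    by_contra hcon
    push Not at hcon
    have hef : e * f ∈ Z := Subalgebra.mul_mem _ heZ hf
    have hefi : e * f * (e * f) = e * f := by
      calc e * f * (e * f) = e * (f * e) * f := by simp only [mul_assoc]
        _ = e * (e * f) * f := by rw [hcomm f hf e heZ]
        _ = (e * e) * (f * f) := by simp only [mul_assoc]
        _ = e * f := by rw [hei, hfi]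
    have hle := hmin _ ⟨hef, hefi, hcon.1⟩
    have hsub : LinearMap.range (Matrix.toLin' (e * f)) ≤ LinearMap.range (Matrix.toLin' e) := by
      rw [Matrix.toLin'_mul]
      exact LinearMap.range_comp_le_range _ _
    have heq := Submodule.eq_of_le_of_finrank_le hsub hle
    have : e * f * e = e := by
      apply Matrix.ext_of_mulVec_single
      intro i
      have : e *ᵥ Pi.single i 1 ∈ LinearMap.range (Matrix.toLin' (e * f)) := by
        rw [heq]
        exact ⟨Pi.single i 1, Matrix.toLin'_apply _ _⟩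
      obtain ⟨u, hu⟩ := this
      rw [Matrix.toLin'_apply] at hu
      rw [← Matrix.mulVec_mulVec, ← hu, Matrix.mulVec_mulVec, hefi]
    apply hcon.2
    rw [mul_assoc, hcomm f hf e heZ, ← mul_assoc, hei] at this
    exact this
  have hPconj : ∀ g ∈ H, ∀ x ∈ P, conjMat g x ∈ P := by
    rintro g hg x ⟨hx, hxi, hx0, hxp⟩
    refine ⟨hconj g hg x hx, by rw [← map_mul, hxi], by simpa using hx0, fun f hf hfi => ?_⟩
    have hf' : conjMat g⁻¹ f ∈ Z := hconj _ (inv_mem hg) f hf
    have hfe : conjMat g (conjMat g⁻¹ f) = f := by simp [conjMat_apply, mul_assoc]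
    rcases hxp _ hf' (by rw [← map_mul, hfi]) with h | h
    · left
      rw [← hfe, ← map_mul, h, map_zero]
    · right
      rw [← hfe, ← map_mul, h]
  have hortho : ∀ x ∈ P, ∀ y ∈ P, x ≠ y → x * y = 0 := by
    rintro x ⟨hx, hxi, hx0, hxp⟩ y ⟨hy, hyi, hy0, hyp⟩ hne
    rcases hxp y hy hyi with h | h
    · exact h
    · rcases hyp x hx hxi with h' | h'
      · rw [hcomm x hx y hy]; exact h'
      · exact absurd (h.symm.trans ((hcomm x hx y hy).trans h')) hne
  let Pf : Finset (Matrix ι ι F) := (Set.toFinite P).toFinset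
  have hmemPf : ∀ x, x ∈ Pf ↔ x ∈ P := fun x => (Set.toFinite P).mem_toFinset
  set t := Pf.card with ht
  let E : Fin t → Matrix ι ι F := fun i => (Pf.equivFin.symm i : Matrix ι ι F)
  have hEP : ∀ i, E i ∈ P := fun i => (hmemPf _).1 (Pf.equivFin.symm i).2
  have hEinj : Function.Injective E := fun i j h =>
    Pf.equivFin.symm.injective (Subtype.ext h)
  have hEsurj : ∀ x ∈ P, ∃ i, E i = x := fun x hx =>
    ⟨Pf.equivFin ⟨x, (hmemPf x).2 hx⟩, by simp [E]⟩
  let D : Fin t → Submodule F (ι → F) := fun i => LinearMap.range (Matrix.toLin' (E i))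
  have hperm : ∀ g ∈ H, ∃ σ : Equiv.Perm (Fin t), ∀ i, conjMat g (E i) = E (σ i) := by
    intro g hg
    choose s hs using fun i => hEsurj _ (hPconj g hg _ (hEP i))
    have hsinj : Function.Injective s := fun i j h =>
      hEinj ((conjMat g).injective (by rw [← hs i, ← hs j, h]))
    exact ⟨Equiv.ofBijective s ⟨hsinj, Finite.injective_iff_surjective.1 hsinj⟩,
      fun i => (hs i).symm⟩
  have hstab : H ≤ Cfsg.Geo.decompositionStabilizer D := by
    intro g hg
    obtain ⟨σ, hσ⟩ := hperm g hg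
    refine ⟨σ, fun i => ?_⟩
    show (LinearMap.range _).map _ = LinearMap.range _
    rw [toLin'_conj_range, hσ]
  have hne0 : ∀ i, D i ≠ ⊥ := by
    intro i h
    refine (hEP i).2.2.1 ?_
    apply Matrix.ext_of_mulVec_single
    intro j
    have : E i *ᵥ Pi.single j 1 ∈ D i := ⟨_, Matrix.toLin'_apply _ _⟩
    rw [h, Submodule.mem_bot] at this
    rw [this, Matrix.zero_mulVec]
  obtain ⟨i₁, hi₁⟩ := hEsurj e heP
  have hsup : iSup D = ⊤ := by
    obtain ⟨v, hv, hv0⟩ := Submodule.exists_mem_ne_zero_of_ne_bot (hne0 i₁)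
    refine hirr.eq_top (fun g hg => ?_) (le_iSup D i₁ hv) hv0
    obtain ⟨σ, hσ⟩ := hperm g hg
    have : iSup D ≤ (iSup D).comap (Matrix.toLin' (g : Matrix ι ι F)) := by
      refine iSup_le fun i => ?_
      rw [← Submodule.map_le_iff_le_comap]
      show (LinearMap.range _).map _ ≤ _
      rw [toLin'_conj_range, hσ]
      exact le_iSup D (σ i)
    intro w hw
    simpa using this hw
  have hfix : ∀ i, ∀ v ∈ D i, E i *ᵥ v = v := by
    rintro i v ⟨u, rfl⟩
    rw [Matrix.toLin'_apply, Matrix.mulVec_mulVec, (hEP i).2.1]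
  have hkill : ∀ i j, j ≠ i → ∀ v ∈ D j, E i *ᵥ v = 0 := by
    rintro i j hji v ⟨u, rfl⟩
    rw [Matrix.toLin'_apply, Matrix.mulVec_mulVec,
      hortho _ (hEP i) _ (hEP j) fun h => hji (hEinj h).symm, Matrix.zero_mulVec]
  have hindep : iSupIndep D := by
    rw [iSupIndep_def]
    intro i
    rw [Submodule.disjoint_def]
    intro v hv hv'
    have : (⨆ (j) (_ : j ≠ i), D j) ≤ LinearMap.ker (Matrix.toLin' (E i)) := by
      refine iSup₂_le fun j hj w hw => ?_
      simp [hkill i j hj w hw]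
    have h2 : E i *ᵥ v = 0 := by simpa using this hv'
    rw [← hfix i v hv, h2]
  have ht2 : 2 ≤ t := by
    by_contra hlt
    have hsub : ∀ i j : Fin t, i = j := fun i j => Fin.ext (by omega)
    have htop : D i₁ = ⊤ := by
      rw [← hsup]
      refine le_antisymm (le_iSup D i₁) (iSup_le fun j => ?_)
      rw [hsub j i₁]
    have he1 : e = 1 := by
      apply Matrix.ext_of_mulVec_single
      intro j
      rw [← hi₁, hfix i₁ _ (htop ▸ Submodule.mem_top), Matrix.one_mulVec]
    rcases heP.2.2.2 e₀ he₀ he₀i with h | h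
    · rw [he1, one_mul] at h; exact h0 h
    · rw [he1, one_mul] at h; exact h1 h
  have hmap : ∀ (g : GL ι F) (i k : Fin t), conjMat g (E i) = E k →
      (D i).map (Matrix.toLin' (g : Matrix ι ι F)) = D k := by
    intro g i k h
    show (LinearMap.range _).map _ = LinearMap.range _
    rw [toLin'_conj_range, h]
  have htrans : ∀ i j, ∃ g ∈ H, conjMat g (E j) = E i := by
    intro i j
    -- the orbit of the j-th part spans everything, so it contains the i-th part
    let S : Set (Fin t) := {k | ∃ g ∈ H, conjMat g (E j) = E k}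
    exact show i ∈ S by
      by_contra hno
      let W : Submodule F (ι → F) := ⨆ k ∈ S, D k
      obtain ⟨u, hu, hu0⟩ := Submodule.exists_mem_ne_zero_of_ne_bot (hne0 j)
      have hjS : j ∈ S := ⟨1, one_mem H, by simp [conjMat_apply]⟩
      have huW : u ∈ W := le_iSup₂ (f := fun k (_ : k ∈ S) => D k) j hjS hu
      have hWtop : W = ⊤ := by
        refine hirr.eq_top (fun g hg => ?_) huW hu0
        have : W ≤ W.comap (Matrix.toLin' (g : Matrix ι ι F)) := by
          refine iSup₂_le fun k hk => ?_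
          obtain ⟨σ, hσ⟩ := hperm g hg
          obtain ⟨h, hh, hhk⟩ := hk
          rw [← Submodule.map_le_iff_le_comap, hmap g k (σ k) (hσ k)]
          refine le_iSup₂ (f := fun k (_ : k ∈ S) => D k) (σ k) ⟨g * h, mul_mem hg hh, ?_⟩
          rw [← hσ k, ← hhk]
          simp [conjMat_apply, mul_assoc]
        intro w hw
        simpa using this hw
      have hker : W ≤ LinearMap.ker (Matrix.toLin' (E i)) := by
        refine iSup₂_le fun k hk w hw => ?_
        simp [hkill i k (fun h => hno (h ▸ hk)) w hw]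
      obtain ⟨v, hv, hv0⟩ := Submodule.exists_mem_ne_zero_of_ne_bot (hne0 i)
      have h2 : E i *ᵥ v = 0 := by simpa using hker (hWtop ▸ Submodule.mem_top (x := v))
      exact hv0 (by rw [← hfix i v hv, h2])
  have hone : ∑ i, E i = 1 := by
    apply Matrix.ext_of_mulVec_single
    intro j
    have hker : iSup D ≤ LinearMap.ker (Matrix.toLin' ((∑ i, E i) - 1)) := by
      refine iSup_le fun k w hw => ?_
      rw [LinearMap.mem_ker, Matrix.toLin'_apply, Matrix.sub_mulVec, Matrix.one_mulVec,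
        Matrix.sum_mulVec, Finset.sum_eq_single k (fun i _ hik => hkill i k hik.symm w hw)
          (fun h => absurd (Finset.mem_univ k) h), hfix k w hw, sub_self]
    have := hker (hsup ▸ Submodule.mem_top (x := (Pi.single j (1 : F) : ι → F)))
    rwa [LinearMap.mem_ker, Matrix.toLin'_apply, Matrix.sub_mulVec, sub_eq_zero] at this
  have hdim : ∀ i j, Module.finrank F (D i) = Module.finrank F (D j) := by
    intro i j
    obtain ⟨g, hg, hgi⟩ := htrans i j
    rw [← hmap g j i hgi]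
    exact (Submodule.equivMapOfInjective _ (fun a b h => by
      have h' := congrArg (fun x => ((g⁻¹ : GL ι F) : Matrix ι ι F) *ᵥ x) h
      simpa [Matrix.mulVec_mulVec] using h') (D j)).finrank_eq.symm
  refine ⟨t, Module.finrank F (D i₁), E, D, ?_, hstab,
    fun i => ⟨(hEP i).1, (hEP i).2.1, rfl⟩,
    fun i j hij => hortho _ (hEP i) _ (hEP j) fun h => hij (hEinj h),
    fun i => ⟨(hEP i).2.2.1, (hEP i).2.2.2⟩, hone, htrans⟩
  exact ⟨ht2, Submodule.one_le_finrank_iff.2 (hne0 i₁), fun i => hdim i i₁, hindep, hsup⟩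

/-- The elements of a commutative reduced finite algebra without idempotents are invertible. -/
theorem exists_inv_of_no_idempotent [Finite F] (Z : Subalgebra F (Matrix ι ι F))
    (hred : ∀ z ∈ Z, ∀ k : ℕ, z ^ k = 0 → z = 0)
    (hid : ∀ e ∈ Z, e * e = e → e = 0 ∨ e = 1)
    {z : Matrix ι ι F} (hz : z ∈ Z) (hz0 : z ≠ 0) : ∃ w ∈ Z, z * w = 1 := by
  obtain ⟨i, j, hne, heq⟩ := Finite.exists_ne_map_eq_of_infinite (fun k : ℕ => z ^ k)
  wlog hij : i < j generalizing i j
  · exact this j i hne.symm heq.symm (by omega)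
  obtain ⟨d, rfl⟩ : ∃ d, j = i + d := ⟨j - i, by omega⟩
  have heq' : z ^ i = z ^ (i + d) := heq
  have hper : ∀ k, z ^ (i + k * d) = z ^ i := by
    intro k
    induction k with
    | zero => simp
    | succ k ih =>
      rw [Nat.succ_mul, ← Nat.add_assoc, pow_add, ih, ← pow_add, ← heq']
  have hd : 1 ≤ d := by omega
  have him : i ≤ (i + 1) * d :=
    le_trans (Nat.le_succ i) (Nat.le_mul_of_pos_right _ hd)
  obtain ⟨c, hc⟩ : ∃ c, (i + 1) * d = i + c := ⟨(i + 1) * d - i, by omega⟩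
  have hidem : z ^ ((i + 1) * d) * z ^ ((i + 1) * d) = z ^ ((i + 1) * d) := by
    calc z ^ ((i + 1) * d) * z ^ ((i + 1) * d) = z ^ (c + (i + (i + 1) * d)) := by
          rw [← pow_add]; congr 1; omega
      _ = z ^ c * z ^ i := by rw [pow_add, hper]
      _ = z ^ ((i + 1) * d) := by rw [← pow_add, hc]; congr 1; omega
  rcases hid _ (Subalgebra.pow_mem _ hz _) hidem with h | h
  · exact absurd (hred z hz _ h) hz0
  · obtain ⟨c', hc'⟩ : ∃ c', (i + 1) * d = c' + 1 := ⟨(i + 1) * d - 1, by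
      have : 1 ≤ (i + 1) * d := Nat.mul_pos (by omega) hd
      omega⟩
    exact ⟨z ^ c', Subalgebra.pow_mem _ hz _, by rw [← pow_succ', ← hc', h]⟩

/-- A field of matrices bigger than the scalars contains a subfield of prime degree stable under
every power-preserving map of it. -/
theorem exists_prime_subfield [Fintype F] [Nonempty ι] (Z : Subalgebra F (Matrix ι ι F))
    (hcomm : ∀ x ∈ Z, ∀ y ∈ Z, x * y = y * x)
    (hinv : ∀ x ∈ Z, x ≠ 0 → ∃ y ∈ Z, x * y = 1)
    {z₀ : Matrix ι ι F} (hz₀ : z₀ ∈ Z) (hns : ∀ c : F, z₀ ≠ c • 1) :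
    ∃ (r : ℕ) (K : Subalgebra F (Matrix ι ι F)), r.Prime ∧ Cfsg.Geo.IsFieldSubalgebra r K ∧
      K ≤ Z ∧ (∀ x, x ∈ K ↔ x ∈ Z ∧ x ^ (Fintype.card F ^ r) = x) := by
  classical
  have hF : IsField Z :=
    { exists_pair_ne := ⟨0, 1, zero_ne_one⟩
      mul_comm := fun a b => Subtype.ext (hcomm a a.2 b b.2)
      mul_inv_cancel := fun {a} ha => by
        obtain ⟨y, hy, h⟩ := hinv a a.2 fun h => ha (Subtype.ext h)
        exact ⟨⟨y, hy⟩, Subtype.ext h⟩ }
  letI : Field Z := hF.toField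
  haveI : Finite Z := inferInstance
  haveI : Module.Finite F Z := Module.Finite.of_finite
  set d := Module.finrank F Z with hd
  have hd1 : d ≠ 1 := by
    intro h1
    have hbot : Z = ⊥ := by
      apply Subalgebra.eq_bot_of_finrank_one
      exact h1
    rw [hbot, Algebra.mem_bot] at hz₀
    obtain ⟨c, hc⟩ := hz₀
    exact hns c (by rw [← hc, Algebra.algebraMap_eq_smul_one])
  set r := d.minFac with hr
  have hrp : r.Prime := Nat.minFac_prime hd1
  set σ := FiniteField.frobeniusAlgEquivOfAlgebraic F Z ^ r with hσ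
  let K0 := IntermediateField.fixedField (Subgroup.zpowers σ)
  have hmem : ∀ x : Z, x ∈ K0 ↔ x ^ (Fintype.card F ^ r) = x := by
    intro x
    have hsx : σ x = x ^ (Fintype.card F ^ r) := by
      rw [hσ, AlgEquiv.coe_pow, FiniteField.coe_frobeniusAlgEquivOfAlgebraic_iterate]
    rw [IntermediateField.mem_fixedField_iff, ← hsx]
    constructor
    · exact fun h => h σ (Subgroup.mem_zpowers σ)
    · intro h τ hτ
      have hle : Subgroup.zpowers σ ≤ MulAction.stabilizer _ x :=
        Subgroup.zpowers_le.2 (MulAction.mem_stabilizer_iff.2 h)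
      exact MulAction.mem_stabilizer_iff.1 (hle hτ)
  have hfin : Module.finrank F K0 = r := by
    have h1 : Module.finrank K0 Z = orderOf σ := by
      rw [IntermediateField.finrank_fixedField_eq_card, Nat.card_zpowers]
    have h2 : orderOf σ = d / r := by
      rw [hσ, orderOf_pow' _ hrp.ne_zero, FiniteField.orderOf_frobeniusAlgEquivOfAlgebraic,
        ← hd, Nat.gcd_eq_right (Nat.minFac_dvd d)]
    have h3 := Module.finrank_mul_finrank F K0 Z
    rw [h1, h2, ← hd] at h3
    have h4 : r * (d / r) = d := Nat.mul_div_cancel' (Nat.minFac_dvd d)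
    have h5 : 0 < d / r := Nat.div_pos (Nat.minFac_le Module.finrank_pos) hrp.pos
    exact Nat.eq_of_mul_eq_mul_right h5 (h3.trans h4.symm)
  refine ⟨r, K0.toSubalgebra.map Z.val, hrp, ⟨?_, ?_, ?_⟩, ?_, ?_⟩
  · rintro x ⟨a, -, rfl⟩ y ⟨b, -, rfl⟩
    exact hcomm a a.2 b b.2
  · rintro x ⟨a, ha, rfl⟩ hx0
    have ha0 : a ≠ 0 := fun h => hx0 (by simp [h])
    refine ⟨Z.val a⁻¹, ⟨a⁻¹, K0.inv_mem ha, rfl⟩, ?_⟩
    exact (congrArg Subtype.val (mul_inv_cancel₀ ha0) : _)
  · rw [← hfin]
    exact (Subalgebra.equivMapOfInjective _ _ Subtype.val_injective).toLinearEquiv.finrank_eq.symm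
  · rintro x ⟨a, -, rfl⟩
    exact a.2
  · intro x
    constructor
    · rintro ⟨a, ha, rfl⟩
      refine ⟨a.2, ?_⟩
      rw [← map_pow]
      exact congrArg _ ((hmem a).1 ha)
    · rintro ⟨hx, hxq⟩
      exact ⟨⟨x, hx⟩, (hmem _).2 (Subtype.ext hxq), rfl⟩

/-- The centre of an algebra normalised by an irreducible group has no nilpotent elements. -/
theorem subCentre_reduced [Nonempty ι] [Finite F] (A : Subalgebra F (Matrix ι ι F))
    {H : Subgroup (GL ι F)} (hirr : Irred H) (hconj : ∀ g ∈ H, ∀ x ∈ A, conjMat g x ∈ A) :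
    ∀ z ∈ subCentre A, ∀ k : ℕ, z ^ k = 0 → z = 0 := by
  intro z hz k hk
  rw [mem_subCentre] at hz
  have : (⟨z, hz.1⟩ : A) ∈ Ideal.jacobson (⊥ : Ideal A) := by
    rw [Ideal.mem_jacobson_iff]
    intro y
    have hn : IsNilpotent (y * (⟨z, hz.1⟩ : A)) := by
      refine Commute.isNilpotent_mul_left ?_ ⟨k, Subtype.ext (by simpa using hk)⟩
      exact Subtype.ext (hz.2 y y.2)
    obtain ⟨w, hw⟩ := hn.isUnit_add_one.exists_left_inv
    refine ⟨w, ?_⟩
    rw [Submodule.mem_bot, sub_eq_zero, ← hw, mul_add, mul_one, mul_assoc]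
  rw [jacobson_bot_eq_bot A hirr hconj, Submodule.mem_bot] at this
  exact congrArg Subtype.val this

/-- The Clifford trichotomy for an algebra normalised by an irreducible group. -/
theorem center_trichotomy [Fintype F] [Nonempty ι] (A : Subalgebra F (Matrix ι ι F))
    {H : Subgroup (GL ι F)} (hirr : Irred H) (hconj : ∀ g ∈ H, ∀ x ∈ A, conjMat g x ∈ A) :
    (∃ (t m : ℕ) (D : Fin t → Submodule F (ι → F)),
      Cfsg.Geo.IsMDecomposition m D ∧ H ≤ Cfsg.Geo.decompositionStabilizer D) ∨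
    (∃ (r : ℕ) (K : Subalgebra F (Matrix ι ι F)), r.Prime ∧ Cfsg.Geo.IsFieldSubalgebra r K ∧
      H ≤ Cfsg.Geo.subalgebraNormalizer K) ∨
    (∃ a : ℕ, 0 < a ∧ Nonempty (A ≃ₐ[F] Matrix (Fin a) (Fin a) F)) := by
  classical
  have hZconj : ∀ g ∈ H, ∀ x ∈ subCentre A, conjMat g x ∈ subCentre A := fun g hg x hx =>
    conjMat_mem_subCentre (hconj g hg) (hconj _ (inv_mem hg)) hx
  have hZcomm : ∀ x ∈ subCentre A, ∀ y ∈ subCentre A, x * y = y * x := fun x hx y hy =>
    (mem_subCentre.1 hy).2 x (mem_subCentre.1 hx).1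
  have hJ := jacobson_bot_eq_bot A hirr hconj
  have hred := subCentre_reduced A hirr hconj
  by_cases hid : ∀ e ∈ subCentre A, e * e = e → e = 0 ∨ e = 1
  · by_cases hsc : ∀ z ∈ subCentre A, ∃ c : F, z = c • (1 : Matrix ι ι F)
    · right; right
      refine exists_algEquiv_matrix hJ fun z hz => ?_
      obtain ⟨c, hc⟩ := hsc z (mem_subCentre.2 ⟨z.2, fun a ha =>
        (congrArg Subtype.val (hz ⟨a, ha⟩)).symm⟩)
      exact ⟨c, Subtype.ext (by simpa [Algebra.algebraMap_eq_smul_one] using hc)⟩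
    · push Not at hsc
      obtain ⟨z₀, hz₀, hns⟩ := hsc
      obtain ⟨r, K, hrp, hK, -, hmem⟩ := exists_prime_subfield (subCentre A) hZcomm
        (fun x hx hx0 => exists_inv_of_no_idempotent _ hred hid hx hx0) hz₀ hns
      refine Or.inr (Or.inl ⟨r, K, hrp, hK, fun g hg => mem_subalgebraNormalizer fun x hx => ?_⟩)
      rw [hmem] at hx ⊢
      exact ⟨hZconj g hg x hx.1, by rw [← map_pow, hx.2]⟩
  · push Not at hid
    obtain ⟨e, he, hei, he0, he1⟩ := hid
    obtain ⟨t, m, E, D, hD, hle, -⟩ :=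
      exists_decomposition_of_idempotent _ hZcomm hirr hZconj he hei he0 he1
    exact Or.inl ⟨t, m, D, hD, hle⟩

end Cfsg.Agent.Aschbacher
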