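/-
Bilinear and sesquilinear forms as matrices: fixing, similarity, uniqueness up to a scalar for an
absolutely irreducible group, and similitudes coming from normalising a group of isometries.
-/
import Mathlib
import Cfsg.Agent.Aschbacher.Basic

set_option autoImplicit false
set_option linter.style.haveILetI false

namespace Cfsg.Agent.Aschbacher

open Matrix

variable {ι : Type} [Fintype ι] [DecidableEq ι] {F : Type*} [Field F]

/-- The form `(u, v) ↦ u ⬝ T σ(v)`. -/
def sesqForm (σ : F →+* F) (T : Matrix ι ι F) (u v : ι → F) : F :=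
  u ⬝ᵥ (T *ᵥ (σ ∘ v))

lemma map_mulVec_comp (σ : F →+* F) (M : Matrix ι ι F) (v : ι → F) :
    σ ∘ (M *ᵥ v) = M.map σ *ᵥ (σ ∘ v) :=
  funext fun i => RingHom.map_mulVec σ M v i

lemma sesqForm_mulVec (σ : F →+* F) (T g : Matrix ι ι F) (u v : ι → F) :
    sesqForm σ T (g *ᵥ u) (g *ᵥ v) = sesqForm σ (gᵀ * T * g.map σ) u v := by
  simp only [sesqForm, map_mulVec_comp]
  rw [← Matrix.mulVec_mulVec, ← Matrix.mulVec_mulVec, Matrix.dotProduct_mulVec u gᵀ,
    Matrix.vecMul_transpose]

lemma sesqForm_single (σ : F →+* F) (T : Matrix ι ι F) (i j : ι) :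
    sesqForm σ T (Pi.single i 1) (Pi.single j 1) = T i j := by
  have : σ ∘ (Pi.single j (1 : F) : ι → F) = Pi.single j 1 := by
    funext k
    by_cases h : k = j
    · subst h; simp
    · simp [Pi.single_eq_of_ne h]
  simp [sesqForm, this]

lemma sesqForm_smul (σ : F →+* F) (c : F) (T : Matrix ι ι F) (u v : ι → F) :
    sesqForm σ (c • T) u v = c * sesqForm σ T u v := by
  simp [sesqForm, Matrix.smul_mulVec, dotProduct_smul]

lemma sesqForm_inj (σ : F →+* F) {T T' : Matrix ι ι F}
    (h : ∀ u v, sesqForm σ T u v = sesqForm σ T' u v) : T = T' := by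
  ext i j
  have := h (Pi.single i 1) (Pi.single j 1)
  rwa [sesqForm_single, sesqForm_single] at this

/-- A form linear on the left and semilinear on the right is given by a matrix. -/
lemma exists_sesqForm (σ : F →+* F) (f : (ι → F) → (ι → F) → F)
    (hal : ∀ x y v, f (x + y) v = f x v + f y v)
    (hsl : ∀ (c : F) (x v : ι → F), f (c • x) v = c * f x v)
    (har : ∀ v x y, f v (x + y) = f v x + f v y)
    (hsr : ∀ (c : F) (v x : ι → F), f v (c • x) = σ c * f v x) :
    ∃ T : Matrix ι ι F, f = sesqForm σ T := by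
  refine ⟨Matrix.of fun i j => f (Pi.single i 1) (Pi.single j 1), ?_⟩
  funext u v
  let L : (ι → F) → (ι → F) →ₗ[F] F := fun v =>
    { toFun := fun u => f u v, map_add' := fun x y => hal x y v, map_smul' := fun c x => hsl c x v }
  let R : (ι → F) → (ι → F) →ₛₗ[σ] F := fun u =>
    { toFun := fun v => f u v, map_add' := fun x y => har u x y
      map_smul' := fun c x => hsr c u x }
  have hu : f u v = ∑ i, u i * f (Pi.single i 1) v := by
    conv_lhs => rw [pi_eq_sum_univ' u]
    show L v _ = _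
    rw [map_sum]
    exact Finset.sum_congr rfl fun i _ => by rw [map_smul]; rfl
  have hv : ∀ i, f (Pi.single i 1) v = ∑ j, σ (v j) * f (Pi.single i 1) (Pi.single j 1) := by
    intro i
    conv_lhs => rw [pi_eq_sum_univ' v]
    show R _ _ = _
    rw [map_sum]
    exact Finset.sum_congr rfl fun j _ => by rw [LinearMap.map_smulₛₗ]; rfl
  rw [hu]
  simp only [sesqForm, dotProduct, Matrix.mulVec, Matrix.of_apply, Function.comp_apply]
  exact Finset.sum_congr rfl fun i _ => by
    rw [hv]; congr 1; exact Finset.sum_congr rfl fun j _ => mul_comm _ _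

lemma isNondegenerateForm_sesqForm (σ : F →+* F) {T : Matrix ι ι F} (hT : IsUnit T.det) :
    Cfsg.Geo.IsNondegenerateForm (sesqForm σ T) := by
  intro v hv
  have hσv : σ ∘ v ≠ 0 := by
    intro h
    exact hv (funext fun i => σ.injective (by simpa using congrFun h i))
  constructor
  · obtain ⟨i, hi⟩ : ∃ i, (T *ᵥ (σ ∘ v)) i ≠ 0 := by
      by_contra h
      push Not at h
      exact hσv (Matrix.eq_zero_of_mulVec_eq_zero hT.ne_zero (funext h))
    exact ⟨Pi.single i 1, by simpa [sesqForm] using hi⟩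
  · obtain ⟨j, hj⟩ : ∃ j, (v ᵥ* T) j ≠ 0 := by
      by_contra h
      push Not at h
      exact hv (Matrix.eq_zero_of_vecMul_eq_zero hT.ne_zero (funext h))
    refine ⟨Pi.single j 1, ?_⟩
    have : σ ∘ (Pi.single j (1 : F) : ι → F) = Pi.single j 1 := by
      funext k
      by_cases h : k = j
      · subst h; simp
      · simp [Pi.single_eq_of_ne h]
    rw [sesqForm, this, Matrix.dotProduct_mulVec]
    simpa using hj

lemma isUnit_det_of_nondegenerate [Finite F] (σ : F →+* F) {T : Matrix ι ι F}
    (h : Cfsg.Geo.IsNondegenerateForm (sesqForm σ T)) : IsUnit T.det := by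
  rw [isUnit_iff_ne_zero]
  intro hdet
  obtain ⟨w, hw0, hw⟩ := Matrix.exists_mulVec_eq_zero_iff.2 hdet
  have hσ : Function.Surjective σ := Finite.injective_iff_surjective.1 σ.injective
  choose v hv using fun i => hσ (w i)
  have hv' : σ ∘ v = w := funext hv
  have hv0 : v ≠ 0 := by
    rintro rfl
    exact hw0 (hv' ▸ funext fun i => map_zero σ)
  obtain ⟨x, hx⟩ := (h v hv0).1
  exact hx (by rw [sesqForm, hv', hw, dotProduct_zero])

/-- Every member of `P` is an isometry of the form with matrix `T`. -/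
def Fixes (σ : F →+* F) (P : Subgroup (GL ι F)) (T : Matrix ι ι F) : Prop :=
  ∀ s ∈ P, (s : Matrix ι ι F)ᵀ * T * (s : Matrix ι ι F).map σ = T

lemma fixesForm_iff (σ : F →+* F) (P : Subgroup (GL ι F)) (T : Matrix ι ι F) :
    Cfsg.Geo.FixesForm (Cfsg.Geo.matrixSet P) (sesqForm σ T) ↔ Fixes σ P T := by
  constructor
  · intro h s hs
    apply sesqForm_inj σ
    intro u v
    rw [← sesqForm_mulVec]
    exact h _ (mem_matrixSet hs) u v
  · rintro h _ ⟨s, hs, rfl⟩ u v
    rw [sesqForm_mulVec, h s hs]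

lemma coe_inv_mul_map (σ : F →+* F) (s : GL ι F) :
    (s : Matrix ι ι F).map σ * ((s⁻¹ : GL ι F) : Matrix ι ι F).map σ = 1 := by
  rw [← Matrix.map_mul, Units.mul_inv, Matrix.map_one σ (map_zero σ) (map_one σ)]

/-- A form fixed by an absolutely irreducible group is unique up to a scalar. -/
theorem exists_smul_of_fixes (σ : F →+* F) {P : Subgroup (GL ι F)}
    (habs : Cfsg.Geo.ActsAbsolutelyIrreducibly (Cfsg.Geo.matrixSet P)) {T T' : Matrix ι ι F}
    (hT : IsUnit T.det) (h : Fixes σ P T) (h' : Fixes σ P T') : ∃ c : F, T' = c • T := by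
  obtain ⟨c, hc⟩ := habs.2 (T' * T⁻¹)ᵀ (by
    rintro _ ⟨s, hs, rfl⟩
    have hM : (s : Matrix ι ι F)ᵀ * (T' * T⁻¹) = (T' * T⁻¹) * (s : Matrix ι ι F)ᵀ := by
      set S : Matrix ι ι F := (s : Matrix ι ι F)ᵀ
      set S' : Matrix ι ι F := (s : Matrix ι ι F).map σ
      set S'' : Matrix ι ι F := ((s⁻¹ : GL ι F) : Matrix ι ι F).map σ
      have h1 : S * T * S' = T := h s hs
      have h2 : S * T' * S' = T' := h' s hs
      have hS : S' * S'' = 1 := coe_inv_mul_map σ s
      have h3 : S * T = T * S'' := by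
        rw [← mul_one (S * T), ← hS, ← mul_assoc, h1]
      have h4 : S * T' = T' * S'' := by
        rw [← mul_one (S * T'), ← hS, ← mul_assoc, h2]
      have h5 : T⁻¹ * S = S'' * T⁻¹ := by
        have := congrArg (fun M => T⁻¹ * M * T⁻¹) h3
        simp only [mul_assoc, Matrix.mul_nonsing_inv T hT, mul_one] at this
        rwa [← mul_assoc T⁻¹ T, Matrix.nonsing_inv_mul T hT, one_mul] at this
      rw [← mul_assoc, h4, mul_assoc, mul_assoc, h5]
    have := congrArg Matrix.transpose hM
    simpa [Matrix.transpose_mul] using this)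
  refine ⟨c, ?_⟩
  have h1 := congrArg Matrix.transpose hc
  rw [Matrix.transpose_transpose, Matrix.transpose_smul, Matrix.transpose_one] at h1
  have := congrArg (fun M => M * T) h1
  simpa [mul_assoc, Matrix.nonsing_inv_mul T hT] using this

/-- What normalises an absolutely irreducible group of isometries is a similitude. -/
theorem mem_similarityGroup_of_normalizes [Nonempty ι] (σ : F →+* F) {P : Subgroup (GL ι F)}
    (habs : Cfsg.Geo.ActsAbsolutelyIrreducibly (Cfsg.Geo.matrixSet P)) {T : Matrix ι ι F}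
    (hT : IsUnit T.det) (h : Fixes σ P T) {g : GL ι F} (hg : ∀ s ∈ P, g * s * g⁻¹ ∈ P) :
    g ∈ Cfsg.Geo.similarityGroup (sesqForm σ T) := by
  set T' := (g : Matrix ι ι F)ᵀ * T * (g : Matrix ι ι F).map σ with hT'
  have hdet : T'.det ≠ 0 := by
    have h1 : ((g : Matrix ι ι F).map σ).det ≠ 0 := by
      rw [← RingHom.mapMatrix_apply, ← RingHom.map_det]
      exact fun h0 => (Matrix.GeneralLinearGroup.det g).ne_zero ((map_eq_zero σ).1 h0)
    rw [hT', Matrix.det_mul, Matrix.det_mul, Matrix.det_transpose]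
    exact mul_ne_zero (mul_ne_zero (Matrix.GeneralLinearGroup.det g).ne_zero hT.ne_zero) h1
  have h' : Fixes σ P T' := by
    intro s hs
    have h2 := h _ (hg s hs)
    have e1 : (g : Matrix ι ι F) * (s : Matrix ι ι F) =
        ((g * s * g⁻¹ : GL ι F) : Matrix ι ι F) * (g : Matrix ι ι F) := by
      simp [mul_assoc]
    calc (s : Matrix ι ι F)ᵀ * T' * (s : Matrix ι ι F).map σ
        = ((g : Matrix ι ι F) * (s : Matrix ι ι F))ᵀ * T *
            ((g : Matrix ι ι F) * (s : Matrix ι ι F)).map σ := by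
          rw [hT', Matrix.transpose_mul, Matrix.map_mul]; simp only [mul_assoc]
      _ = (g : Matrix ι ι F)ᵀ * (((g * s * g⁻¹ : GL ι F) : Matrix ι ι F)ᵀ * T *
            ((g * s * g⁻¹ : GL ι F) : Matrix ι ι F).map σ) * (g : Matrix ι ι F).map σ := by
          rw [e1, Matrix.transpose_mul, Matrix.map_mul]; simp only [mul_assoc]
      _ = T' := by rw [h2]
  obtain ⟨c, hc⟩ := exists_smul_of_fixes σ habs hT h h'
  have hc0 : c ≠ 0 := by
    rintro rfl
    rw [zero_smul] at hc
    exact hdet (by rw [hc, Matrix.det_zero])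
  exact ⟨Units.mk0 c hc0, fun u v => by
    rw [sesqForm_mulVec, ← hT', hc, sesqForm_smul, Units.val_mk0]⟩

lemma sesqForm_id_transpose (T : Matrix ι ι F) (u v : ι → F) :
    sesqForm (RingHom.id F) T v u = sesqForm (RingHom.id F) Tᵀ u v := by
  simp only [sesqForm, RingHom.coe_id, Function.id_comp]
  rw [Matrix.mulVec_transpose, dotProduct_comm u, Matrix.dotProduct_mulVec]

lemma isBilinearForm_sesqForm (T : Matrix ι ι F) :
    Cfsg.Geo.IsBilinearForm (sesqForm (RingHom.id F) T) where
  add_left x y v := by simp [sesqForm, add_dotProduct]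
  smul_left c x v := by simp [sesqForm, smul_dotProduct]
  add_right v x y := by simp [sesqForm, Matrix.mulVec_add, dotProduct_add]
  smul_right c v x := by simp [sesqForm, Matrix.mulVec_smul, dotProduct_smul]

lemma exists_sesqForm_of_bilinear {f : (ι → F) → (ι → F) → F} (hf : Cfsg.Geo.IsBilinearForm f) :
    ∃ T : Matrix ι ι F, f = sesqForm (RingHom.id F) T :=
  exists_sesqForm _ f hf.add_left hf.smul_left hf.add_right hf.smul_right

lemma exists_sesqForm_of_unitary {σ : F ≃+* F} {f : (ι → F) → (ι → F) → F}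
    (hf : Cfsg.Geo.IsUnitaryForm σ f) : ∃ T : Matrix ι ι F, f = sesqForm σ.toRingHom T := by
  refine exists_sesqForm _ f hf.add_left hf.smul_left (fun v x y => ?_) (fun c v x => ?_)
  · rw [hf.herm, hf.add_left, map_add, ← hf.herm, ← hf.herm]
  · rw [hf.herm, hf.smul_left, map_mul, ← hf.herm]
    rfl

/-- An invertible skew matrix with zero diagonal has even size. -/
theorem even_card_of_alternating {T : Matrix ι ι F} (hskew : Tᵀ = -T) (hdiag : ∀ i, T i i = 0)
    (hT : IsUnit T.det) : Even (Fintype.card ι) := by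
  by_contra hodd
  rw [Nat.not_even_iff_odd] at hodd
  apply hT.ne_zero
  rw [Matrix.det_apply']
  have hT' : ∀ i j, T j i = -T i j := fun i j => congrFun (congrFun hskew i) j
  refine Finset.sum_involution (fun s _ => s⁻¹) (fun s _ => ?_) (fun s _ hs => ?_)
    (fun s _ => Finset.mem_univ _) (fun s _ => inv_inv s)
  · rw [Equiv.Perm.sign_inv, ← mul_add]
    have : (∏ i, T (s⁻¹ i) i) = -∏ i, T (s i) i := by
      rw [← Equiv.prod_comp s]
      simp only [Equiv.Perm.coe_inv, Equiv.symm_apply_apply]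
      rw [show (∏ i, T i (s i)) = ∏ i, -T (s i) i from Finset.prod_congr rfl fun i _ => hT' (s i) i,
        Finset.prod_neg, Finset.card_univ, hodd.neg_one_pow, neg_one_mul]
    rw [this, add_neg_cancel, mul_zero]
  · intro hinv
    apply hs
    obtain ⟨i, hi⟩ := Equiv.Perm.exists_fixed_point_of_prime (p := 2) (n := 1)
      (by rw [← even_iff_two_dvd, Nat.not_even_iff_odd]; exact hodd) (σ := s)
      (by rw [pow_one, pow_two]; nth_rw 1 [← hinv]; exact inv_mul_cancel s)
    exact mul_eq_zero_of_right _ (Finset.prod_eq_zero (Finset.mem_univ i) (by rw [hi, hdiag]))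

/-- A skew matrix with zero diagonal gives a symplectic form. -/
theorem isSymplecticForm_sesqForm {T : Matrix ι ι F} (hskew : Tᵀ = -T) (hdiag : ∀ i, T i i = 0)
    (hT : IsUnit T.det) : Cfsg.Geo.IsSymplecticForm (sesqForm (RingHom.id F) T) := by
  classical
  have hskew' : ∀ v w, sesqForm (RingHom.id F) T v w = -sesqForm (RingHom.id F) T w v := by
    intro v w
    rw [sesqForm_id_transpose T w v, hskew]
    simp [sesqForm, Matrix.neg_mulVec]
  refine ⟨isBilinearForm_sesqForm T, fun v w => (hskew' v w), fun v => ?_,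
    isNondegenerateForm_sesqForm _ hT⟩
  have hsum : sesqForm (RingHom.id F) T v v = ∑ p : ι × ι, v p.1 * (T p.1 p.2 * v p.2) := by
    rw [Fintype.sum_prod_type]
    simp [sesqForm, dotProduct, Matrix.mulVec, Finset.mul_sum]
  rw [hsum]
  have hT' : ∀ i j, T j i = -T i j := fun i j => congrFun (congrFun hskew i) j
  refine Finset.sum_involution (fun p _ => p.swap) (fun p _ => ?_) (fun p _ hp heq => ?_)
    (fun p _ => Finset.mem_univ _) (fun p _ => Prod.swap_swap p)
  · simp only [Prod.fst_swap, Prod.snd_swap]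
    rw [hT' p.1 p.2]; ring
  · apply hp
    have h12 : p.2 = p.1 := congrArg Prod.fst heq
    rw [h12, hdiag]; ring

/-- A symmetric matrix gives a quadratic form in odd characteristic. -/
theorem exists_quadratic_of_symm (h2 : (2 : F) ≠ 0) {T : Matrix ι ι F} (hsymm : Tᵀ = T)
    (hT : IsUnit T.det) :
    Cfsg.Geo.IsNondegenerateQuadraticForm (fun v => sesqForm (RingHom.id F) T v v) ∧
      ∀ g : GL ι F, g ∈ Cfsg.Geo.similarityGroup (sesqForm (RingHom.id F) T) →
        g ∈ Cfsg.Geo.quadSimilarityGroup (fun v => sesqForm (RingHom.id F) T v v) := by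
  have hb := isBilinearForm_sesqForm (ι := ι) T
  have hpolar : QuadraticMap.polar (fun v => sesqForm (RingHom.id F) T v v) =
      fun u v => 2 * sesqForm (RingHom.id F) T u v := by
    funext u v
    simp only [QuadraticMap.polar, hb.add_left, hb.add_right]
    rw [sesqForm_id_transpose T u v, hsymm]
    ring
  refine ⟨⟨fun c v => ?_, ?_, ?_⟩, fun g hg => ?_⟩
  · rw [hb.smul_left, hb.smul_right, sq, mul_assoc]
  · rw [hpolar]
    exact
      { add_left := fun x y v => by rw [hb.add_left, mul_add]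
        smul_left := fun c x v => by rw [hb.smul_left]; ring
        add_right := fun v x y => by rw [hb.add_right, mul_add]
        smul_right := fun c v x => by rw [hb.smul_right]; ring }
  · rw [hpolar]
    intro v hv
    obtain ⟨⟨x, hx⟩, ⟨y, hy⟩⟩ := isNondegenerateForm_sesqForm (RingHom.id F) hT v hv
    exact ⟨⟨x, mul_ne_zero h2 hx⟩, ⟨y, mul_ne_zero h2 hy⟩⟩
  · obtain ⟨c, hc⟩ := hg
    exact ⟨c, fun v => hc v v⟩

end Cfsg.Agent.Aschbacher
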