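/-
Tensor decompositions: commuting full matrix subalgebras generating the whole matrix algebra give a
change of basis turning them into tensor factors, and whatever normalises them lies in the
corresponding tensor-product or tensor-wreath group.
-/
import Mathlib
import Cfsg.Agent.Aschbacher.Clifford

set_option autoImplicit false
set_option linter.style.haveILetI false

namespace Cfsg.Agent.Aschbacher

open Matrix
open scoped Kronecker

variable {ι : Type} [Fintype ι] [DecidableEq ι] {F : Type*} [Field F]

/-- Every algebra automorphism of a matrix algebra over a field is inner. -/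
theorem exists_conjMat_eq (f : Matrix ι ι F ≃ₐ[F] Matrix ι ι F) :
    ∃ P : GL ι F, ∀ M, f M = conjMat P M := by
  obtain ⟨T, hT⟩ := AlgEquiv.eq_linearEquivConjAlgEquiv
    ((Matrix.toLinAlgEquiv'.symm.trans f).trans Matrix.toLinAlgEquiv')
  refine ⟨⟨LinearMap.toMatrixAlgEquiv' T.toLinearMap,
    LinearMap.toMatrixAlgEquiv' T.symm.toLinearMap,
    by rw [← map_mul, show T.toLinearMap * T.symm.toLinearMap = 1 from
      LinearMap.ext fun x => T.apply_symm_apply x, map_one],
    by rw [← map_mul, show T.symm.toLinearMap * T.toLinearMap = 1 from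
      LinearMap.ext fun x => T.symm_apply_apply x, map_one]⟩, fun M => ?_⟩
  have h := congrArg (fun φ => Matrix.toLinAlgEquiv'.symm (φ (Matrix.toLinAlgEquiv' M))) hT
  simp only [AlgEquiv.trans_apply, AlgEquiv.symm_apply_apply] at h
  rw [h, conjMat_apply]
  simp only [Units.inv_mk]
  rw [Matrix.toLinAlgEquiv'_symm]
  conv_rhs => rw [← LinearMap.toMatrixAlgEquiv'_toLinAlgEquiv' M]
  rw [← map_mul, ← map_mul]
  congr 1

lemma algHom_matrix_injective [Nonempty ι] {κ : Type} [Fintype κ] [DecidableEq κ]
    (Θ : Matrix κ κ F →ₐ[F] Matrix ι ι F) : Function.Injective Θ := by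
  rcases isEmpty_or_nonempty κ with hκ | hκ
  · intro x y _
    exact Subsingleton.elim x y
  · exact RingHom.injective Θ.toRingHom

/-- A surjective algebra map from a full matrix algebra is a change of basis. -/
theorem exists_basis_of_surjective [Nonempty ι] {κ : Type} [Fintype κ] [DecidableEq κ]
    (Θ : Matrix κ κ F →ₐ[F] Matrix ι ι F) (hsurj : Function.Surjective Θ) :
    ∃ (e : ι ≃ κ) (P : GL ι F), ∀ M, Θ M = conjMat P (M.submatrix e e) := by
  let Φ : Matrix κ κ F ≃ₐ[F] Matrix ι ι F :=
    AlgEquiv.ofBijective Θ ⟨algHom_matrix_injective Θ, hsurj⟩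
  have hcard : Fintype.card ι = Fintype.card κ := by
    have h := Φ.toLinearEquiv.finrank_eq
    rw [Module.finrank_matrix, Module.finrank_matrix, Module.finrank_self, mul_one, mul_one] at h
    exact (Nat.mul_self_inj.1 h).symm
  let e : ι ≃ κ := Fintype.equivOfCardEq hcard
  obtain ⟨P, hP⟩ := exists_conjMat_eq ((Matrix.reindexAlgEquiv F F e).trans Φ)
  refine ⟨e, P, fun M => ?_⟩
  have h := hP (M.submatrix e e)
  simp only [AlgEquiv.trans_apply, Matrix.reindexAlgEquiv_apply, Matrix.reindex_apply,
    Matrix.submatrix_submatrix, Equiv.self_comp_symm, Matrix.submatrix_id_id] at h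
  exact h

lemma coe_glReindex {κ : Type} [Fintype κ] [DecidableEq κ] (e : κ ≃ ι) (g : GL κ F) :
    ((Cfsg.Geo.glReindex e g : GL ι F) : Matrix ι ι F) = (g : Matrix κ κ F).submatrix e.symm e.symm :=
  rfl

/-- An element of GL(ι) rewritten in the coordinates given by `e` and `P`. -/
noncomputable def glCoord {κ : Type} [Fintype κ] [DecidableEq κ] (e : ι ≃ κ) (P g : GL ι F) :
    GL κ F :=
  Cfsg.Geo.glReindex e (P⁻¹ * g * P)

lemma conj_glReindex_glCoord {κ : Type} [Fintype κ] [DecidableEq κ] (e : ι ≃ κ) (P g : GL ι F) :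
    (MulAut.conj P) (Cfsg.Geo.glReindex e.symm (glCoord e P g)) = g := by
  have : Cfsg.Geo.glReindex e.symm (glCoord e P g) = P⁻¹ * g * P := by
    apply Units.ext
    rw [coe_glReindex, glCoord, coe_glReindex]
    simp
  rw [this, MulAut.conj_apply]
  group

lemma conjMat_glCoord {κ : Type} [Fintype κ] [DecidableEq κ] (e : ι ≃ κ) (P g : GL ι F)
    (M : Matrix κ κ F) : conjMat P ((conjMat (glCoord e P g) M).submatrix e e) =
      conjMat g (conjMat P (M.submatrix e e)) := by
  simp only [conjMat_apply, glCoord]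
  rw [← map_inv]
  simp only [coe_glReindex]
  rw [← Matrix.submatrix_mul_equiv _ _ e e e, ← Matrix.submatrix_mul_equiv _ _ e e e]
  simp [mul_assoc, Matrix.submatrix_submatrix]

/-- The tensor product of a family of matrices, indexed by tuples. -/
def pureTensor {m t : ℕ} :
    (Fin t → Matrix (Fin m) (Fin m) F) →* Matrix (Fin t → Fin m) (Fin t → Fin m) F where
  toFun x := Matrix.of fun f g => ∏ i, x i (f i) (g i)
  map_one' := by
    ext f g
    rw [Matrix.of_apply, Matrix.one_apply]
    by_cases h : f = g
    · subst h; simp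
    · rw [if_neg h]
      obtain ⟨i, hi⟩ := Function.ne_iff.1 h
      exact Finset.prod_eq_zero (Finset.mem_univ i) (by simp [Matrix.one_apply, hi])
  map_mul' x y := by
    ext f g
    simp only [Matrix.mul_apply, Matrix.of_apply, Pi.mul_apply]
    rw [Fintype.prod_sum]
    simp [Finset.prod_mul_distrib]

lemma pureTensor_apply {m t : ℕ} (x : Fin t → Matrix (Fin m) (Fin m) F) (f g : Fin t → Fin m) :
    pureTensor x f g = ∏ i, x i (f i) (g i) := rfl

lemma pureTensor_single {m t : ℕ} (f g : Fin t → Fin m) :
    pureTensor (fun i => Matrix.single (f i) (g i) (1 : F)) = Matrix.single f g 1 := by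
  ext a b
  rw [pureTensor_apply]
  by_cases h : f = a ∧ g = b
  · obtain ⟨rfl, rfl⟩ := h
    simp
  · rw [Matrix.single_apply_of_ne _ _ _ _ _ h]
    rcases not_and_or.1 h with h | h
    · obtain ⟨i, hi⟩ := Function.ne_iff.1 h
      exact Finset.prod_eq_zero (Finset.mem_univ i)
        (Matrix.single_apply_of_ne _ _ _ _ _ fun hh => hi hh.1)
    · obtain ⟨i, hi⟩ := Function.ne_iff.1 h
      exact Finset.prod_eq_zero (Finset.mem_univ i)
        (Matrix.single_apply_of_ne _ _ _ _ _ fun hh => hi hh.2)

/-- The embedding of the `i`-th tensor factor. -/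
def slotHom {m t : ℕ} (i : Fin t) :
    Matrix (Fin m) (Fin m) F →ₐ[F] Matrix (Fin t → Fin m) (Fin t → Fin m) F where
  toFun x := pureTensor (Pi.mulSingle i x)
  map_one' := by rw [Pi.mulSingle_one, map_one]
  map_mul' x y := by rw [Pi.mulSingle_mul, map_mul]
  map_zero' := by
    ext f g
    rw [pureTensor_apply, Matrix.zero_apply]
    exact Finset.prod_eq_zero (Finset.mem_univ i) (by simp)
  map_add' x y := by
    ext f g
    simp only [Matrix.add_apply, pureTensor_apply]
    rw [← Finset.mul_prod_erase _ _ (Finset.mem_univ i), ← Finset.mul_prod_erase _ _ (Finset.mem_univ i),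
      ← Finset.mul_prod_erase _ _ (Finset.mem_univ i)]
    simp only [Pi.mulSingle_eq_same, Matrix.add_apply, add_mul]
    congr 1 <;>
      (congr 1
       refine Finset.prod_congr rfl fun j hj => ?_
       rw [Pi.mulSingle_eq_of_ne (Finset.ne_of_mem_erase hj),
        Pi.mulSingle_eq_of_ne (Finset.ne_of_mem_erase hj)])
  commutes' c := by
    ext f g
    rw [pureTensor_apply, ← Finset.mul_prod_erase _ _ (Finset.mem_univ i)]
    simp only [Pi.mulSingle_eq_same, Matrix.algebraMap_matrix_apply]
    by_cases h : f = g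
    · subst h
      simp only [if_true]
      rw [Finset.prod_eq_one fun j hj => ?_, mul_one]
      simp [Pi.mulSingle_eq_of_ne (Finset.ne_of_mem_erase hj)]
    · rw [if_neg h]
      obtain ⟨j, hj⟩ := Function.ne_iff.1 h
      by_cases hji : j = i
      · subst hji; simp [hj]
      · rw [Finset.prod_eq_zero (Finset.mem_erase.2 ⟨hji, Finset.mem_univ j⟩)
          (by simp [Pi.mulSingle_eq_of_ne hji, Matrix.one_apply, hj]), mul_zero]

lemma slotHom_apply {m t : ℕ} (i : Fin t) (x : Matrix (Fin m) (Fin m) F) :
    slotHom i x = pureTensor (Pi.mulSingle i x) := rfl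

/-- A family of pairwise commuting algebra maps from full matrix algebras whose images generate the
whole algebra is given by a tensor decomposition. -/
theorem exists_tensor_basis [Nonempty ι] {m t : ℕ} (φ : Fin t → (Matrix (Fin m) (Fin m) F →ₐ[F] Matrix ι ι F))
    (hcomm : ∀ i j, i ≠ j → ∀ x y, Commute (φ i x) (φ j y))
    (hgen : Algebra.adjoin F (⋃ i, Set.range (φ i)) = ⊤) :
    ∃ (e : ι ≃ (Fin t → Fin m)) (P : GL ι F),
      ∀ i x, φ i x = conjMat P ((slotHom i x).submatrix e e) := by
  classical
  let ψ : Fin t → (Matrix (Fin m) (Fin m) F →* Matrix ι ι F) := fun i =>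
    (φ i : Matrix (Fin m) (Fin m) F →* Matrix ι ι F)
  have hψ : Pairwise fun i j => ∀ x y, Commute (ψ i x) (ψ j y) :=
    fun i j hij x y => hcomm i j hij x y
  let Φ : (Fin t → Matrix (Fin m) (Fin m) F) →* Matrix ι ι F :=
    MonoidHom.noncommPiCoprod ψ hψ
  have hΦsingle : ∀ i (x : Matrix (Fin m) (Fin m) F), Φ (Pi.mulSingle i x) = φ i x :=
    fun i x => (MonoidHom.noncommPiCoprod_mulSingle ψ (hcomm := hψ) i x).trans rfl
  have hsplit : ∀ (x : Fin t → Matrix (Fin m) (Fin m) F) (i : Fin t) (a : Matrix (Fin m) (Fin m) F),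
      Φ (Function.update x i a) = Φ (Function.update x i 1) * φ i a := by
    intro x i a
    rw [← hΦsingle, ← map_mul]
    congr 1
    funext j
    by_cases h : j = i
    · subst h; simp
    · simp [Pi.mulSingle_eq_of_ne h, Function.update_of_ne h]
  let L : MultilinearMap F (fun _ : Fin t => Matrix (Fin m) (Fin m) F) (Matrix ι ι F) :=
    MultilinearMap.mk' Φ
      (fun x i a b => by rw [hsplit, hsplit x i a, hsplit x i b, map_add, mul_add])
      (fun x i c a => by rw [hsplit, hsplit x i a, map_smul, mul_smul_comm])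
  let E : (Fin t → Fin m) → (Fin t → Fin m) → Matrix ι ι F := fun f g =>
    Φ fun i => Matrix.single (f i) (g i) 1
  have hzero : ∀ (x : Fin t → Matrix (Fin m) (Fin m) F) (i : Fin t), x i = 0 → Φ x = 0 := by
    intro x i hi
    exact L.map_coord_zero i hi
  let Θl : Matrix (Fin t → Fin m) (Fin t → Fin m) F →ₗ[F] Matrix ι ι F :=
    ∑ f, ∑ g, (Matrix.entryLinearMap F F f g).smulRight (E f g)
  have hΘl : ∀ M, Θl M = ∑ f, ∑ g, M f g • E f g := by
    intro M
    simp [Θl]
  have hΘsingle : ∀ f g, Θl (Matrix.single f g 1) = E f g := by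
    intro f g
    rw [hΘl, Finset.sum_eq_single f _ (fun h => absurd (Finset.mem_univ f) h),
      Finset.sum_eq_single g _ (fun h => absurd (Finset.mem_univ g) h)]
    · simp
    · intro b _ hb
      rw [Matrix.single_apply_of_ne _ _ _ _ _ (fun h => hb h.2.symm), zero_smul]
    · intro b _ hb
      refine Finset.sum_eq_zero fun c _ => ?_
      rw [Matrix.single_apply_of_ne _ _ _ _ _ (fun h => hb h.1.symm), zero_smul]
  have hΘpure : ∀ x, Θl (pureTensor x) = Φ x := by
    intro x
    have hx : x = fun i => ∑ ab : Fin m × Fin m, x i ab.1 ab.2 • Matrix.single ab.1 ab.2 (1 : F) := by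
      funext i
      conv_lhs => rw [Matrix.matrix_eq_sum_single (x i)]
      rw [Fintype.sum_prod_type]
      simp [Matrix.smul_single]
    have h1 : Φ x = ∑ r : Fin t → Fin m × Fin m,
        (∏ i, x i (r i).1 (r i).2) • E (fun i => (r i).1) (fun i => (r i).2) := by
      conv_lhs => rw [hx]
      rw [show Φ _ = L _ from rfl, L.map_sum]
      refine Finset.sum_congr rfl fun r _ => ?_
      rw [L.map_smul_univ]
      rfl
    rw [h1, hΘl, ← (Equiv.arrowProdEquivProdArrow (Fin t) (fun _ => Fin m) (fun _ => Fin m)).symm.sum_comp,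
      Fintype.sum_prod_type]
    rfl
  have hmul : ∀ M N, Θl (M * N) = Θl M * Θl N := by
    intro M N
    induction M using Matrix.induction_on' with
    | h_zero => simp
    | h_add p q hp hq => rw [add_mul, map_add, map_add, hp, hq, add_mul]
    | h_std_basis f g c =>
      induction N using Matrix.induction_on' with
      | h_zero => simp
      | h_add p q hp hq => rw [mul_add, map_add, map_add, hp, hq, mul_add]
      | h_std_basis f' g' d =>
        rw [← mul_one c, ← mul_one d, ← smul_eq_mul c, ← smul_eq_mul d, ← Matrix.smul_single,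
          ← Matrix.smul_single]
        simp only [map_smul, smul_mul_assoc, mul_smul_comm]
        congr 2
        rw [← pureTensor_single f g, ← pureTensor_single f' g', ← map_mul, hΘpure, hΘpure, hΘpure,
          map_mul]
  have hone : Θl 1 = 1 := by rw [← map_one (pureTensor (F := F) (m := m) (t := t)), hΘpure, map_one]
  let Θ : Matrix (Fin t → Fin m) (Fin t → Fin m) F →ₐ[F] Matrix ι ι F :=
    AlgHom.ofLinearMap Θl hone hmul
  have hslot : ∀ i x, Θ (slotHom i x) = φ i x := fun i x => (hΘpure _).trans (hΦsingle i x)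
  have hsurj : Function.Surjective Θ := by
    rw [← AlgHom.range_eq_top]
    refine eq_top_iff.2 (hgen ▸ Algebra.adjoin_le ?_)
    intro y hy
    obtain ⟨i, x, rfl⟩ := Set.mem_iUnion.1 hy
    exact ⟨slotHom i x, hslot i x⟩
  obtain ⟨e, P, hP⟩ := exists_basis_of_surjective Θ hsurj
  exact ⟨e, P, fun i x => by rw [← hslot, hP]⟩

/-- Whatever permutes the tensor factors lies in the tensor-wreath group. -/
theorem mem_tensorWreath [Nonempty ι] {m t : ℕ} (ht : 0 < t) (φ : Fin t → (Matrix (Fin m) (Fin m) F →ₐ[F] Matrix ι ι F))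
    (hgen : Algebra.adjoin F (⋃ i, Set.range (φ i)) = ⊤)
    (e : ι ≃ (Fin t → Fin m)) (P : GL ι F)
    (hφ : ∀ i x, φ i x = conjMat P ((slotHom i x).submatrix e e))
    (g : GL ι F) (σ : Equiv.Perm (Fin t))
    (hg : ∀ i x, ∃ y, conjMat g (φ i x) = φ (σ i) y) :
    g ∈ Cfsg.Geo.tensorWreathSubgroup m t e P := by
  classical
  refine Subgroup.mem_map.2 ⟨Cfsg.Geo.glReindex e.symm (glCoord e P g),
    Subgroup.mem_map.2 ⟨glCoord e P g, ?_, rfl⟩, conj_glReindex_glCoord e P g⟩
  set g0 := glCoord e P g with hg0
  -- the permutation matrix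
  let π : GL (Fin t → Fin m) F :=
    ⟨Matrix.of fun x y => if y = x ∘ σ then 1 else 0,
     Matrix.of fun x y => if y = x ∘ σ.symm then 1 else 0, by
      ext x y
      rw [Matrix.mul_apply, Finset.sum_eq_single (x ∘ σ)]
      · simp [Matrix.one_apply, Function.comp_assoc, eq_comm]
      · intro b _ hb; simp [hb]
      · simp, by
      ext x y
      rw [Matrix.mul_apply, Finset.sum_eq_single (x ∘ σ.symm)]
      · simp [Matrix.one_apply, Function.comp_assoc, eq_comm]
      · intro b _ hb; simp [hb]
      · simp⟩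
  have hπ : Cfsg.Geo.IsFactorPermutation m t π := ⟨σ, fun x y => rfl⟩
  have hπconj : ∀ i (x : Matrix (Fin m) (Fin m) F),
      conjMat π (slotHom i x) = slotHom (σ i) x := by
    intro i x
    rw [conjMat_eq_iff_mul]
    ext a b
    rw [Matrix.mul_apply, Matrix.mul_apply, Finset.sum_eq_single (a ∘ σ),
      Finset.sum_eq_single (b ∘ σ.symm)]
    · simp only [π, Units.val_mk, Matrix.of_apply, Function.comp_assoc, Equiv.symm_comp_self,
        Function.comp_id, if_true, one_mul, mul_one, slotHom_apply, pureTensor_apply]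
      refine Fintype.prod_equiv σ _ _ fun j => ?_
      by_cases h : j = i
      · subst h; simp
      · rw [Pi.mulSingle_eq_of_ne h, Pi.mulSingle_eq_of_ne (σ.injective.ne h)]
        simp [Matrix.one_apply, ← Equiv.apply_eq_iff_eq σ.symm]
    · intro c _ hc
      have : ¬ b = c ∘ σ := fun h => hc (by rw [h, Function.comp_assoc, Equiv.self_comp_symm, Function.comp_id])
      simp [π, this]
    · simp
    · intro c _ hc; simp [π, hc]
    · simp
  set h := π⁻¹ * g0 with hh
  have hinj : ∀ i, Function.Injective (slotHom (F := F) (m := m) (t := t) i) := by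
    intro i a b hab
    have h1 : φ i a = φ i b := by rw [hφ, hφ, hab]
    exact algHom_matrix_injective (φ i) h1
  have hslot : ∀ i x, ∃ y, conjMat h (slotHom i x) = slotHom i y := by
    intro i x
    obtain ⟨y, hy⟩ := hg i x
    refine ⟨y, ?_⟩
    rw [hφ, hφ, ← conjMat_glCoord] at hy
    have hy' : conjMat g0 (slotHom i x) = slotHom (σ i) y := by
      have h1 := (conjMat P).injective hy
      have h2 := congrArg (fun M : Matrix ι ι F => M.submatrix e.symm e.symm) h1
      simpa [Matrix.submatrix_submatrix] using h2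
    rw [hh, conjMat_mul, hy', ← hπconj, conjMat_inv_apply]
  choose ψ hψ using hslot
  have hinner : ∀ i, ∃ a : GL (Fin m) F, ∀ x, ψ i x = conjMat a x := by
    intro i
    let f : Matrix (Fin m) (Fin m) F →ₐ[F] Matrix (Fin m) (Fin m) F :=
      AlgHom.ofLinearMap
        { toFun := ψ i
          map_add' := fun x y => hinj i (by rw [← hψ, map_add, map_add, map_add, hψ, hψ])
          map_smul' := fun c x => hinj i (by rw [← hψ, RingHom.id_apply, map_smul, map_smul, map_smul, hψ]) }
        (hinj i (by
          show slotHom i (ψ i 1) = slotHom i 1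
          rw [← hψ, map_one, map_one]))
        (fun x y => hinj i (by
          show slotHom i (ψ i (x * y)) = slotHom i (ψ i x * ψ i y)
          rw [← hψ, map_mul, map_mul, map_mul, hψ, hψ]))
    have hfinj : Function.Injective f := by
      intro a b hab
      apply hinj i
      apply (conjMat h).injective
      rw [hψ, hψ]
      exact congrArg _ hab
    obtain ⟨a, ha⟩ := exists_conjMat_eq (AlgEquiv.ofBijective f
      ⟨hfinj, (LinearMap.injective_iff_surjective (f := f.toLinearMap)).1 hfinj⟩)
    exact ⟨a, ha⟩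
  choose a ha using hinner
  let u : GL (Fin t → Fin m) F := Units.map pureTensor (MulEquiv.piUnits.symm a)
  have hu : Cfsg.Geo.IsPureTensor m t u := ⟨a, fun x y => rfl⟩
  have huconj : ∀ i x, conjMat u (slotHom i x) = slotHom i (ψ i x) := by
    intro i x
    rw [conjMat_eq_iff_mul, slotHom_apply, slotHom_apply, ha]
    show pureTensor _ * _ = _ * pureTensor _
    rw [← map_mul, ← map_mul]
    congr 1
    funext j
    by_cases hj : j = i
    · subst hj; simp [conjMat_apply, mul_assoc]
    · simp [Pi.mulSingle_eq_of_ne hj]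
  -- what is left commutes with every factor, so is a scalar
  set w := u⁻¹ * h with hw
  have hwslot : ∀ i x, conjMat w (slotHom i x) = slotHom i x := by
    intro i x
    rw [hw, conjMat_mul, hψ, ← huconj, conjMat_inv_apply]
  let g1 := (MulAut.conj P) (Cfsg.Geo.glReindex e.symm w)
  have hall : ∀ M : Matrix ι ι F, conjMat g1 M = M := by
    have hle : Algebra.adjoin F (⋃ i, Set.range (φ i)) ≤
        AlgHom.equalizer (conjMat g1 : Matrix ι ι F →ₐ[F] Matrix ι ι F) (AlgHom.id F _) := by
      refine Algebra.adjoin_le ?_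
      intro y hy
      obtain ⟨i, x, rfl⟩ := Set.mem_iUnion.1 hy
      show conjMat g1 (φ i x) = φ i x
      rw [hφ]
      simp only [g1, MulAut.conj_apply, conjMat_mul, conjMat_inv_apply]
      congr 1
      conv_rhs => rw [← hwslot i x]
      simp only [conjMat_apply, coe_glReindex, Equiv.symm_symm, ← map_inv]
      rw [Matrix.submatrix_mul_equiv, Matrix.submatrix_mul_equiv]
    intro M
    have : M ∈ Algebra.adjoin F (⋃ i, Set.range (φ i)) := hgen ▸ Algebra.mem_top
    exact hle this
  obtain ⟨c, hc⟩ := Matrix.mem_range_scalar_of_commute_single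
    (M := (g1 : Matrix ι ι F)) fun i j _ => ((conjMat_eq_self_iff _ _).1 (hall _)).symm
  have hwc : (w : Matrix (Fin t → Fin m) (Fin t → Fin m) F) = c • 1 := by
    have h1 : conjMat P ((w : Matrix (Fin t → Fin m) (Fin t → Fin m) F).submatrix e e) = c • 1 := by
      rw [Matrix.smul_one_eq_diagonal, ← Matrix.scalar_apply, hc]
      simp [g1, conjMat_apply, coe_glReindex]
    have h2 : (w : Matrix (Fin t → Fin m) (Fin t → Fin m) F).submatrix e e = c • 1 := by
      apply (conjMat P).injective
      rw [h1, map_smul, map_one]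
    have h3 := congrArg (fun M : Matrix ι ι F => M.submatrix e.symm e.symm) h2
    simpa [Matrix.submatrix_submatrix, Matrix.submatrix_smul] using h3
  have hwpure : Cfsg.Geo.IsPureTensor m t w := by
    obtain ⟨i0⟩ : Nonempty (Fin t) := ⟨⟨0, ht⟩⟩
    haveI : Nonempty (Fin t → Fin m) := ⟨e (Classical.arbitrary ι)⟩
    have hc0 : c ≠ 0 := by
      rintro rfl
      rw [zero_smul] at hwc
      exact w.ne_zero hwc
    let s : GL (Fin m) F :=
      Units.map (algebraMap F (Matrix (Fin m) (Fin m) F) : F →* _) (Units.mk0 c hc0)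
    refine ⟨Function.update 1 i0 s, fun x y => ?_⟩
    have hpure : pureTensor (fun i => ((Function.update (1 : Fin t → GL (Fin m) F) i0 s i : GL (Fin m) F) :
        Matrix (Fin m) (Fin m) F)) = slotHom i0 (algebraMap F _ c) := by
      rw [slotHom_apply]
      congr 1
      funext j
      by_cases hj : j = i0
      · subst hj; simp [s]
      · simp [Function.update_of_ne hj, Pi.mulSingle_eq_of_ne hj]
    rw [hwc, ← Algebra.algebraMap_eq_smul_one, ← AlgHom.commutes (slotHom i0) c, ← hpure]
    rfl
  have : g0 = π * (u * w) := by rw [hw, hh]; group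
  rw [this]
  exact mul_mem (Subgroup.subset_closure (Or.inr hπ))
    (mul_mem (Subgroup.subset_closure (Or.inl hu)) (Subgroup.subset_closure (Or.inl hwpure)))

end Cfsg.Agent.Aschbacher
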