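/-
Subfield groups: a group that can be written over a subfield, and everything normalising it.
-/
import Mathlib
import Cfsg.Agent.Aschbacher.Tensor

set_option autoImplicit false
set_option linter.style.haveILetI false

namespace Cfsg.Agent.Aschbacher

open Matrix

variable {ι : Type} [Fintype ι] [DecidableEq ι] {F : Type*} [Field F]

lemma map_mem_of_le {F₀ F₁ : Subfield F} (h : F₀ ≤ F₁) {S : Set (Matrix ι ι F)}
    (hS : Cfsg.Geo.RealisableOver F₀ S) : Cfsg.Geo.RealisableOver F₁ S := by
  obtain ⟨B, hB⟩ := hS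
  exact ⟨B, fun s hs i j => h (hB s hs i j)⟩

/-- A proper subfield of a finite field lies in a subfield of prime index. -/
theorem exists_prime_index_subfield [Fintype F] (F₀ : Subfield F) (h : F₀ ≠ ⊤) :
    ∃ (F₁ : Subfield F) (r : ℕ), F₀ ≤ F₁ ∧ r.Prime ∧ Fintype.card F = Nat.card F₁ ^ r ∧ F₁ ≠ ⊤ := by
  classical
  set d := Module.finrank F₀ F with hd
  have hd1 : d ≠ 1 := by
    intro h1
    apply h
    rw [eq_top_iff]
    intro x _
    obtain ⟨c, hc⟩ := exists_smul_eq_of_finrank_eq_one h1 (one_ne_zero : (1 : F) ≠ 0) x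
    rw [← hc, Subfield.smul_def, smul_eq_mul, mul_one]
    exact c.2
  set r := d.minFac with hr
  have hrp : r.Prime := Nat.minFac_prime hd1
  haveI : Fact r.Prime := ⟨hrp⟩
  haveI : IsGalois F₀ F := inferInstance
  have hcard : Nat.card (F ≃ₐ[F₀] F) = d := IsGalois.card_aut_eq_finrank F₀ F
  obtain ⟨σ, hσ⟩ := exists_prime_orderOf_dvd_card' (G := F ≃ₐ[F₀] F) r
    (hcard ▸ Nat.minFac_dvd d)
  let K := IntermediateField.fixedField (Subgroup.zpowers σ)
  have hK : Module.finrank K F = r := by
    rw [IntermediateField.finrank_fixedField_eq_card, Nat.card_zpowers, hσ]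
  refine ⟨K.toSubfield, r, fun x hx => K.algebraMap_mem ⟨x, hx⟩, hrp, ?_, ?_⟩
  · rw [← Nat.card_eq_fintype_card, Module.natCard_eq_pow_finrank (K := K) (V := F), hK]
    rfl
  · intro htop
    have : K = ⊤ := by
      rw [eq_top_iff]
      intro x _
      show x ∈ K.toSubfield
      rw [htop]
      trivial
    have h1 : Module.finrank K F = 1 := by
      rw [this, IntermediateField.finrank_top]
    exact hrp.one_lt.ne' (hK.symm.trans h1)

/-- If an absolutely irreducible group is written over a subfield, whatever normalises it lies in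
the corresponding subfield group. -/
theorem mem_subfieldSubgroup_of_normalizes [Nonempty ι] {P : Subgroup (GL ι F)}
    (habs : Cfsg.Geo.ActsAbsolutelyIrreducibly (Cfsg.Geo.matrixSet P)) (F₀ : Subfield F) (B : GL ι F)
    (hB : ∀ s ∈ P, ∀ i j, conjMat B (s : Matrix ι ι F) i j ∈ F₀)
    {g : GL ι F} (hg : ∀ s ∈ P, g * s * g⁻¹ ∈ P) :
    g ∈ Cfsg.Geo.subfieldSubgroup F₀ B⁻¹ := by
  classical
  set g' : GL ι F := B * g * B⁻¹ with hg'
  obtain ⟨i₀, j₀, hne⟩ : ∃ i j, (g' : Matrix ι ι F) i j ≠ 0 := by
    by_contra h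
    push Not at h
    exact g'.ne_zero (Matrix.ext h)
  obtain ⟨l, hl⟩ := Module.Projective.exists_dual_ne_zero F₀ hne
  let g0 : Matrix ι ι F := (g' : Matrix ι ι F).map fun x => ((l x : F₀) : F)
  have hlin : ∀ (a : F) (c : F), c ∈ F₀ → ((l (c * a) : F₀) : F) = c * (l a : F₀) := by
    intro a c hc
    have := l.map_smul ⟨c, hc⟩ a
    rw [Subfield.smul_def, smul_eq_mul] at this
    rw [this]
    rfl
  have hcomm : ∀ s ∈ P, g0 * conjMat B (s : Matrix ι ι F) =
      conjMat B ((g * s * g⁻¹ : GL ι F) : Matrix ι ι F) * g0 := by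
    intro s hs
    have h1 : (g' : Matrix ι ι F) * conjMat B (s : Matrix ι ι F) =
        conjMat B ((g * s * g⁻¹ : GL ι F) : Matrix ι ι F) * (g' : Matrix ι ι F) := by
      rw [conjMat_units, conjMat_units, ← Units.val_mul, ← Units.val_mul]
      congr 1
      rw [hg']
      group
    ext i j
    have h2 := congrFun (congrFun h1 i) j
    simp only [Matrix.mul_apply] at h2 ⊢
    have h3 := congrArg (fun x => ((l x : F₀) : F)) h2
    simp only [map_sum, AddSubmonoidClass.coe_finset_sum] at h3
    simp only [g0, Matrix.map_apply]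
    convert h3 using 1
    · exact Finset.sum_congr rfl fun k _ => by
        rw [mul_comm ((g' : Matrix ι ι F) i k), hlin _ _ (hB s hs k j), mul_comm]
    · exact Finset.sum_congr rfl fun k _ => by rw [hlin _ _ (hB _ (hg s hs) i k)]
  obtain ⟨c, hc⟩ := habs.2
    (conjMat B⁻¹ (((g'⁻¹ : GL ι F) : Matrix ι ι F) * g0)) (by
    rintro _ ⟨s, hs, rfl⟩
    apply (conjMat B).injective
    show conjMat B (_ * (s : Matrix ι ι F)) = conjMat B ((s : Matrix ι ι F) * _)
    rw [map_mul (conjMat B), map_mul (conjMat B)]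
    have hBB : conjMat B (conjMat B⁻¹ (((g'⁻¹ : GL ι F) : Matrix ι ι F) * g0)) =
        ((g'⁻¹ : GL ι F) : Matrix ι ι F) * g0 := by
      simp [conjMat_apply, mul_assoc]
    rw [hBB, mul_assoc, hcomm s hs, ← mul_assoc, ← mul_assoc]
    congr 1
    rw [conjMat_units, conjMat_units, ← Units.val_mul, ← Units.val_mul]
    congr 1
    rw [hg']
    group)
  have hg0 : g0 = c • (g' : Matrix ι ι F) := by
    have h1 := congrArg (conjMat B) hc
    rw [map_smul, map_one] at h1
    have hBB : conjMat B (conjMat B⁻¹ (((g'⁻¹ : GL ι F) : Matrix ι ι F) * g0)) =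
        ((g'⁻¹ : GL ι F) : Matrix ι ι F) * g0 := by
      simp [conjMat_apply, mul_assoc]
    rw [hBB] at h1
    have := congrArg ((g' : Matrix ι ι F) * ·) h1
    simpa [← mul_assoc] using this
  have hc0 : c ≠ 0 := by
    rintro rfl
    apply hl
    have := congrFun (congrFun hg0 i₀) j₀
    rw [zero_smul, Matrix.zero_apply] at this
    exact Subtype.ext this
  let g00 : Matrix ι ι F₀ := fun i j => l ((g' : Matrix ι ι F) i j)
  have hmap : g00.map (F₀.subtype : F₀ →+* F) = g0 := rfl
  have hdet : g00.det ≠ 0 := by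
    intro h
    have h1 : g0.det = 0 := by
      rw [← hmap, ← RingHom.mapMatrix_apply, ← RingHom.map_det, h, map_zero]
    rw [hg0, Matrix.det_smul] at h1
    exact mul_ne_zero (pow_ne_zero _ hc0) (Matrix.GeneralLinearGroup.det g').ne_zero h1
  let G00 : GL ι F₀ := Matrix.GeneralLinearGroup.mkOfDetNeZero g00 hdet
  let z : GL ι F := Units.map (algebraMap F (Matrix ι ι F) : F →* _) (Units.mk0 c hc0)
  have hz : z ∈ Cfsg.Geo.scalars ι F :=
    mem_scalars_of_eq_smul z c (Algebra.algebraMap_eq_smul_one c)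
  have hmem : g' ∈ (Matrix.GeneralLinearGroup.map (F₀.subtype : F₀ →+* F)).range ⊔
      Cfsg.Geo.scalars ι F := by
    have : g' = Matrix.GeneralLinearGroup.map (F₀.subtype : F₀ →+* F) G00 * z⁻¹ := by
      rw [eq_mul_inv_iff_mul_eq]
      apply Units.ext
      show (g' : Matrix ι ι F) * algebraMap F (Matrix ι ι F) c = g00.map (F₀.subtype : F₀ →+* F)
      rw [hmap, hg0, Algebra.algebraMap_eq_smul_one, mul_smul_comm, mul_one]
    rw [this]
    exact mul_mem (Subgroup.mem_sup_left ⟨G00, rfl⟩) (Subgroup.mem_sup_right (inv_mem hz))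
  refine Subgroup.mem_map.2 ⟨g', hmem, ?_⟩
  simp only [MulEquiv.coe_toMonoidHom, MulAut.conj_apply, hg']
  group

/-- The linear span of a group of matrices is a subalgebra. -/
lemma adjoin_matrixSet {K : Type*} [CommRing K] [Algebra K (Matrix ι ι F)] (P : Subgroup (GL ι F)) :
    Subalgebra.toSubmodule (Algebra.adjoin K (Cfsg.Geo.matrixSet P)) =
      Submodule.span K (Cfsg.Geo.matrixSet P) := by
  refine Algebra.adjoin_eq_span_of_subset _ (subset_trans ?_ Submodule.subset_span)
  intro x hx
  induction hx using Submonoid.closure_induction with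
  | mem y hy => exact hy
  | one => exact ⟨1, one_mem P, rfl⟩
  | mul a b _ _ ha hb =>
    obtain ⟨s, hs, rfl⟩ := ha
    obtain ⟨t, ht, rfl⟩ := hb
    exact ⟨s * t, mul_mem hs ht, rfl⟩

/-- An absolutely irreducible group whose non-scalar elements have trace zero and whose scalars lie in
a subfield can be written over that subfield. -/
theorem realisableOver_of_trace [Finite F] [Nonempty ι] (F₁ : Subfield F) (R : Subgroup (GL ι F))
    (hirr : Irred R) (htop : Algebra.adjoin F (Cfsg.Geo.matrixSet R) = ⊤)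
    (hn : (Fintype.card ι : F) ≠ 0)
    (hR : ∀ x ∈ R, (∃ c : F, c ∈ F₁ ∧ (x : Matrix ι ι F) = c • 1) ∨ (x : Matrix ι ι F).trace = 0) :
    Cfsg.Geo.RealisableOver F₁ (Cfsg.Geo.matrixSet R) := by
  classical
  set A := Algebra.adjoin F₁ (Cfsg.Geo.matrixSet R) with hA
  have hconj : ∀ g ∈ R, ∀ x ∈ A, conjMat g x ∈ A := by
    intro g hg
    have : A ≤ A.comap ((conjMat g).toAlgHom.restrictScalars F₁) := by
      refine Algebra.adjoin_le ?_
      rintro _ ⟨s, hs, rfl⟩
      show conjMat g (s : Matrix ι ι F) ∈ A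
      rw [conjMat_units]
      exact Algebra.subset_adjoin (mem_matrixSet (mul_mem (mul_mem hg hs) (inv_mem hg)))
    exact fun x hx => this hx
  have hJ := jacobson_bot_eq_bot A hirr hconj
  have htrace : ∀ x ∈ A, x.trace ∈ F₁ := by
    intro x hx
    have hx' : x ∈ Submodule.span F₁ (Cfsg.Geo.matrixSet R) := by
      rw [← adjoin_matrixSet]
      exact hx
    induction hx' using Submodule.span_induction with
    | mem y hy =>
      obtain ⟨s, hs, rfl⟩ := hy
      show (s : Matrix ι ι F).trace ∈ F₁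
      rcases hR s hs with ⟨c, hc, h⟩ | h
      · rw [h, Matrix.trace_smul, Matrix.trace_one, smul_eq_mul]
        exact mul_mem hc (natCast_mem F₁ _)
      · rw [h]
        exact zero_mem F₁
    | zero => rw [Matrix.trace_zero]; exact zero_mem F₁
    | add a b _ _ ha hb =>
      rw [Matrix.trace_add]
      exact add_mem (ha (by
        show a ∈ Subalgebra.toSubmodule A
        rw [hA, adjoin_matrixSet]; assumption)) (hb (by
        show b ∈ Subalgebra.toSubmodule A
        rw [hA, adjoin_matrixSet]; assumption))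
    | smul c a _ ha =>
      rw [Matrix.trace_smul, Subfield.smul_def, smul_eq_mul]
      exact mul_mem c.2 (ha (by
        show a ∈ Subalgebra.toSubmodule A
        rw [hA, adjoin_matrixSet]; assumption))
  have hcentre : ∀ z : A, (∀ a, z * a = a * z) → ∃ c : F₁, z = algebraMap F₁ A c := by
    intro z hz
    have hle : Algebra.adjoin F (Cfsg.Geo.matrixSet R) ≤
        Subalgebra.centralizer F {(z : Matrix ι ι F)} := by
      refine Algebra.adjoin_le ?_
      rintro _ ⟨s, hs, rfl⟩
      rw [SetLike.mem_coe, Subalgebra.mem_centralizer_iff]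
      rintro g rfl
      exact congrArg Subtype.val (hz ⟨s, Algebra.subset_adjoin (mem_matrixSet hs)⟩)
    obtain ⟨c, hc⟩ := Matrix.mem_range_scalar_of_commute_single (M := (z : Matrix ι ι F))
      fun i j _ => by
        have h1 : Matrix.single i j (1 : F) ∈ Subalgebra.centralizer F {(z : Matrix ι ι F)} :=
          hle (htop ▸ Algebra.mem_top)
        rw [Subalgebra.mem_centralizer_iff] at h1
        exact (h1 _ rfl).symm
    have hzc : (z : Matrix ι ι F) = c • 1 := by
      rw [← hc, Matrix.scalar_apply, Matrix.smul_one_eq_diagonal]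
    have hct : c * (Fintype.card ι : F) ∈ F₁ := by
      have h1 := htrace _ z.2
      rwa [hzc, Matrix.trace_smul, Matrix.trace_one, smul_eq_mul] at h1
    have hcF : c ∈ F₁ := by
      have h1 := mul_mem hct (inv_mem (natCast_mem F₁ (Fintype.card ι)))
      rwa [mul_assoc, mul_inv_cancel₀ hn, mul_one] at h1
    refine ⟨⟨c, hcF⟩, Subtype.ext ?_⟩
    rw [hzc, Subalgebra.coe_algebraMap, Algebra.algebraMap_eq_smul_one]
    rfl
  obtain ⟨k, hk, ⟨θ⟩⟩ := exists_algEquiv_matrix hJ hcentre
  -- extend the isomorphism to all matrices over `F`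
  let E : Fin k → Fin k → Matrix ι ι F := fun a b => (θ.symm (Matrix.single a b 1) : A)
  let Θl : Matrix (Fin k) (Fin k) F →ₗ[F] Matrix ι ι F :=
    ∑ a, ∑ b, (Matrix.entryLinearMap F F a b).smulRight (E a b)
  have hΘl : ∀ M, Θl M = ∑ a, ∑ b, M a b • E a b := by
    intro M
    simp [Θl]
  have hΘmap : ∀ M : Matrix (Fin k) (Fin k) F₁,
      Θl (M.map (F₁.subtype : F₁ →+* F)) = (θ.symm M : A) := by
    intro M
    rw [hΘl]
    conv_rhs => rw [Matrix.matrix_eq_sum_single M, map_sum, AddSubmonoidClass.coe_finset_sum]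
    refine Finset.sum_congr rfl fun a _ => ?_
    rw [map_sum, AddSubmonoidClass.coe_finset_sum]
    refine Finset.sum_congr rfl fun b _ => ?_
    rw [show Matrix.single a b (M a b) = (M a b) • Matrix.single a b 1 by
      rw [Matrix.smul_single, smul_eq_mul, mul_one], map_smul]
    rfl
  have hsingle : ∀ a b, Θl (Matrix.single a b 1) = E a b := by
    intro a b
    rw [← show (Matrix.single a b (1 : F₁)).map (F₁.subtype : F₁ →+* F) = Matrix.single a b 1 by
      rw [Matrix.map_single, map_one]]
    exact hΘmap _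
  have hone : Θl 1 = 1 := by
    rw [← Matrix.map_one (F₁.subtype : F₁ →+* F) (map_zero _) (map_one _), hΘmap, map_one]
    rfl
  have hmul : ∀ M N, Θl (M * N) = Θl M * Θl N := by
    intro M N
    induction M using Matrix.induction_on' with
    | h_zero => simp
    | h_add p q hp hq => rw [add_mul, map_add, map_add, hp, hq, add_mul]
    | h_std_basis f g c =>
      induction N using Matrix.induction_on' with
      | h_zero => simp
      | h_add p q hp hq => rw [mul_add, map_add, map_add, hp, hq, mul_add]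
      | h_std_basis f' g' d =>
        rw [← mul_one c, ← mul_one d, ← smul_eq_mul c, ← smul_eq_mul d, ← Matrix.smul_single,
          ← Matrix.smul_single]
        simp only [map_smul, smul_mul_assoc, mul_smul_comm]
        congr 2
        rw [hsingle, hsingle]
        have h1 := hΘmap (Matrix.single f g 1 * Matrix.single f' g' 1)
        rw [Matrix.map_mul, Matrix.map_single, Matrix.map_single, map_one,
          map_mul θ.symm, Subalgebra.coe_mul] at h1
        exact h1
  let Θ : Matrix (Fin k) (Fin k) F →ₐ[F] Matrix ι ι F := AlgHom.ofLinearMap Θl hone hmul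
  have hrange : ∀ s ∈ R, ∃ M : Matrix (Fin k) (Fin k) F₁,
      Θ (M.map (F₁.subtype : F₁ →+* F)) = (s : Matrix ι ι F) := by
    intro s hs
    refine ⟨θ ⟨s, Algebra.subset_adjoin (mem_matrixSet hs)⟩, ?_⟩
    show Θl _ = _
    rw [hΘmap, AlgEquiv.symm_apply_apply]
  have hsurj : Function.Surjective Θ := by
    rw [← AlgHom.range_eq_top]
    refine eq_top_iff.2 (htop ▸ Algebra.adjoin_le ?_)
    rintro _ ⟨s, hs, rfl⟩
    obtain ⟨M, hM⟩ := hrange s hs
    exact ⟨_, hM⟩
  obtain ⟨e, P, hP⟩ := exists_basis_of_surjective Θ hsurj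
  refine ⟨P⁻¹, ?_⟩
  rintro _ ⟨s, hs, rfl⟩ i j
  obtain ⟨M, hM⟩ := hrange s hs
  show conjMat P⁻¹ (s : Matrix ι ι F) i j ∈ F₁
  rw [← hM, hP, conjMat_inv_apply]
  exact (M (e i) (e j)).2

end Cfsg.Agent.Aschbacher
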