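/-
The abelian minimal normal subgroup: an absolutely irreducible group, elementary abelian modulo
scalars, contains a group of symplectic type normalised by everything normalising it.
-/
import Mathlib
import Cfsg.Agent.Aschbacher.Basic

set_option autoImplicit false
set_option linter.style.haveILetI false

namespace Cfsg.Agent.Aschbacher

open Matrix

variable {ι : Type} [Fintype ι] [DecidableEq ι] {F : Type*} [Field F]

/-- The scalar matrix with a given non-zero entry, as an element of GL. -/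
def scalarUnit (ι : Type) [Fintype ι] [DecidableEq ι] (F : Type*) [Field F] : Fˣ →* GL ι F :=
  Units.map (Matrix.scalar ι : F →+* Matrix ι ι F).toMonoidHom

lemma scalarUnit_coe (c : Fˣ) :
    ((scalarUnit ι F c : GL ι F) : Matrix ι ι F) = (c : F) • (1 : Matrix ι ι F) := by
  simp [scalarUnit, Matrix.smul_one_eq_diagonal]

lemma mem_scalars_iff_scalarUnit {g : GL ι F} :
    g ∈ Cfsg.Geo.scalars ι F ↔ ∃ c : Fˣ, scalarUnit ι F c = g := Iff.rfl

lemma scalarUnit_mem (c : Fˣ) : scalarUnit ι F c ∈ Cfsg.Geo.scalars ι F := ⟨c, rfl⟩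

lemma scalarUnit_comm (c : Fˣ) (g : GL ι F) : g * scalarUnit ι F c = scalarUnit ι F c * g :=
  scalars_comm (scalarUnit_mem c) g

lemma scalarUnit_injective [Nonempty ι] : Function.Injective (scalarUnit ι F) := by
  intro c d h
  apply Units.ext
  obtain ⟨i⟩ := ‹Nonempty ι›
  have := congrArg (fun g : GL ι F => (g : Matrix ι ι F) i i) h
  simpa [scalarUnit_coe] using this

/-- A group spanning all matrices acts absolutely irreducibly. -/
theorem absIrred_of_adjoin_eq_top {S : Set (Matrix ι ι F)} (h : Algebra.adjoin F S = ⊤) :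
    Cfsg.Geo.ActsAbsolutelyIrreducibly S := by
  constructor
  · rw [actsIrreducibly_iff]
    intro W hW
    by_cases h0 : W = ⊥
    · exact Or.inl h0
    · right
      obtain ⟨w, hw, hw0⟩ := Submodule.exists_mem_ne_zero_of_ne_bot h0
      have hall : ∀ M : Matrix ι ι F, ∀ v ∈ W, M *ᵥ v ∈ W := by
        intro M
        have hM : M ∈ Algebra.adjoin F S := h ▸ Algebra.mem_top
        induction hM using Algebra.adjoin_induction with
        | mem x hx => exact hW x hx
        | algebraMap c =>
          intro v hv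
          rw [Algebra.algebraMap_eq_smul_one, smul_mulVec']
          exact W.smul_mem c hv
        | add x y _ _ hx hy =>
          intro v hv
          rw [Matrix.add_mulVec]
          exact W.add_mem (hx v hv) (hy v hv)
        | mul x y _ _ hx hy =>
          intro v hv
          rw [← Matrix.mulVec_mulVec]
          exact hx _ (hy v hv)
      obtain ⟨i, hi⟩ : ∃ i, w i ≠ 0 := Function.ne_iff.1 hw0
      rw [eq_top_iff]
      intro u _
      have : (Matrix.of fun j k => if k = i then u j * (w i)⁻¹ else 0) *ᵥ w = u := by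
        funext j
        simp [Matrix.mulVec, dotProduct, ite_mul, mul_assoc, inv_mul_cancel₀ hi]
      rw [← this]
      exact hall _ w hw
  · intro M hM
    obtain ⟨c, hc⟩ := Matrix.mem_range_scalar_of_commute_single (M := M) fun i j _ => by
      have hle : Algebra.adjoin F S ≤ Subalgebra.centralizer F {M} := by
        refine Algebra.adjoin_le ?_
        intro x hx
        rw [SetLike.mem_coe, Subalgebra.mem_centralizer_iff]
        rintro g rfl
        exact hM x hx
      have h1 : Matrix.single i j (1 : F) ∈ Subalgebra.centralizer F {M} :=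
        hle (h ▸ Algebra.mem_top)
      rw [Subalgebra.mem_centralizer_iff] at h1
      exact (h1 M rfl).symm
    exact ⟨c, by rw [← hc, Matrix.scalar_apply, Matrix.smul_one_eq_diagonal]⟩

/-- Powers of a product when the commutator is central. -/
lemma mul_pow_of_central_commutator {G : Type*} [Group G] {x y z : G} (hz : ∀ g, g * z = z * g)
    (h : y * x = z * x * y) (k : ℕ) :
    (x * y) ^ k = x ^ k * y ^ k * z ^ k.choose 2 ∧ y ^ k * x = z ^ k * x * y ^ k := by
  induction k with
  | zero => simp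
  | succ k ih =>
    have hzk : ∀ (j : ℕ) (g : G), g * z ^ j = z ^ j * g := fun j g =>
      ((show Commute g z from hz g).pow_right j)
    have h1 : y ^ (k + 1) * x = z ^ (k + 1) * x * y ^ (k + 1) := by
      calc y ^ (k + 1) * x = y * (y ^ k * x) := by rw [pow_succ', mul_assoc]
        _ = (y * z ^ k) * (x * y ^ k) := by rw [ih.2]; simp only [mul_assoc]
        _ = z ^ k * (y * x) * y ^ k := by rw [hzk k y]; simp only [mul_assoc]
        _ = (z ^ k * z) * x * (y * y ^ k) := by rw [h]; simp only [mul_assoc]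
        _ = z ^ (k + 1) * x * y ^ (k + 1) := by rw [pow_succ z k, pow_succ' y k]
    refine ⟨?_, h1⟩
    calc (x * y) ^ (k + 1) = x ^ k * y ^ k * (z ^ k.choose 2 * (x * y)) := by
          rw [pow_succ, ih.1]; simp only [mul_assoc]
      _ = x ^ k * (y ^ k * x) * (y * z ^ k.choose 2) := by
          rw [← hzk (k.choose 2) (x * y)]; simp only [mul_assoc]
      _ = x ^ k * ((x * y ^ k) * z ^ k) * (y * z ^ k.choose 2) := by
          rw [ih.2, mul_assoc (z ^ k) x, ← hzk k (x * y ^ k)]
      _ = (x ^ k * x) * (y ^ k * (z ^ k * y)) * z ^ k.choose 2 := by simp only [mul_assoc]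
      _ = (x ^ k * x) * (y ^ k * y) * (z ^ k * z ^ k.choose 2) := by
          rw [← hzk k y]; simp only [mul_assoc]
      _ = x ^ (k + 1) * y ^ (k + 1) * z ^ (k + 1).choose 2 := by
          rw [← pow_succ, ← pow_succ, ← pow_add, Nat.choose_succ_succ' k 1, Nat.choose_one_right]

/-- The data extracted from a minimal normal subgroup that is abelian modulo scalars. -/
structure SymplecticData (H R : Subgroup (GL ι F)) (r : ℕ) : Prop where
  prime : r.Prime
  two_ne : r = 2 → (2 : F) ≠ 0
  ne_char : (r : F) ≠ 0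
  card_ne : (Fintype.card ι : F) ≠ 0
  symplecticType : Cfsg.Geo.IsSymplecticTypeGroup r R
  adjoin_top : Algebra.adjoin F (Cfsg.Geo.matrixSet R) = ⊤
  normalized : ∀ g ∈ H, ∀ x ∈ R, g * x * g⁻¹ ∈ R
  scalar_or_trace : ∀ x ∈ R, (∃ c : Fˣ, c ^ (r * Nat.gcd 2 r) = 1 ∧ scalarUnit ι F c = x) ∨
    (x : Matrix ι ι F).trace = 0
  scalar_mem : ∀ c : Fˣ, c ^ (r * Nat.gcd 2 r) = 1 → scalarUnit ι F c ∈ R
  card_center : Nat.card (Subgroup.center R) = (Nat.card Fˣ).gcd (r * Nat.gcd 2 r)
  card_center_cases : (Odd r ∧ Nat.card (Subgroup.center R) = r) ∨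
    (r = 2 ∧ (Nat.card (Subgroup.center R) = 2 ∨ Nat.card (Subgroup.center R) = 4))
  exists_m : ∃ m : ℕ, 1 ≤ m ∧ Fintype.card ι = r ^ m ∧
    Nat.card R = Nat.card (Subgroup.center R) * r ^ (2 * m)

/-- A group that spans all matrices and is elementary abelian modulo scalars, minimal with respect to
`H`, yields a group of symplectic type normalised by `H`. -/
theorem exists_symplecticData [Finite F] (hι : 2 ≤ Fintype.card ι) (H N : Subgroup (GL ι F))
    (hZN : Cfsg.Geo.scalars ι F ≤ N) (hNH : ∀ g ∈ H, ∀ x ∈ N, g * x * g⁻¹ ∈ N)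
    (htop : Algebra.adjoin F (Cfsg.Geo.matrixSet N) = ⊤)
    (hcomm : ∀ x ∈ N, ∀ y ∈ N, x * y * x⁻¹ * y⁻¹ ∈ Cfsg.Geo.scalars ι F)
    (r : ℕ) (hr : r.Prime) (hpow : ∀ x ∈ N, x ^ r ∈ Cfsg.Geo.scalars ι F)
    (hmin : ∀ M : Subgroup (GL ι F), Cfsg.Geo.scalars ι F ≤ M → M ≤ N →
      (∀ g ∈ H, ∀ x ∈ M, g * x * g⁻¹ ∈ M) → M = Cfsg.Geo.scalars ι F ∨ M = N) :
    ∃ R : Subgroup (GL ι F), SymplecticData H R r ∧ R ≤ N ∧
      ∀ x ∈ N, ∃ c : Fˣ, scalarUnit ι F c * x ∈ R := by
  classical
  haveI : Nonempty ι := Fintype.card_pos_iff.1 (by omega)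
  haveI : Fintype F := Fintype.ofFinite F
  set Z := Cfsg.Geo.scalars ι F with hZdef
  have habs := absIrred_of_adjoin_eq_top htop
  -- commutators are roots of unity
  have hom : ∀ x ∈ N, ∀ y ∈ N, ∃ ζ : Fˣ, y * x = scalarUnit ι F ζ * x * y ∧ ζ ^ r = 1 := by
    intro x hx y hy
    obtain ⟨ζ, hζ⟩ := mem_scalars_iff_scalarUnit.1 (hcomm y hy x hx)
    have h : y * x = scalarUnit ι F ζ * x * y := by rw [hζ]; group
    refine ⟨ζ, h, ?_⟩
    have h2 := (mul_pow_of_central_commutator (fun g => scalarUnit_comm ζ g) h r).2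
    obtain ⟨a, ha⟩ := mem_scalars_iff_scalarUnit.1 (hpow y hy)
    rw [← ha, ← scalarUnit_comm a x, mul_assoc, ← map_pow] at h2
    have h3 : scalarUnit ι F (ζ ^ r) = 1 :=
      mul_right_cancel (b := x * scalarUnit ι F a) (by rw [one_mul]; exact h2.symm)
    exact scalarUnit_injective (h3.trans (map_one _).symm)
  -- non-scalar elements have trace zero
  have htr : ∀ x ∈ N, x ∉ Z → (x : Matrix ι ι F).trace = 0 ∧
      ∃ ζ : Fˣ, ζ ≠ 1 ∧ ζ ^ r = 1 := by
    intro x hx hxZ
    by_cases hall : ∀ y ∈ N, y * x = x * y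
    · exfalso
      obtain ⟨c, hc⟩ := habs.2 (x : Matrix ι ι F) (by
        rintro _ ⟨y, hy, rfl⟩
        exact (congrArg Units.val (hall y hy)).symm)
      exact hxZ (mem_scalars_of_eq_smul x c hc)
    · push Not at hall
      obtain ⟨y, hy, hne⟩ := hall
      obtain ⟨ζ, hζ, hζr⟩ := hom x hx y hy
      have hζ1 : ζ ≠ 1 := by rintro rfl; exact hne (by rw [hζ, map_one, one_mul])
      refine ⟨?_, ζ, hζ1, hζr⟩
      have h1 : y * x * y⁻¹ = scalarUnit ι F ζ * x := by rw [hζ, mul_inv_cancel_right]
      have h2 := congrArg (fun g : GL ι F => (g : Matrix ι ι F).trace) h1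
      simp only [Units.val_mul, Matrix.trace_mul_cycle (y : Matrix ι ι F) (x : Matrix ι ι F),
        Units.inv_mul, one_mul, scalarUnit_coe, Matrix.smul_mul, Matrix.trace_smul, smul_eq_mul] at h2
      by_contra ht
      exact hζ1 (Units.ext ((mul_eq_right₀ ht).1 h2.symm))
  have hNspan : Submodule.span F (Cfsg.Geo.matrixSet N) = ⊤ := by
    have h1 := congrArg Subalgebra.toSubmodule htop
    rwa [Algebra.top_toSubmodule, Algebra.adjoin_eq_span_of_subset _
      (subset_trans (fun x hx => by
        induction hx using Submonoid.closure_induction with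
        | mem y hy => exact hy
        | one => exact ⟨1, one_mem N, rfl⟩
        | mul a b _ _ ha hb =>
          obtain ⟨s, hs, rfl⟩ := ha
          obtain ⟨t, ht, rfl⟩ := hb
          exact ⟨s * t, mul_mem hs ht, rfl⟩) Submodule.subset_span)] at h1
  have htrscal : ∀ c : Fˣ, ((scalarUnit ι F c : GL ι F) : Matrix ι ι F).trace =
      (c : F) * (Fintype.card ι : F) := by
    intro c
    rw [scalarUnit_coe, Matrix.trace_smul, Matrix.trace_one, smul_eq_mul]
  have hn0 : (Fintype.card ι : F) ≠ 0 := by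
    intro h0
    have hle : Submodule.span F (Cfsg.Geo.matrixSet N) ≤
        LinearMap.ker (Matrix.traceLinearMap ι F F) := by
      refine Submodule.span_le.2 ?_
      rintro _ ⟨x, hx, rfl⟩
      rw [SetLike.mem_coe, LinearMap.mem_ker, Matrix.traceLinearMap_apply]
      by_cases hxZ : x ∈ Z
      · obtain ⟨c, rfl⟩ := mem_scalars_iff_scalarUnit.1 hxZ
        show ((scalarUnit ι F c : GL ι F) : Matrix ι ι F).trace = 0
        rw [htrscal, h0, mul_zero]
      · exact (htr x hx hxZ).1
    obtain ⟨i⟩ := ‹Nonempty ι›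
    have h1 := hle (hNspan ▸ Submodule.mem_top (x := Matrix.single i i (1 : F)))
    rw [LinearMap.mem_ker, Matrix.traceLinearMap_apply, Matrix.trace_single_eq_same] at h1
    exact one_ne_zero h1
  -- the quotient modulo scalars has order n²
  haveI : (Z.subgroupOf N).Normal := by
    refine ⟨fun a ha b => ?_⟩
    show (b : GL ι F) * a * (b : GL ι F)⁻¹ ∈ Z
    exact Subgroup.Normal.conj_mem inferInstance _ ha _
  let Q := N ⧸ Z.subgroupOf N
  haveI : Fintype Q := Fintype.ofFinite Q
  let rep : Q → N := fun a => a.out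
  have hrep : ∀ (x : N), ∃ c : Fˣ, (x : GL ι F) = scalarUnit ι F c * (rep (x : Q) : GL ι F) := by
    intro x
    have h1 : (rep (x : Q))⁻¹ * x ∈ Z.subgroupOf N := by
      rw [← QuotientGroup.eq]
      exact QuotientGroup.out_eq' _
    obtain ⟨c, hc⟩ := mem_scalars_iff_scalarUnit.1 (show ((rep (x : Q))⁻¹ * x : N).1 ∈ Z from h1)
    exact ⟨c, by rw [← scalarUnit_comm, hc]; simp⟩
  let v : Q → Matrix ι ι F := fun a => ((rep a : GL ι F) : Matrix ι ι F)
  have hspan : Submodule.span F (Set.range v) = ⊤ := by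
    rw [eq_top_iff, ← hNspan, Submodule.span_le]
    rintro _ ⟨x, hx, rfl⟩
    obtain ⟨c, hc⟩ := hrep ⟨x, hx⟩
    show (x : Matrix ι ι F) ∈ _
    rw [show x = scalarUnit ι F c * _ from hc, Units.val_mul, scalarUnit_coe, Matrix.smul_mul, one_mul]
    exact Submodule.smul_mem _ _ (Submodule.subset_span ⟨_, rfl⟩)
  have hli : LinearIndependent F v := by
    rw [Fintype.linearIndependent_iff]
    intro g hg a
    have h1 := congrArg (fun M : Matrix ι ι F =>
      (M * (((rep a : GL ι F)⁻¹ : GL ι F) : Matrix ι ι F)).trace) hg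
    simp only [Finset.sum_mul, Matrix.trace_sum, Matrix.smul_mul, Matrix.trace_smul, zero_mul,
      Matrix.trace_zero, smul_eq_mul, v, ← Units.val_mul] at h1
    rw [Finset.sum_eq_single a ?_ (fun h => absurd (Finset.mem_univ a) h)] at h1
    · rw [mul_inv_cancel, Units.val_one, Matrix.trace_one] at h1
      exact (mul_eq_zero.1 h1).resolve_right hn0
    · intro b _ hb
      rw [(htr _ (mul_mem (rep b).2 (inv_mem (rep a).2)) ?_).1, mul_zero]
      intro hmem
      apply hb
      have h2 : (rep a)⁻¹ * rep b ∈ Z.subgroupOf N := by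
        show ((rep a : GL ι F))⁻¹ * (rep b : GL ι F) ∈ Z
        have h3 := Subgroup.Normal.conj_mem (H := Z) inferInstance _ hmem (rep a : GL ι F)⁻¹
        simpa [mul_assoc] using h3
      have h4 := QuotientGroup.eq.2 h2
      rw [show ((rep a : N) : Q) = a from QuotientGroup.out_eq' a,
        show ((rep b : N) : Q) = b from QuotientGroup.out_eq' b] at h4
      exact h4.symm
  have hQcard : Nat.card Q = Fintype.card ι * Fintype.card ι := by
    have h1 := Module.finrank_eq_card_basis (Module.Basis.mk hli hspan.ge)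
    rw [Module.finrank_matrix, Module.finrank_self, mul_one] at h1
    rw [Nat.card_eq_fintype_card, ← h1]
  haveI : Fact r.Prime := ⟨hr⟩
  have hQp : IsPGroup r Q := by
    intro a
    obtain ⟨x, rfl⟩ := QuotientGroup.mk_surjective a
    refine ⟨1, ?_⟩
    rw [pow_one, ← QuotientGroup.mk_pow, QuotientGroup.eq_one_iff]
    show ((x ^ r : N) : GL ι F) ∈ Z
    rw [SubmonoidClass.coe_pow]
    exact hpow x x.2
  obtain ⟨s, hs⟩ := IsPGroup.iff_card.1 hQp
  rw [hQcard] at hs
  obtain ⟨m, hm, hnm⟩ := (Nat.dvd_prime_pow hr).1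
    (hs ▸ Dvd.intro (Fintype.card ι) rfl : Fintype.card ι ∣ r ^ s)
  have hm1 : 1 ≤ m := by
    rcases Nat.eq_zero_or_pos m with rfl | h
    · rw [pow_zero] at hnm; omega
    · exact h
  have hQm : Nat.card Q = r ^ (2 * m) := by rw [hQcard, hnm, ← pow_add, two_mul]
  have hrbig : r < Nat.card Q := by
    rw [hQm]
    calc r = r ^ 1 := (pow_one r).symm
      _ < r ^ (2 * m) := Nat.pow_lt_pow_right hr.one_lt (by omega)
  -- a non-trivial root of unity, so the characteristic is not r
  obtain ⟨ζ₁, hζ₁, hζ₁r⟩ : ∃ ζ : Fˣ, ζ ≠ 1 ∧ ζ ^ r = 1 := by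
    by_contra hno
    have hall : ∀ x ∈ N, x ∈ Z := fun x hx => by
      by_contra hxZ
      exact hno (htr x hx hxZ).2
    haveI : Subsingleton Q := QuotientGroup.subsingleton_iff.2
      (Subgroup.eq_top_iff' _ |>.2 fun x => hall x x.2)
    have : Nat.card Q = 1 := Nat.card_of_subsingleton default
    have := hr.one_lt
    omega
  have hordζ : orderOf ζ₁ = r := orderOf_eq_prime hζ₁r hζ₁
  have hchar : (r : F) ≠ 0 := by
    intro h0
    haveI : CharP F r := (CharP.charP_iff_prime_eq_zero hr).2 h0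
    apply hζ₁
    apply Units.ext
    have h1 : ((ζ₁ : F) - 1) ^ r = 0 := by
      rw [sub_pow_char, one_pow, ← Units.val_pow_eq_pow_val, hζ₁r, Units.val_one, sub_self]
    rw [Units.val_one, ← sub_eq_zero]
    exact eq_zero_of_pow_eq_zero h1
  have hrdvd : r ∣ Nat.card Fˣ := hordζ ▸ orderOf_dvd_natCard ζ₁
  -- exponents
  set E := r * Nat.gcd 2 r with hE
  have hgcd : (Odd r ∧ E = r) ∨ (r = 2 ∧ E = 4) := by
    rcases hr.eq_two_or_odd' with rfl | h
    · right; simp [hE]
    · left
      refine ⟨h, ?_⟩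
      rw [hE, Nat.coprime_iff_gcd_eq_one.1 (Nat.coprime_two_left.2 h), mul_one]
  have hdvdE : r ∣ E := Dvd.intro _ rfl
  have hchoose : r ∣ E.choose 2 := by
    rcases hgcd with ⟨h, hE'⟩ | ⟨h, hE'⟩
    · rw [hE']
      exact hr.dvd_choose_self (by norm_num) (by
        rcases h with ⟨k, rfl⟩
        have := hr.one_lt
        omega)
    · rw [hE', h]; decide
  have hzeta : ∀ (ζ : Fˣ), ζ ^ r = 1 → ∀ k, r ∣ k → ζ ^ k = 1 := by
    rintro ζ h k ⟨j, rfl⟩
    rw [pow_mul, h, one_pow]
  -- the subgroup of elements of exponent E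
  let R : Subgroup (GL ι F) :=
    { carrier := {x | x ∈ N ∧ x ^ E = 1}
      mul_mem' := by
        rintro x y ⟨hx, hx'⟩ ⟨hy, hy'⟩
        obtain ⟨ζ, h, hζ⟩ := hom x hx y hy
        refine ⟨mul_mem hx hy, ?_⟩
        rw [(mul_pow_of_central_commutator (fun g => scalarUnit_comm ζ g) h E).1, hx', hy', ← map_pow,
          hzeta ζ hζ _ hchoose, map_one, one_mul, one_mul]
      one_mem' := ⟨one_mem N, one_pow E⟩
      inv_mem' := by
        rintro x ⟨hx, hx'⟩
        exact ⟨inv_mem hx, by rw [inv_pow, hx', inv_one]⟩ }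
  have hRN : R ≤ N := fun x hx => hx.1
  have hRH : ∀ g ∈ H, ∀ x ∈ R, g * x * g⁻¹ ∈ R := by
    rintro g hg x ⟨hx, hx'⟩
    exact ⟨hNH g hg x hx, by rw [conj_pow, hx', mul_one, mul_inv_cancel]⟩
  have hscalR : ∀ c : Fˣ, c ^ E = 1 → scalarUnit ι F c ∈ R := fun c hc =>
    ⟨hZN (scalarUnit_mem c), by rw [← map_pow, hc, map_one]⟩
  -- every element of N is a scalar times an element of R
  have hrange : Nat.card (Fˣ ⧸ (powMonoidHom r : Fˣ →* Fˣ).range) ≤ r := by
    rw [← Subgroup.index_eq_card, IsCyclic.index_powMonoidHom_range]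
    exact Nat.le_of_dvd hr.pos (Nat.gcd_dvd_right _ _)
  have hnorm : ∀ x ∈ N, ∃ c : Fˣ, (scalarUnit ι F c * x) ^ E = 1 := by
    -- it suffices that x ^ r is the r-th power of a scalar, or minus that when r = 2
    have key : ∀ x ∈ N, ∃ b : Fˣ, x ^ r = scalarUnit ι F (b ^ r) ∨
        (r = 2 ∧ x ^ r = scalarUnit ι F (-(b ^ r))) := by
      by_cases hneg : r = 2 ∧ ¬ ∃ i : Fˣ, i ^ 2 = -1
      · obtain ⟨h2, hni⟩ := hneg
        intro x hx
        obtain ⟨a, ha⟩ := mem_scalars_iff_scalarUnit.1 (hpow x hx)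
        have hidx : (powMonoidHom r : Fˣ →* Fˣ).range.index = 2 := by
          rw [IsCyclic.index_powMonoidHom_range, Nat.gcd_eq_right hrdvd, h2]
        by_cases hsq : a ∈ (powMonoidHom r : Fˣ →* Fˣ).range
        · obtain ⟨b, hb⟩ := hsq
          exact ⟨b, Or.inl (by rw [← ha, ← hb]; rfl)⟩
        · have hm : a * (-1) ∈ (powMonoidHom r : Fˣ →* Fˣ).range := by
            rw [Subgroup.mul_mem_iff_of_index_two hidx]
            refine iff_of_false hsq ?_
            rintro ⟨i, hi⟩
            exact hni ⟨i, by rw [← hi, h2]; rfl⟩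
          obtain ⟨b, hb⟩ := hm
          refine ⟨b, Or.inr ⟨h2, ?_⟩⟩
          rw [← ha]
          congr 1
          have : b ^ r = a * (-1) := hb
          rw [this, mul_neg_one, neg_neg]
      · -- the map to scalars modulo r-th powers is a homomorphism
        have hsq : ∀ ζ : Fˣ, ζ ^ r = 1 → ζ ^ r.choose 2 ∈ (powMonoidHom r : Fˣ →* Fˣ).range := by
          intro ζ hζ
          rcases hgcd with ⟨h, -⟩ | ⟨h, -⟩
          · rw [hzeta ζ hζ _ (hr.dvd_choose_self (by norm_num) (by
              rcases h with ⟨k, rfl⟩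
              have := hr.one_lt
              omega))]
            exact one_mem _
          · subst h
            rw [Nat.choose_self, pow_one]
            have h' : (ζ : F) ^ 2 = 1 := by rw [← Units.val_pow_eq_pow_val, hζ, Units.val_one]
            rcases sq_eq_one_iff.1 h' with h1 | h1
            · exact ⟨1, Units.ext (by simp [h1])⟩
            · obtain ⟨i, hi⟩ : ∃ i : Fˣ, i ^ 2 = -1 := by
                by_contra hno
                exact hneg ⟨rfl, hno⟩
              exact ⟨i, Units.ext (by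
                show ((i ^ 2 : Fˣ) : F) = _
                rw [hi]
                simp [h1])⟩
        let K : Subgroup (GL ι F) :=
          { carrier := {x | x ∈ N ∧ ∃ b : Fˣ, x ^ r = scalarUnit ι F (b ^ r)}
            mul_mem' := by
              rintro x y ⟨hx, b, hb⟩ ⟨hy, d, hd⟩
              obtain ⟨ζ, h, hζ⟩ := hom x hx y hy
              obtain ⟨i, hi⟩ := hsq ζ hζ
              refine ⟨mul_mem hx hy, b * d * i, ?_⟩
              rw [(mul_pow_of_central_commutator (fun g => scalarUnit_comm ζ g) h r).1, hb, hd,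
                ← map_pow, ← map_mul, ← map_mul]
              congr 1
              rw [mul_pow, mul_pow, show i ^ r = ζ ^ r.choose 2 from hi]
            one_mem' := ⟨one_mem N, 1, by simp⟩
            inv_mem' := by
              rintro x ⟨hx, b, hb⟩
              exact ⟨inv_mem hx, b⁻¹, by rw [inv_pow, hb, inv_pow, map_inv]⟩ }
        have hZK : Z ≤ K := by
          rintro x hx
          obtain ⟨c, rfl⟩ := mem_scalars_iff_scalarUnit.1 hx
          exact ⟨hZN (scalarUnit_mem c), c, (map_pow _ c r).symm⟩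
        rcases hmin K hZK (fun x hx => hx.1) (fun g hg x hx => by
          obtain ⟨hx, b, hb⟩ := hx
          refine ⟨hNH g hg x hx, b, ?_⟩
          rw [conj_pow, hb, scalarUnit_comm, mul_inv_cancel_right]) with hK | hK
        · exfalso
          choose a ha using fun x : N => mem_scalars_iff_scalarUnit.1 (hpow x x.2)
          let χ : N →* Fˣ ⧸ (powMonoidHom r : Fˣ →* Fˣ).range :=
            { toFun := fun x => (a x : Fˣ ⧸ (powMonoidHom r : Fˣ →* Fˣ).range)
              map_one' := by
                have h1 : a (1 : N) = 1 := scalarUnit_injective (by rw [ha, map_one]; simp)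
                rw [h1]; rfl
              map_mul' := fun x y => by
                obtain ⟨ζ, h, hζ⟩ := hom x x.2 y y.2
                have h1 : a (x * y) = a x * a y * ζ ^ r.choose 2 := scalarUnit_injective (by
                  rw [map_mul, map_mul, ha, ha, ha, Subgroup.coe_mul,
                    (mul_pow_of_central_commutator (fun g => scalarUnit_comm ζ g) h r).1, map_pow])
                rw [h1, QuotientGroup.mk_mul, QuotientGroup.mk_mul,
                  (QuotientGroup.eq_one_iff _).2 (hsq ζ hζ), mul_one] }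
          have hker : χ.ker = Z.subgroupOf N := by
            ext x
            rw [MonoidHom.mem_ker, Subgroup.mem_subgroupOf, ← hK]
            show (a x : Fˣ ⧸ (powMonoidHom r : Fˣ →* Fˣ).range) = 1 ↔ _
            rw [QuotientGroup.eq_one_iff]
            constructor
            · rintro ⟨b, hb⟩
              exact ⟨x.2, b, by rw [show b ^ r = a x from hb, ha]⟩
            · rintro ⟨-, b, hb⟩
              exact ⟨b, (scalarUnit_injective (by rw [ha]; exact hb)).symm⟩
          have h1 : Nat.card (N ⧸ χ.ker) ≤ Nat.card (Fˣ ⧸ (powMonoidHom r : Fˣ →* Fˣ).range) :=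
            Nat.card_le_card_of_injective _ (QuotientGroup.kerLift_injective χ)
          rw [Nat.card_congr (QuotientGroup.quotientMulEquivOfEq hker).toEquiv] at h1
          exact absurd (h1.trans hrange) (not_le.2 hrbig)
        · intro x hx
          rw [← hK] at hx
          obtain ⟨-, b, hb⟩ := hx
          exact ⟨b, Or.inl hb⟩
    intro x hx
    obtain ⟨b, hb⟩ := key x hx
    refine ⟨b⁻¹, ?_⟩
    obtain ⟨j, hj⟩ := hdvdE
    rw [Commute.mul_pow (scalarUnit_comm b⁻¹ x).symm, hj, pow_mul x r j]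
    rcases hb with h | ⟨h2, h⟩
    · rw [h, ← map_pow, ← map_pow, ← map_mul, ← pow_mul, inv_pow, inv_mul_cancel, map_one]
    · rw [h, ← map_pow, ← map_pow, ← map_mul]
      have hj2 : Even j := by
        rcases hgcd with ⟨ho, -⟩ | ⟨-, h4⟩
        · exact absurd (h2 ▸ ho) (by decide)
        · exact ⟨1, by rw [hj, h2] at h4; omega⟩
      rw [hj2.neg_pow, ← pow_mul, inv_pow, inv_mul_cancel, map_one]
  have hdecomp : ∀ x ∈ N, ∃ c : Fˣ, scalarUnit ι F c * x ∈ R := fun x hx =>
    (hnorm x hx).imp fun c hc => ⟨mul_mem (hZN (scalarUnit_mem c)) hx, hc⟩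
  have hRtop : Algebra.adjoin F (Cfsg.Geo.matrixSet R) = ⊤ := by
    rw [eq_top_iff, ← htop]
    refine Algebra.adjoin_le ?_
    rintro _ ⟨x, hx, rfl⟩
    obtain ⟨c, hc⟩ := hdecomp x hx
    show (x : Matrix ι ι F) ∈ _
    rw [show x = scalarUnit ι F c⁻¹ * (scalarUnit ι F c * x) by
      rw [← mul_assoc, ← map_mul, inv_mul_cancel, map_one, one_mul], Units.val_mul, scalarUnit_coe,
      Matrix.smul_mul, one_mul]
    exact Subalgebra.smul_mem _ (Algebra.subset_adjoin (mem_matrixSet hc)) _
  have habsR := absIrred_of_adjoin_eq_top hRtop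
  -- the centre and the quotient of R
  let π : R →* Q := (QuotientGroup.mk' (Z.subgroupOf N)).comp (Subgroup.inclusion hRN)
  have hπker : ∀ x : R, x ∈ π.ker ↔ (x : GL ι F) ∈ Z := fun x => by
    rw [MonoidHom.mem_ker]
    exact QuotientGroup.eq_one_iff _
  have hπsurj : Function.Surjective π := by
    intro a
    obtain ⟨x, rfl⟩ := QuotientGroup.mk_surjective a
    obtain ⟨c, hc⟩ := hdecomp x x.2
    refine ⟨⟨_, hc⟩, ?_⟩
    show ((Subgroup.inclusion hRN ⟨_, hc⟩ : N) : Q) = (x : Q)
    rw [QuotientGroup.eq, Subgroup.mem_subgroupOf]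
    show (scalarUnit ι F c * (x : GL ι F))⁻¹ * (x : GL ι F) ∈ Z
    rw [scalarUnit_comm c (x : GL ι F) |>.symm, _root_.mul_inv_rev, mul_assoc, inv_mul_cancel, mul_one, ← map_inv]
    exact scalarUnit_mem c⁻¹
  have hcenter : Subgroup.center R = π.ker := by
    ext x
    rw [Subgroup.mem_center_iff, hπker]
    constructor
    · intro h
      obtain ⟨c, hc⟩ := habsR.2 ((x : GL ι F) : Matrix ι ι F) (by
        rintro _ ⟨y, hy, rfl⟩
        exact (congrArg (fun u : R => ((u : GL ι F) : Matrix ι ι F)) (h ⟨y, hy⟩)).symm)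
      exact mem_scalars_of_eq_smul _ c hc
    · intro h y
      exact Subtype.ext (scalars_comm h _)
  have hcardZ : Nat.card (Subgroup.center R) = (Nat.card Fˣ).gcd E := by
    rw [hcenter, ← IsCyclic.card_powMonoidHom_ker Fˣ E]
    refine (Nat.card_congr (Equiv.ofBijective
      (fun c => ⟨⟨scalarUnit ι F (c : Fˣ), hscalR _ c.2⟩, (hπker _).2 (scalarUnit_mem _)⟩) ⟨?_, ?_⟩)).symm
    · intro c d h
      apply Subtype.ext
      exact scalarUnit_injective (congrArg (fun u : π.ker => ((u : R) : GL ι F)) h)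
    · rintro ⟨⟨x, hx⟩, hxk⟩
      obtain ⟨c, hc⟩ := mem_scalars_iff_scalarUnit.1 ((hπker _).1 hxk)
      refine ⟨⟨c, scalarUnit_injective (by
        show scalarUnit ι F (c ^ E) = scalarUnit ι F 1
        rw [map_pow, hc, hx.2, map_one])⟩, ?_⟩
      exact Subtype.ext (Subtype.ext hc)
  have hcardR : Nat.card R = Nat.card (Subgroup.center R) * r ^ (2 * m) := by
    rw [hcenter, ← hQm, Subgroup.card_eq_card_quotient_mul_card_subgroup π.ker,
      Nat.card_congr (QuotientGroup.quotientKerEquivOfSurjective π hπsurj).toEquiv, mul_comm]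
  have hcases : (Odd r ∧ Nat.card (Subgroup.center R) = r) ∨
      (r = 2 ∧ (Nat.card (Subgroup.center R) = 2 ∨ Nat.card (Subgroup.center R) = 4)) := by
    rw [hcardZ]
    rcases hgcd with ⟨h, hE'⟩ | ⟨h, hE'⟩
    · exact Or.inl ⟨h, by rw [hE', Nat.gcd_eq_right hrdvd]⟩
    · refine Or.inr ⟨h, ?_⟩
      rw [hE']
      have h2 : (2 : ℕ) ∣ (Nat.card Fˣ).gcd 4 := Nat.dvd_gcd (h ▸ hrdvd) (by norm_num)
      have h4 : (Nat.card Fˣ).gcd 4 ≤ 4 := Nat.le_of_dvd (by norm_num) (Nat.gcd_dvd_right _ _)
      have h44 : (Nat.card Fˣ).gcd 4 ∣ 4 := Nat.gcd_dvd_right _ _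
      interval_cases hg : (Nat.card Fˣ).gcd 4 <;> omega
  -- R is not abelian
  have hnotcomm : ¬ ∀ x ∈ R, ∀ y ∈ R, x * y = y * x := by
    intro h
    have hle : R ≤ Z := by
      intro x hx
      obtain ⟨c, hc⟩ := habsR.2 (x : Matrix ι ι F) (by
        rintro _ ⟨y, hy, rfl⟩
        exact congrArg Units.val (h x hx y hy))
      exact mem_scalars_of_eq_smul _ c hc
    haveI : Subsingleton Q := by
      refine QuotientGroup.subsingleton_iff.2 (Subgroup.eq_top_iff' _ |>.2 fun x => ?_)
      obtain ⟨c, hc⟩ := hdecomp x x.2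
      show (x : GL ι F) ∈ Z
      have := mul_mem (inv_mem (scalarUnit_mem (ι := ι) c)) (hle hc)
      simpa using this
    have : Nat.card Q = 1 := Nat.card_of_subsingleton default
    have := hr.one_lt
    omega
  refine ⟨R, ⟨hr, ?_, hchar, hn0, ⟨hr, ?_, ?_, ?_⟩, hRtop, hRH, ?_, hscalR, hcardZ, hcases,
    ⟨m, hm1, hnm, hcardR⟩⟩, hRN, hdecomp⟩
  · intro h2
    have := hchar
    rw [h2] at this
    simpa using this
  · -- a p-group
    rintro ⟨x, hx⟩
    rcases hgcd with ⟨-, hE'⟩ | ⟨h2, hE'⟩
    · exact ⟨1, Subtype.ext (by rw [pow_one, SubmonoidClass.coe_pow, ← hE']; exact hx.2)⟩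
    · exact ⟨2, Subtype.ext (by
        rw [SubmonoidClass.coe_pow, h2, show (2 : ℕ) ^ 2 = E by omega]; exact hx.2)⟩
  · -- characteristic abelian subgroups are cyclic
    intro A hA hAc
    have hAH : ∀ g ∈ H, ∀ x ∈ A.map R.subtype, g * x * g⁻¹ ∈ A.map R.subtype := by
      rintro g hg _ ⟨a, ha, rfl⟩
      let φ : R ≃* R :=
        { toFun := fun x => ⟨g * x * g⁻¹, hRH g hg x x.2⟩
          invFun := fun x => ⟨g⁻¹ * x * g, by simpa using hRH g⁻¹ (inv_mem hg) x x.2⟩
          left_inv := fun x => Subtype.ext (by simp [mul_assoc])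
          right_inv := fun x => Subtype.ext (by simp [mul_assoc])
          map_mul' := fun x y => Subtype.ext (by simp [mul_assoc]) }
      refine ⟨φ a, ?_, rfl⟩
      have := hA.fixed φ
      have ha' : a ∈ A.comap φ.toMonoidHom := this.symm ▸ ha
      exact ha'
    have hAN : A.map R.subtype ⊔ Z ≤ N :=
      sup_le (by rintro _ ⟨a, -, rfl⟩; exact hRN a.2) hZN
    rcases hmin (A.map R.subtype ⊔ Z) le_sup_right hAN (fun g hg x hx => by
      have : A.map R.subtype ⊔ Z ≤
          (A.map R.subtype ⊔ Z).comap (MulAut.conj g).toMonoidHom := by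
        refine sup_le (fun y hy => Subgroup.mem_sup_left (hAH g hg y hy)) (fun y hy => ?_)
        exact Subgroup.mem_sup_right (Subgroup.Normal.conj_mem inferInstance y hy g)
      exact this hx) with h | h
    · have hAZ : ∀ a : A, ((a : R) : GL ι F) ∈ Z := fun a =>
        h ▸ Subgroup.mem_sup_left ⟨a, a.2, rfl⟩
      choose f hf using fun a => mem_scalars_iff_scalarUnit.1 (hAZ a)
      let fh : A →* Fˣ :=
        { toFun := f
          map_one' := scalarUnit_injective (by rw [hf, map_one]; rfl)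
          map_mul' := fun x y => scalarUnit_injective (by rw [hf, map_mul, hf, hf]; rfl) }
      exact isCyclic_of_injective fh fun a b hab => by
        have h1 := (hf a).symm.trans ((congrArg (scalarUnit ι F) hab).trans (hf b))
        exact Subtype.ext (Subtype.ext h1)
    · exfalso
      apply hnotcomm
      have hcen : A.map R.subtype ⊔ Z ≤ Subgroup.centralizer (A.map R.subtype ⊔ Z : Subgroup _) := by
        refine sup_le ?_ ?_
        · rw [Subgroup.le_centralizer_iff]
          refine sup_le ?_ ?_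
          · rintro _ ⟨a, ha, rfl⟩
            rw [Subgroup.mem_centralizer_iff]
            rintro _ ⟨b, hb, rfl⟩
            haveI := hAc
            exact congrArg (fun u : A => ((u : R) : GL ι F))
              (Std.Commutative.comm (op := (· * · : A → A → A)) ⟨b, hb⟩ ⟨a, ha⟩)
          · intro z hz
            rw [Subgroup.mem_centralizer_iff]
            exact fun y _ => scalars_comm hz y
        · intro z hz
          rw [Subgroup.mem_centralizer_iff]
          exact fun y _ => scalars_comm hz y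
      rw [h] at hcen
      intro x hx y hy
      exact (Subgroup.mem_centralizer_iff.1 (hcen (hRN hy)) x (hRN hx))
  · -- the exponent
    have hdvd : Monoid.exponent R ∣ E :=
      Monoid.exponent_dvd_of_forall_pow_eq_one fun x => Subtype.ext (by
        rw [SubmonoidClass.coe_pow]; exact x.2.2)
    have hne1 : Monoid.exponent R ≠ 1 := by
      intro h1
      apply hnotcomm
      intro x hx y hy
      have h2 := Monoid.pow_exponent_eq_one (⟨x, hx⟩ : R)
      rw [h1, pow_one] at h2
      have : x = 1 := congrArg Subtype.val h2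
      simp [this]
    show Monoid.exponent R = E
    rcases hgcd with ⟨-, hE'⟩ | ⟨-, hE'⟩
    · rw [hE'] at hdvd ⊢
      exact (hr.eq_one_or_self_of_dvd _ hdvd).resolve_left hne1
    · rw [hE'] at hdvd ⊢
      have hne2 : Monoid.exponent R ≠ 2 := by
        intro h2
        apply hnotcomm
        intro x hx y hy
        have key : ∀ u : R, u⁻¹ = u := fun u => by
          have h3 := Monoid.pow_exponent_eq_one u
          rw [h2, pow_two] at h3
          exact inv_eq_of_mul_eq_one_right h3
        have h4 : (⟨x, hx⟩ * ⟨y, hy⟩ : R) = ⟨y, hy⟩ * ⟨x, hx⟩ := by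
          rw [← key (⟨x, hx⟩ * ⟨y, hy⟩), _root_.mul_inv_rev, key, key]
        exact congrArg Subtype.val h4
      obtain ⟨k, hk, hk'⟩ := (Nat.dvd_prime_pow Nat.prime_two).1
        (show Monoid.exponent R ∣ 2 ^ 2 by norm_num; exact hdvd)
      interval_cases k <;> simp_all
  · -- scalars or trace zero
    rintro x ⟨hx, hx'⟩
    by_cases hxZ : x ∈ Z
    · obtain ⟨c, rfl⟩ := mem_scalars_iff_scalarUnit.1 hxZ
      exact Or.inl ⟨c, scalarUnit_injective (by rw [map_pow, hx', map_one]), rfl⟩
    · exact Or.inr (htr x hx hxZ).1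

end Cfsg.Agent.Aschbacher
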