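/-
Forms fixed by a group of symplectic type, found by averaging.
-/
import Mathlib
import Cfsg.Agent.Aschbacher.Forms
import Cfsg.Agent.Aschbacher.SymplecticType

set_option autoImplicit false
set_option linter.style.haveILetI false

namespace Cfsg.Agent.Aschbacher

open Matrix

variable {ι : Type} [Fintype ι] [DecidableEq ι] {F : Type*} [Field F]

lemma centre_eq_scalars [Nonempty ι] {R : Subgroup (GL ι F)}
    (htop : Algebra.adjoin F (Cfsg.Geo.matrixSet R) = ⊤) (x : R) :
    x ∈ Subgroup.center R ↔ (x : GL ι F) ∈ Cfsg.Geo.scalars ι F := by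
  rw [Subgroup.mem_center_iff]
  constructor
  · intro h
    obtain ⟨c, hc⟩ := (absIrred_of_adjoin_eq_top htop).2 ((x : GL ι F) : Matrix ι ι F) (by
      rintro _ ⟨y, hy, rfl⟩
      exact (congrArg (fun u : R => ((u : GL ι F) : Matrix ι ι F)) (h ⟨y, hy⟩)).symm)
    exact mem_scalars_of_eq_smul _ c hc
  · intro h y
    exact Subtype.ext (scalars_comm h _)

/-- A group of symplectic type fixes a non-degenerate form for any field map inverting its centre. -/
theorem exists_fixed_form [Finite F] [Nonempty ι] (τ : F →+* F) {H R : Subgroup (GL ι F)} {r : ℕ}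
    (hd : SymplecticData H R r) (hτ : ∀ c : Fˣ, c ^ (r * Nat.gcd 2 r) = 1 → τ c * c = 1) :
    ∃ T : Matrix ι ι F, IsUnit T.det ∧ Fixes τ R T := by
  classical
  haveI : Fintype R := Fintype.ofFinite R
  let avg : Matrix ι ι F → Matrix ι ι F := fun M =>
    ∑ x : R, ((x : GL ι F) : Matrix ι ι F)ᵀ * M * ((x : GL ι F) : Matrix ι ι F).map τ
  have hfix : ∀ M, Fixes τ R (avg M) := by
    intro M s hs
    simp only [avg, Finset.mul_sum, Finset.sum_mul]
    refine Fintype.sum_equiv (Equiv.mulRight ⟨s, hs⟩) _ _ fun x => ?_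
    simp only [Equiv.coe_mulRight, Subgroup.coe_mul, Units.val_mul, Matrix.transpose_mul, Matrix.map_mul]
    simp only [mul_assoc]
  have hentry : ∀ a b, avg (Matrix.single a b 1) a b =
      ∑ x : R, ((x : GL ι F) : Matrix ι ι F) a a * τ (((x : GL ι F) : Matrix ι ι F) b b) := by
    intro a b
    simp only [avg, Matrix.sum_apply]
    refine Finset.sum_congr rfl fun x _ => ?_
    rw [Matrix.mul_apply, Finset.sum_eq_single b, Matrix.mul_apply, Finset.sum_eq_single a]
    · simp
    · intro c _ hc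
      rw [Matrix.single_apply_of_ne _ _ _ _ _ fun h => hc h.1.symm, mul_zero]
    · simp
    · intro c _ hc
      rw [Matrix.mul_apply, Finset.sum_eq_zero (fun d _ => by
        rw [Matrix.single_apply_of_ne _ _ _ _ _ fun h => hc h.2.symm, mul_zero]), zero_mul]
    · simp
  obtain ⟨T, hT0, hT⟩ : ∃ T, T ≠ 0 ∧ Fixes τ R T := by
    by_contra hno
    push Not at hno
    have hzero : ∀ M, avg M = 0 := fun M => by
      by_contra h
      exact hno _ h (hfix M)
    have h1 : ∑ x : R, ((x : GL ι F) : Matrix ι ι F).trace * τ ((x : GL ι F) : Matrix ι ι F).trace = 0 := by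
      have : ∑ a, ∑ b, avg (Matrix.single a b 1) a b = 0 := by simp [hzero]
      rw [← this]
      simp only [hentry, Matrix.trace, Matrix.diag, map_sum, Finset.sum_mul_sum]
      rw [Finset.sum_comm (s := (Finset.univ : Finset R))]
      exact Finset.sum_congr rfl fun a _ => Finset.sum_comm
    have hterm : ∀ x : R, ((x : GL ι F) : Matrix ι ι F).trace * τ ((x : GL ι F) : Matrix ι ι F).trace =
        if x ∈ Subgroup.center R then (Fintype.card ι : F) * (Fintype.card ι : F) else 0 := by
      intro x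
      rcases hd.scalar_or_trace x x.2 with ⟨c, hc, hcx⟩ | h
      · rw [if_pos ((centre_eq_scalars hd.adjoin_top x).2 (hcx ▸ scalarUnit_mem c)), ← hcx,
          scalarUnit_coe, Matrix.trace_smul, Matrix.trace_one, smul_eq_mul, map_mul, map_natCast]
        linear_combination ((Fintype.card ι : F) * (Fintype.card ι : F)) * hτ c hc
      · rw [h, zero_mul, if_neg]
        intro hx
        obtain ⟨c, hc⟩ := mem_scalars_iff_scalarUnit.1 ((centre_eq_scalars hd.adjoin_top x).1 hx)
        rw [← hc, scalarUnit_coe, Matrix.trace_smul, Matrix.trace_one, smul_eq_mul] at h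
        rcases mul_eq_zero.1 h with h' | h'
        · exact c.ne_zero h'
        · exact hd.card_ne h'
    simp only [hterm, Finset.sum_ite, Finset.sum_const_zero, add_zero, Finset.sum_const,
      nsmul_eq_mul] at h1
    rw [← Fintype.card_subtype, ← Nat.card_eq_fintype_card] at h1
    have hμ : ((Nat.card (Subgroup.center R) : ℕ) : F) ≠ 0 := by
      rcases hd.card_center_cases with ⟨-, h⟩ | ⟨h2, h | h⟩
      · rw [h]; exact hd.ne_char
      · rw [h]; exact_mod_cast hd.two_ne h2
      · rw [h, show ((4 : ℕ) : F) = 2 * 2 by norm_num]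
        exact mul_ne_zero (hd.two_ne h2) (hd.two_ne h2)
    exact mul_ne_zero hμ (mul_ne_zero hd.card_ne hd.card_ne) h1
  refine ⟨T, ?_, hT⟩
  by_contra hdet
  rw [isUnit_iff_ne_zero, not_not] at hdet
  obtain ⟨w, hw0, hw⟩ := Matrix.exists_mulVec_eq_zero_iff.2 hdet
  have hτs : Function.Surjective τ := Finite.injective_iff_surjective.1 τ.injective
  choose v hv using fun i => hτs (w i)
  let W : Submodule F (ι → F) :=
    { carrier := {u | T *ᵥ (τ ∘ u) = 0}
      add_mem' := fun {a b} ha hb => by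
        show T *ᵥ (τ ∘ (a + b)) = 0
        rw [show τ ∘ (a + b) = τ ∘ a + τ ∘ b from funext fun i => map_add τ _ _, Matrix.mulVec_add,
          ha, hb, add_zero]
      zero_mem' := by
        show T *ᵥ (τ ∘ (0 : ι → F)) = 0
        rw [show τ ∘ (0 : ι → F) = 0 from funext fun i => map_zero τ, Matrix.mulVec_zero]
      smul_mem' := fun c u hu => by
        show T *ᵥ (τ ∘ (c • u)) = 0
        rw [show τ ∘ (c • u) = τ c • (τ ∘ u) from funext fun i => map_mul τ _ _, Matrix.mulVec_smul,
          hu, smul_zero] }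
  have hvW : v ∈ W := by
    show T *ᵥ (τ ∘ v) = 0
    rw [show τ ∘ v = w from funext hv, hw]
  have hv0 : v ≠ 0 := by
    rintro rfl
    exact hw0 (funext fun i => by rw [← hv i]; exact map_zero τ)
  have hirr : Irred R := (absIrred_of_adjoin_eq_top hd.adjoin_top).1
  have hW : W = ⊤ := hirr.eq_top (fun g hg u hu => by
    show T *ᵥ (τ ∘ ((g : Matrix ι ι F) *ᵥ u)) = 0
    rw [map_mulVec_comp]
    have h2 := congrArg (fun M => ((g⁻¹ : GL ι F) : Matrix ι ι F)ᵀ * M) (hT g hg)
    simp only [← mul_assoc, ← Matrix.transpose_mul, Units.mul_inv, Matrix.transpose_one, one_mul] at h2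
    rw [Matrix.mulVec_mulVec, h2, ← Matrix.mulVec_mulVec, hu, Matrix.mulVec_zero]) hvW hv0
  apply hT0
  apply Matrix.ext_of_mulVec_single
  intro i
  have h1 : (Pi.single i 1 : ι → F) ∈ W := hW ▸ Submodule.mem_top
  have h2 : τ ∘ (Pi.single i (1 : F) : ι → F) = Pi.single i 1 := by
    funext k
    by_cases h : k = i
    · subst h; simp
    · simp [Pi.single_eq_of_ne h]
  have h3 : T *ᵥ (τ ∘ (Pi.single i (1 : F) : ι → F)) = 0 := h1
  rw [h2] at h3
  rw [h3, Matrix.zero_mulVec]

lemma fixes_transpose_map {τ : F →+* F} (hinv : ∀ a, τ (τ a) = a) {R : Subgroup (GL ι F)}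
    {T : Matrix ι ι F} (h : Fixes τ R T) : Fixes τ R (T.map τ)ᵀ := by
  intro s hs
  have h1 := congrArg (fun M : Matrix ι ι F => (M.map τ)ᵀ) (h s hs)
  simp only [Matrix.map_mul, Matrix.transpose_mul, Matrix.transpose_map, Matrix.map_map] at h1
  rw [show τ ∘ τ = id from funext hinv, Matrix.map_id] at h1
  rw [Matrix.transpose_transpose] at h1
  rw [mul_assoc]
  exact h1

lemma isUnit_det_smul {T : Matrix ι ι F} (hT : IsUnit T.det) {c : F} (hc : c ≠ 0) :
    IsUnit (c • T).det := by
  rw [Matrix.det_smul]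
  exact (IsUnit.mk0 _ (pow_ne_zero _ hc)).mul hT

/-- A fixed form for a non-trivial involutory field map can be made Hermitian. -/
theorem exists_hermitian_of_fixes [Nonempty ι] {τ : F →+* F} (hinv : ∀ a, τ (τ a) = a)
    {a₀ : F} (ha₀ : τ a₀ ≠ a₀) {R : Subgroup (GL ι F)}
    (habs : Cfsg.Geo.ActsAbsolutelyIrreducibly (Cfsg.Geo.matrixSet R)) {T : Matrix ι ι F}
    (hT : IsUnit T.det) (h : Fixes τ R T) :
    ∃ T' : Matrix ι ι F, IsUnit T'.det ∧ Fixes τ R T' ∧ (T'.map τ)ᵀ = T' := by
  obtain ⟨c, hc⟩ := exists_smul_of_fixes τ habs hT h (fixes_transpose_map hinv h)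
  have hfix : ∀ d : F, Fixes τ R (d • T) := by
    intro d s hs
    rw [Matrix.mul_smul, Matrix.smul_mul, h s hs]
  have hstar : ∀ d : F, ((d • T).map τ)ᵀ = (τ d * c) • T := by
    intro d
    rw [Matrix.map_smul' τ d T (map_mul τ), Matrix.transpose_smul, hc, smul_smul]
  have hcc : τ c * c = 1 := by
    have h1 := hstar c
    rw [← hc, Matrix.transpose_map, Matrix.transpose_transpose, Matrix.map_map,
      show τ ∘ τ = id from funext hinv, Matrix.map_id] at h1
    obtain ⟨i, j, hij⟩ : ∃ i j, T i j ≠ 0 := by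
      by_contra hh
      push Not at hh
      exact hT.ne_zero (by rw [show T = 0 from Matrix.ext hh, Matrix.det_zero])
    have h2 := congrFun (congrFun h1 i) j
    simp only [Matrix.smul_apply, smul_eq_mul] at h2
    exact (mul_eq_right₀ hij).1 h2.symm
  obtain ⟨d, hd0, hd⟩ : ∃ d : F, d ≠ 0 ∧ τ d * c = d := by
    by_cases h1 : (1 : F) + c = 0
    · refine ⟨a₀ - τ a₀, sub_ne_zero.2 (Ne.symm ha₀), ?_⟩
      rw [map_sub, hinv]
      linear_combination (τ a₀ - a₀) * h1
    · refine ⟨1 + c, h1, ?_⟩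
      rw [map_add, map_one, add_mul, one_mul, hcc, add_comm]
  exact ⟨d • T, isUnit_det_smul hT hd0, hfix d, by rw [hstar, hd]⟩

/-- A fixed bilinear form is symmetric or skew. -/
theorem transpose_eq_or_neg_of_fixes [Nonempty ι] {R : Subgroup (GL ι F)}
    (habs : Cfsg.Geo.ActsAbsolutelyIrreducibly (Cfsg.Geo.matrixSet R)) {T : Matrix ι ι F}
    (hT : IsUnit T.det) (h : Fixes (RingHom.id F) R T) : Tᵀ = T ∨ Tᵀ = -T := by
  have h' := fixes_transpose_map (τ := RingHom.id F) (fun a => rfl) h
  rw [show T.map (RingHom.id F) = T from Matrix.map_id T] at h'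
  obtain ⟨c, hc⟩ := exists_smul_of_fixes _ habs hT h h'
  have h1 := congrArg Matrix.transpose hc
  rw [Matrix.transpose_transpose, Matrix.transpose_smul, hc, smul_smul] at h1
  obtain ⟨i, j, hij⟩ : ∃ i j, T i j ≠ 0 := by
    by_contra hh
    push Not at hh
    exact hT.ne_zero (by rw [show T = 0 from Matrix.ext hh, Matrix.det_zero])
  have h2 := congrFun (congrFun h1 i) j
  simp only [Matrix.smul_apply, smul_eq_mul] at h2
  rcases mul_self_eq_one_iff.1 ((mul_eq_right₀ hij).1 h2.symm) with rfl | rfl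
  · exact Or.inl (by rw [hc, one_smul])
  · exact Or.inr (by rw [hc, neg_one_smul])

end Cfsg.Agent.Aschbacher
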