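/-
Ways of landing in one of the eight classes in the linear case, and the case of an abelian minimal
normal subgroup.
-/
import Mathlib
import Cfsg.Agent.Aschbacher.FixedForms
import Cfsg.Agent.Aschbacher.Subfield

set_option autoImplicit false
set_option linter.style.haveILetI false

namespace Cfsg.Agent.Aschbacher

open Matrix

variable {F : Type*} [Field F] [Fintype F] {n : ℕ}

open Cfsg.Geo in
/-- A member of one of the eight classes, with the degree of a member of symplectic type recorded. -/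
def IsLinMember (n : ℕ) (F : Type*) [Field F] [Fintype F] (M : Subgroup (GL (Fin n) F)) : Prop :=
  (∃ W : Submodule F (Fin n → F), W ≠ ⊥ ∧ W ≠ ⊤ ∧ M = subspaceStabilizer W) ∨
  (∃ W U : Submodule F (Fin n → F), W ≠ ⊥ ∧ W < U ∧ Module.finrank F W + Module.finrank F U = n ∧
      M = subspaceStabilizer W ⊓ subspaceStabilizer U) ∨
  (∃ W U : Submodule F (Fin n → F), W ≠ ⊥ ∧ W ⊓ U = ⊥ ∧ W ⊔ U = ⊤ ∧
      Module.finrank F W < Module.finrank F U ∧ M = subspaceStabilizer W ⊓ subspaceStabilizer U) ∨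
  (∃ (t m : ℕ) (D : Fin t → Submodule F (Fin n → F)), IsMDecomposition m D ∧
      M = decompositionStabilizer D) ∨
  (∃ (r : ℕ) (K : Subalgebra F (Matrix (Fin n) (Fin n) F)), r.Prime ∧ IsFieldSubalgebra r K ∧
      M = subalgebraNormalizer K) ∨
  (∃ (n₁ n₂ : ℕ) (e : Fin n ≃ Fin n₁ × Fin n₂) (P : GL (Fin n) F), 2 ≤ n₁ ∧ n₁ < n₂ ∧
      M = tensorProductSubgroup n₁ n₂ e P) ∨
  (∃ (F₀ : Subfield F) (r : ℕ) (P : GL (Fin n) F), r.Prime ∧ Fintype.card F = Nat.card F₀ ^ r ∧
      M = subfieldSubgroup F₀ P) ∨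
  (∃ (r : ℕ) (R : Subgroup (GL (Fin n) F)), IsLinearSymplecticTypeData r R ∧ (∃ k : ℕ, n = r ^ k) ∧
      M = subgroupNormalizer R) ∨
  (∃ (m t : ℕ) (e : Fin n ≃ (Fin t → Fin m)) (P : GL (Fin n) F), 3 ≤ m ∧ 2 ≤ t ∧
      M = tensorWreathSubgroup m t e P) ∨
  (∃ f : (Fin n → F) → (Fin n → F) → F, IsSymplecticForm f ∧ Even n ∧ 4 ≤ n ∧ M = similarityGroup f) ∨
  (∃ (σ : F ≃+* F) (f : (Fin n → F) → (Fin n → F) → F), IsUnitaryForm σ f ∧ 3 ≤ n ∧
      M = similarityGroup f) ∨
  (∃ Q : (Fin n → F) → F, IsNondegenerateQuadraticForm Q ∧ Odd (Fintype.card F) ∧ 3 ≤ n ∧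
      M = quadSimilarityGroup Q)

lemma IsLinMember.inLinearClass {M : Subgroup (GL (Fin n) F)} (h : IsLinMember n F M) :
    Cfsg.Geo.InLinearClass n F M := by
  unfold IsLinMember at h
  unfold Cfsg.Geo.InLinearClass
  rcases h with h | h | h | h | h | h | h | ⟨r, R, h1, -, h2⟩ | h | h | h | h
  · exact Or.inl h
  · exact Or.inr (Or.inl h)
  · exact Or.inr (Or.inr (Or.inl h))
  · exact Or.inr (Or.inr (Or.inr (Or.inl h)))
  · exact Or.inr (Or.inr (Or.inr (Or.inr (Or.inl h))))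
  · exact Or.inr (Or.inr (Or.inr (Or.inr (Or.inr (Or.inl h)))))
  · exact Or.inr (Or.inr (Or.inr (Or.inr (Or.inr (Or.inr (Or.inl h))))))
  · exact Or.inr (Or.inr (Or.inr (Or.inr (Or.inr (Or.inr (Or.inr (Or.inl ⟨r, R, h1, h2⟩)))))))
  · exact Or.inr (Or.inr (Or.inr (Or.inr (Or.inr (Or.inr (Or.inr (Or.inr (Or.inl h))))))))
  · exact Or.inr (Or.inr (Or.inr (Or.inr (Or.inr (Or.inr (Or.inr (Or.inr (Or.inr (Or.inl h)))))))))
  · exact Or.inr (Or.inr (Or.inr (Or.inr (Or.inr (Or.inr (Or.inr (Or.inr (Or.inr (Or.inr (Or.inl h))))))))))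
  · exact Or.inr (Or.inr (Or.inr (Or.inr (Or.inr (Or.inr (Or.inr (Or.inr (Or.inr (Or.inr (Or.inr h))))))))))

/-- The subgroup lies in a member of one of the eight classes. -/
def InLinClass (H : Subgroup (GL (Fin n) F)) : Prop :=
  ∃ M : Subgroup (GL (Fin n) F), IsLinMember n F M ∧ H ≤ M

lemma InLinClass.exists_inLinearClass {H : Subgroup (GL (Fin n) F)} (h : InLinClass H) :
    ∃ M : Subgroup (GL (Fin n) F), Cfsg.Geo.InLinearClass n F M ∧ H ≤ M :=
  h.imp fun _ hM => ⟨hM.1.inLinearClass, hM.2⟩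

lemma inLinClass_subspace {H : Subgroup (GL (Fin n) F)} {W : Submodule F (Fin n → F)}
    (h0 : W ≠ ⊥) (h1 : W ≠ ⊤) (h : H ≤ Cfsg.Geo.subspaceStabilizer W) : InLinClass H :=
  ⟨_, Or.inl ⟨W, h0, h1, rfl⟩, h⟩

lemma inLinClass_decomposition {H : Subgroup (GL (Fin n) F)} {t m : ℕ}
    {D : Fin t → Submodule F (Fin n → F)} (hD : Cfsg.Geo.IsMDecomposition m D)
    (h : H ≤ Cfsg.Geo.decompositionStabilizer D) : InLinClass H :=
  ⟨_, Or.inr (Or.inr (Or.inr (Or.inl ⟨t, m, D, hD, rfl⟩))), h⟩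

lemma inLinClass_field {H : Subgroup (GL (Fin n) F)} {r : ℕ} (hr : r.Prime)
    {K : Subalgebra F (Matrix (Fin n) (Fin n) F)} (hK : Cfsg.Geo.IsFieldSubalgebra r K)
    (h : H ≤ Cfsg.Geo.subalgebraNormalizer K) : InLinClass H :=
  ⟨_, Or.inr (Or.inr (Or.inr (Or.inr (Or.inl ⟨r, K, hr, hK, rfl⟩)))), h⟩

lemma inLinClass_tensor {H : Subgroup (GL (Fin n) F)} {n₁ n₂ : ℕ} (h1 : 2 ≤ n₁) (h12 : n₁ < n₂)
    (e : Fin n ≃ Fin n₁ × Fin n₂) (P : GL (Fin n) F)
    (h : H ≤ Cfsg.Geo.tensorProductSubgroup n₁ n₂ e P) : InLinClass H :=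
  ⟨_, Or.inr (Or.inr (Or.inr (Or.inr (Or.inr (Or.inl ⟨n₁, n₂, e, P, h1, h12, rfl⟩))))), h⟩

lemma inLinClass_subfield {H : Subgroup (GL (Fin n) F)} {F₀ : Subfield F} {r : ℕ} (hr : r.Prime)
    (hcard : Fintype.card F = Nat.card F₀ ^ r) (P : GL (Fin n) F)
    (h : H ≤ Cfsg.Geo.subfieldSubgroup F₀ P) : InLinClass H :=
  ⟨_, Or.inr (Or.inr (Or.inr (Or.inr (Or.inr (Or.inr (Or.inl ⟨F₀, r, P, hr, hcard, rfl⟩)))))), h⟩

lemma inLinClass_symplecticType {H : Subgroup (GL (Fin n) F)} {r : ℕ} {R : Subgroup (GL (Fin n) F)}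
    (hR : Cfsg.Geo.IsLinearSymplecticTypeData r R) (hk : ∃ k : ℕ, n = r ^ k)
    (h : H ≤ Cfsg.Geo.subgroupNormalizer R) : InLinClass H :=
  ⟨_, Or.inr (Or.inr (Or.inr (Or.inr (Or.inr (Or.inr (Or.inr (Or.inl ⟨r, R, hR, hk, rfl⟩))))))), h⟩

lemma inLinClass_wreath {H : Subgroup (GL (Fin n) F)} {m t : ℕ} (hm : 3 ≤ m) (ht : 2 ≤ t)
    (e : Fin n ≃ (Fin t → Fin m)) (P : GL (Fin n) F)
    (h : H ≤ Cfsg.Geo.tensorWreathSubgroup m t e P) : InLinClass H :=
  ⟨_, Or.inr (Or.inr (Or.inr (Or.inr (Or.inr (Or.inr (Or.inr (Or.inr (Or.inl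
    ⟨m, t, e, P, hm, ht, rfl⟩)))))))), h⟩

lemma inLinClass_symplecticForm (hn : 3 ≤ n) {H : Subgroup (GL (Fin n) F)}
    {T : Matrix (Fin n) (Fin n) F} (hskew : Tᵀ = -T) (hdiag : ∀ i, T i i = 0) (hT : IsUnit T.det)
    (h : H ≤ Cfsg.Geo.similarityGroup (sesqForm (RingHom.id F) T)) : InLinClass H := by
  have heven : Even n := by simpa using even_card_of_alternating hskew hdiag hT
  refine ⟨_, Or.inr (Or.inr (Or.inr (Or.inr (Or.inr (Or.inr (Or.inr (Or.inr (Or.inr (Or.inl
    ⟨_, isSymplecticForm_sesqForm hskew hdiag hT, heven, ?_, rfl⟩))))))))), h⟩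
  obtain ⟨k, hk⟩ := heven
  omega

lemma inLinClass_hermitianForm (hn : 3 ≤ n) {H : Subgroup (GL (Fin n) F)}
    {T : Matrix (Fin n) (Fin n) F} {τ : F →+* F} (hinv : ∀ a, τ (τ a) = a) {a₀ : F}
    (ha₀ : τ a₀ ≠ a₀) (hT : IsUnit T.det) (hherm : (T.map τ)ᵀ = T)
    (h : H ≤ Cfsg.Geo.similarityGroup (sesqForm τ T)) : InLinClass H := by
  let σ : F ≃+* F := RingEquiv.ofBijective τ
    ⟨τ.injective, Finite.injective_iff_surjective.1 τ.injective⟩
  have hu : Cfsg.Geo.IsUnitaryForm σ (sesqForm τ T) :=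
    { ne_refl := fun he => ha₀ (congrArg (fun e : F ≃+* F => e a₀) he)
      involutive := hinv
      add_left := fun x y v => by simp [sesqForm, add_dotProduct]
      smul_left := fun c x v => by simp [sesqForm, smul_dotProduct]
      herm := fun v w => by
        show sesqForm τ T v w = τ (sesqForm τ T w v)
        simp only [sesqForm]
        rw [RingHom.map_dotProduct, map_mulVec_comp]
        rw [show τ ∘ (τ ∘ v) = v from funext fun i => hinv (v i)]
        rw [Matrix.dotProduct_mulVec (τ ∘ w), ← Matrix.mulVec_transpose, hherm,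
          dotProduct_comm]
      nondegenerate := isNondegenerateForm_sesqForm τ hT }
  exact ⟨_, Or.inr (Or.inr (Or.inr (Or.inr (Or.inr (Or.inr (Or.inr (Or.inr (Or.inr (Or.inr (Or.inl
    ⟨σ, _, hu, hn, rfl⟩)))))))))), h⟩

lemma inLinClass_symmetricForm (hn : 3 ≤ n) (h2 : (2 : F) ≠ 0) {H : Subgroup (GL (Fin n) F)}
    {T : Matrix (Fin n) (Fin n) F} (hsymm : Tᵀ = T) (hT : IsUnit T.det)
    (h : H ≤ Cfsg.Geo.similarityGroup (sesqForm (RingHom.id F) T)) : InLinClass H := by
  obtain ⟨hQ, hle⟩ := exists_quadratic_of_symm h2 hsymm hT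
  have hodd : Odd (Fintype.card F) := by
    rw [Nat.odd_iff]
    refine FiniteField.odd_card_of_char_ne_two fun hc => h2 ?_
    haveI : CharP F 2 := hc ▸ ringChar.charP F
    exact CharP.cast_eq_zero F 2
  exact ⟨_, Or.inr (Or.inr (Or.inr (Or.inr (Or.inr (Or.inr (Or.inr (Or.inr (Or.inr (Or.inr (Or.inr
    ⟨_, hQ, hodd, hn, rfl⟩)))))))))), fun g hg => hle g (h hg)⟩

/-- If an absolutely irreducible group normalised by `H` can be written over a proper subfield,
`H` lies in a subfield group. -/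
lemma inLinClass_of_realisable [NeZero n] {H P : Subgroup (GL (Fin n) F)}
    (habs : Cfsg.Geo.ActsAbsolutelyIrreducibly (Cfsg.Geo.matrixSet P))
    (hnorm : ∀ g ∈ H, ∀ x ∈ P, g * x * g⁻¹ ∈ P) {F₀ : Subfield F} (hne : F₀ ≠ ⊤)
    (hreal : Cfsg.Geo.RealisableOver F₀ (Cfsg.Geo.matrixSet P)) : InLinClass H := by
  obtain ⟨F₁, r, hle, hr, hcard, -⟩ := exists_prime_index_subfield F₀ hne
  obtain ⟨B, hB⟩ := map_mem_of_le hle hreal
  exact inLinClass_subfield hr hcard B⁻¹ fun g hg =>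
    mem_subfieldSubgroup_of_normalizes habs F₁ B
      (fun s hs i j => hB _ (mem_matrixSet hs) i j) (hnorm g hg)

lemma charP_two_ne_of_two_ne_zero {p : ℕ} [CharP F p] (h2 : (2 : F) ≠ 0) : p ≠ 2 := by
  rintro rfl
  exact h2 (CharP.cast_eq_zero F 2)

/-- A subgroup of symplectic type normalised by `H` puts `H` in one of the classes. -/
theorem inLinClass_of_symplecticData (hn : 3 ≤ n) {H R : Subgroup (GL (Fin n) F)} {r : ℕ}
    (hd : SymplecticData H R r) : InLinClass H := by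
  classical
  haveI : NeZero n := ⟨by omega⟩
  have habs := absIrred_of_adjoin_eq_top hd.adjoin_top
  have hsim : ∀ (τ : F →+* F) (T : Matrix (Fin n) (Fin n) F), IsUnit T.det → Fixes τ R T →
      H ≤ Cfsg.Geo.similarityGroup (sesqForm τ T) := fun τ T hT h g hg =>
    mem_similarityGroup_of_normalizes τ habs hT h (hd.normalized g hg)
  set E := r * Nat.gcd 2 r with hE
  set zc := Nat.card (Subgroup.center R) with hzc
  have hEz : ∀ c : Fˣ, c ^ E = 1 → c ^ zc = 1 := by
    intro c hc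
    have : zc = (Nat.card Fˣ).gcd E := hd.card_center
    rw [this]
    exact pow_gcd_eq_one.2 ⟨pow_card_eq_one', hc⟩
  rcases hd.card_center_cases with ⟨hodd, hz⟩ | ⟨h2, hz | hz⟩
  rotate_left
  · -- centre of order two: an invariant bilinear form
    obtain ⟨T, hT, hfix⟩ := exists_fixed_form (RingHom.id F) hd (fun c hc => by
      have h1 : c ^ 2 = 1 := by
        have h1 := hEz c hc
        rwa [show zc = 2 from hz] at h1
      rw [RingHom.id_apply, ← Units.val_mul, ← pow_two, h1, Units.val_one])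
    have htwo := hd.two_ne h2
    rcases transpose_eq_or_neg_of_fixes habs hT hfix with h | h
    · exact inLinClass_symmetricForm hn htwo h hT (hsim _ T hT hfix)
    · refine inLinClass_symplecticForm hn h (fun i => ?_) hT (hsim _ T hT hfix)
      have h1 := congrFun (congrFun h i) i
      rw [Matrix.transpose_apply, Matrix.neg_apply, eq_neg_iff_add_eq_zero, ← two_mul] at h1
      exact (mul_eq_zero.1 h1).resolve_left htwo
  all_goals
    by_cases hF1 : ∃ F₁ : Subfield F, F₁ ≠ ⊤ ∧ ∀ c : Fˣ, c ^ E = 1 → (c : F) ∈ F₁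
  case pos | pos =>
    all_goals
      obtain ⟨F₁, hne, hF₁⟩ := hF1
      refine inLinClass_of_realisable habs hd.normalized hne
        (realisableOver_of_trace F₁ R habs.1 hd.adjoin_top hd.card_ne fun x hx => ?_)
      rcases hd.scalar_or_trace x hx with ⟨c, hc, rfl⟩ | h
      · exact Or.inl ⟨c, hF₁ c hc, scalarUnit_coe c⟩
      · exact Or.inr h
  all_goals
    obtain ⟨p, ⟨e, he⟩, hp, hcard⟩ : ∃ p, ∃ _ : ∃ e : ℕ+, Fintype.card F = p ^ (e : ℕ),
        p.Prime ∧ CharP F p := by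
      obtain ⟨e, hp, he⟩ := FiniteField.card F (ringChar F)
      exact ⟨_, ⟨e, he⟩, hp, ringChar.charP F⟩
    haveI := hcard
    haveI : ExpChar F p := ExpChar.prime hp
    have hrp : r ≠ p := by
      rintro rfl
      exact hd.ne_char (CharP.cast_eq_zero F r)
    have hzdvd : zc ∣ p ^ (e : ℕ) - 1 := by
      have : zc = (Nat.card Fˣ).gcd E := hd.card_center
      rw [this, ← he, Nat.card_units, Nat.card_eq_fintype_card]
      exact Nat.gcd_dvd_left _ _
    have hminimal : ∀ d : ℕ, 0 < d → d < (e : ℕ) → ¬ zc ∣ p ^ d - 1 := by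
      intro d hd0 hde hdvd
      refine hF1 ⟨(iterateFrobenius F p d).eqLocusField (RingHom.id F), ?_, fun c hc => ?_⟩
      · intro htop
        obtain ⟨g, hg⟩ := IsCyclic.exists_generator (α := Fˣ)
        have h1 : g ^ (p ^ d - 1) = 1 := by
          have h2 : (g : F) ∈ (iterateFrobenius F p d).eqLocusField (RingHom.id F) :=
            htop ▸ trivial
          have h3 : (g : F) ^ p ^ d = g := h2
          apply Units.ext
          have h4 : (g : F) ^ (p ^ d - 1) * g = 1 * g := by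
            rw [← pow_succ, Nat.sub_add_cancel (Nat.one_le_pow _ _ hp.pos), h3, one_mul]
          simpa using mul_right_cancel₀ g.ne_zero h4
        have h5 := orderOf_dvd_of_pow_eq_one h1
        rw [orderOf_eq_card_of_forall_mem_zpowers hg, Nat.card_units, Nat.card_eq_fintype_card,
          he] at h5
        have h6 : p ^ d < p ^ (e : ℕ) := Nat.pow_lt_pow_right hp.one_lt hde
        have h7 : 2 ≤ p ^ d := le_trans hp.two_le (Nat.le_self_pow hd0.ne' p)
        have := Nat.le_of_dvd (by omega) h5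
        omega
      · obtain ⟨j, hj⟩ := hdvd
        show (c : F) ^ p ^ d = c
        have h1 : c ^ (p ^ d - 1) = 1 := by rw [hj, pow_mul, hEz c hc, one_pow]
        have h2 : c ^ p ^ d = c := by
          rw [← Nat.sub_add_cancel (Nat.one_le_pow d p hp.pos), pow_succ, h1, one_mul]
        rw [← Units.val_pow_eq_pow_val, h2]
    have hnormR : H ≤ Cfsg.Geo.subgroupNormalizer R := by
      intro g hg
      rw [Cfsg.Geo.subgroupNormalizer, Subgroup.mem_normalizer_iff]
      intro x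
      refine ⟨fun hx => hd.normalized g hg x hx, fun hx => ?_⟩
      have := hd.normalized g⁻¹ (inv_mem hg) _ hx
      simpa [mul_assoc] using this
    -- the unitary case
    have hunit : ∀ k : ℕ, 0 < k → (e : ℕ) = 2 * k → zc ∣ p ^ k + 1 → InLinClass H := by
      intro k hk hek hzk
      set τ : F →+* F := iterateFrobenius F p k with hτdef
      have hτ : ∀ a : F, τ a = a ^ p ^ k := fun a => rfl
      have hinv : ∀ a : F, τ (τ a) = a := by
        intro a
        rw [hτ, hτ, ← pow_mul, ← pow_add, ← two_mul, ← hek, ← he, FiniteField.pow_card]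
      have hcent : ∀ c : Fˣ, c ^ E = 1 → τ c * c = 1 := by
        intro c hc
        obtain ⟨j, hj⟩ := hzk
        rw [hτ, ← pow_succ, hj, pow_mul, ← Units.val_pow_eq_pow_val, hEz c hc, Units.val_one, one_pow]
      obtain ⟨T, hT, hfix⟩ := exists_fixed_form τ hd hcent
      obtain ⟨a₀, ha₀⟩ : ∃ a₀, τ a₀ ≠ a₀ := by
        by_contra hall
        push Not at hall
        refine hF1 ⟨τ.eqLocusField (RingHom.id F), ?_, fun c _ => hall c⟩
        intro _
        obtain ⟨g, hg⟩ := IsCyclic.exists_generator (α := Fˣ)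
        have h1 : g ^ (p ^ k - 1) = 1 := by
          apply Units.ext
          have h3 : (g : F) ^ p ^ k = g := hall g
          have h4 : (g : F) ^ (p ^ k - 1) * g = 1 * g := by
            rw [← pow_succ, Nat.sub_add_cancel (Nat.one_le_pow _ _ hp.pos), h3, one_mul]
          simpa using mul_right_cancel₀ g.ne_zero h4
        have h5 := orderOf_dvd_of_pow_eq_one h1
        rw [orderOf_eq_card_of_forall_mem_zpowers hg, Nat.card_units, Nat.card_eq_fintype_card,
          he] at h5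
        have h6 : p ^ k < p ^ (e : ℕ) := Nat.pow_lt_pow_right hp.one_lt (by omega)
        have h7 : 2 ≤ p ^ k := le_trans hp.two_le (Nat.le_self_pow hk.ne' p)
        have := Nat.le_of_dvd (by omega) h5
        omega
      obtain ⟨T', hT', hfix', hherm⟩ := exists_hermitian_of_fixes hinv ha₀ habs hT hfix
      exact inLinClass_hermitianForm hn hinv ha₀ hT' hherm (hsim _ T' hT' hfix')
    obtain ⟨m, hm, hnm, hcardR⟩ := hd.exists_m
    have hnk : ∃ k : ℕ, n = r ^ k := ⟨m, by simpa using hnm⟩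
  · -- centre of order four
    have hp2 : p ≠ 2 := charP_two_ne_of_two_ne_zero (F := F) (hd.two_ne h2)
    have hpo : p % 2 = 1 := Nat.odd_iff.1 (hp.odd_of_ne_two hp2)
    have hzc4 : zc = 4 := hz
    rcases Nat.even_or_odd (e : ℕ) with ⟨k, hk⟩ | ⟨k, hk⟩
    · have hk0 : 0 < k := by have := e.pos; omega
      refine hunit k hk0 (by omega) ?_
      have hnd := hminimal k hk0 (by omega)
      rw [hzc4] at hnd ⊢
      have hodd' : p ^ k % 2 = 1 := by rw [Nat.pow_mod, hpo, one_pow, Nat.one_mod]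
      omega
    · have hp4 : p % 4 = 1 := by
        have h4 : 4 ∣ p ^ (e : ℕ) - 1 := hzc4 ▸ hzdvd
        have hpp : p * p % 4 = 1 := by
          have := Nat.mul_mod p p 4
          rcases (by omega : p % 4 = 1 ∨ p % 4 = 3) with h | h <;> rw [h] at this <;> omega
        have h5 : p ^ (e : ℕ) % 4 = p % 4 := by
          rw [hk, pow_succ, pow_mul, Nat.mul_mod, Nat.pow_mod, pow_two, hpp, one_pow]
          simp [Nat.mod_mod]
        have : 1 ≤ p ^ (e : ℕ) := Nat.one_le_pow _ _ hp.pos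
        omega
      have he1 : (e : ℕ) = 1 := by
        by_contra hne
        have := e.pos
        refine hminimal 1 one_pos (by omega) ?_
        rw [pow_one, hzc4]
        omega
      refine inLinClass_symplecticType (r := r) (R := R) ⟨hd.symplecticType, habs,
        p, e, hrp, ⟨hp, hcard, he, hzdvd, hminimal⟩, Or.inr (Or.inl ⟨h2, he1, hz, ?_, m, ?_⟩)⟩ hnk hnormR
      · rw [h2, Fintype.card_fin] at hnm
        rw [Fintype.card_fin]
        rcases Nat.lt_or_ge m 2 with h | h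
        · interval_cases m
          omega
        · have := Nat.pow_le_pow_right (show 0 < 2 by norm_num) h
          omega
      · rw [hcardR, hz, h2, pow_add]
        norm_num
  · -- r odd
    rcases Nat.even_or_odd (e : ℕ) with ⟨k, hk⟩ | heo
    · have hk0 : 0 < k := by have := e.pos; omega
      refine hunit k hk0 (by omega) ?_
      have hnd := hminimal k hk0 (by omega)
      have hzr : zc = r := hz
      rw [hzr] at hnd ⊢
      have h1 : r ∣ (p ^ k + 1) * (p ^ k - 1) := by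
        rw [← Nat.sq_sub_sq, one_pow, ← pow_mul, show k * 2 = (e : ℕ) by omega]
        exact hzr ▸ hzdvd
      exact (hd.prime.dvd_mul.1 h1).resolve_right hnd
    · refine inLinClass_symplecticType (r := r) (R := R) ⟨hd.symplecticType, habs,
        p, e, hrp, ⟨hp, hcard, he, hzdvd, hminimal⟩, Or.inl ⟨hodd, heo, hz, m, hm, ?_⟩⟩ hnk hnormR
      rw [hcardR, hz, pow_add, pow_one]

end Cfsg.Agent.Aschbacher
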