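/-
A full matrix subalgebra of a matrix algebra is the left factor of a tensor decomposition, and what
normalises it lies in the tensor-product group.
-/
import Mathlib
import Cfsg.Agent.Aschbacher.Tensor

set_option autoImplicit false
set_option linter.style.haveILetI false

namespace Cfsg.Agent.Aschbacher

open Matrix
open scoped Kronecker

variable {ι : Type} [Fintype ι] [DecidableEq ι] {F : Type*} [Field F]

/-- A unital full matrix subalgebra is a Kronecker factor in a suitable basis. -/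
theorem exists_kronecker_basis [Nonempty ι] {a : ℕ}
    (Θ : Matrix (Fin a) (Fin a) F →ₐ[F] Matrix ι ι F) :
    ∃ (k : ℕ) (e : ι ≃ Fin a × Fin k) (P : GL ι F),
      ∀ x, Θ x = conjMat P ((x ⊗ₖ (1 : Matrix (Fin k) (Fin k) F)).submatrix e e) := by
  classical
  have ha : 0 < a := by
    rcases Nat.eq_zero_or_pos a with rfl | h
    · exfalso
      have h1 : Θ 1 = Θ 0 := congrArg Θ (Subsingleton.elim _ _)
      rw [map_one, map_zero] at h1
      exact one_ne_zero h1
    · exact h
  let o : Fin a := ⟨0, ha⟩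
  let E : Fin a → Fin a → Matrix ι ι F := fun b c => Θ (Matrix.single b c 1)
  have hE : ∀ b c d, E b c * E c d = E b d := by
    intro b c d
    simp only [E, ← map_mul, Matrix.single_mul_single_same, mul_one]
  have hE0 : ∀ b c c' d, c ≠ c' → E b c * E c' d = 0 := by
    intro b c c' d h
    simp only [E, ← map_mul]
    rw [Matrix.single_mul_single_of_ne _ _ _ _ h, map_zero]
  have hsum : ∑ b, E b b = 1 := by
    rw [← map_sum, show (∑ b, Matrix.single b b (1 : F)) = 1 from ?_, map_one]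
    ext p q
    rw [Matrix.sum_apply, Finset.sum_eq_single p (fun b _ hb => by simp [Matrix.single_apply, hb])
      (fun h => absurd (Finset.mem_univ p) h)]
    simp [Matrix.single_apply, Matrix.one_apply]
  let U : Submodule F (ι → F) := LinearMap.range (Matrix.toLin' (E o o))
  have hU : ∀ u : U, E o o *ᵥ (u : ι → F) = (u : ι → F) := by
    rintro ⟨_, v, rfl⟩
    simp [Matrix.mulVec_mulVec, hE]
  let T : (ι → F) ≃ₗ[F] (Fin a → U) :=
    { toFun := fun v b => ⟨E o b *ᵥ v, ⟨E o b *ᵥ v, by simp [Matrix.mulVec_mulVec, hE]⟩⟩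
      invFun := fun f => ∑ b, E b o *ᵥ (f b : ι → F)
      map_add' := fun v w => by funext b; exact Subtype.ext (Matrix.mulVec_add _ v w)
      map_smul' := fun c v => by funext b; exact Subtype.ext (Matrix.mulVec_smul _ c v)
      left_inv := fun v => by
        simp only [Matrix.mulVec_mulVec, hE]
        rw [← Matrix.sum_mulVec, hsum, Matrix.one_mulVec]
      right_inv := fun f => by
        funext b
        apply Subtype.ext
        simp only [Matrix.mulVec_sum, Matrix.mulVec_mulVec]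
        rw [Finset.sum_eq_single b (fun c _ hc => by rw [hE0 _ _ _ _ (Ne.symm hc), Matrix.zero_mulVec])
          (fun h => absurd (Finset.mem_univ b) h), hE, hU] }
  let k := Module.finrank F U
  let B : U ≃ₗ[F] (Fin k → F) := (Module.finBasis F U).equivFun
  let T' : (ι → F) ≃ₗ[F] (Fin a × Fin k → F) :=
    T.trans ((LinearEquiv.piCongrRight fun _ => B).trans (LinearEquiv.curry F F (Fin a) (Fin k)).symm)
  have hcard : Fintype.card ι = Fintype.card (Fin a × Fin k) := by
    have := T'.finrank_eq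
    rwa [Module.finrank_fintype_fun_eq_card, Module.finrank_fintype_fun_eq_card] at this
  let e : ι ≃ Fin a × Fin k := Fintype.equivOfCardEq hcard
  let S : (ι → F) ≃ₗ[F] (ι → F) := T'.trans (LinearEquiv.funCongrLeft F F e)
  let P : GL ι F :=
    ⟨LinearMap.toMatrix' S.symm.toLinearMap, LinearMap.toMatrix' S.toLinearMap,
      by rw [← LinearMap.toMatrix'_comp]; simp,
      by rw [← LinearMap.toMatrix'_comp]; simp⟩
  refine ⟨k, e, P, fun x => ?_⟩
  rw [eq_comm, conjMat_eq_iff_mul]
  apply Matrix.ext_of_mulVec_single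
  intro i
  obtain ⟨v, hv⟩ := S.surjective (Pi.single i 1)
  rw [← hv]
  have key : ∀ w, S (Θ x *ᵥ w) = (x ⊗ₖ (1 : Matrix (Fin k) (Fin k) F)).submatrix e e *ᵥ S w := by
    intro w
    funext i
    have hcoord : ∀ y, S y i = B (T y (e i).1) (e i).2 := fun y => rfl
    rw [hcoord, Matrix.submatrix_mulVec_equiv, Function.comp_apply]
    have hw : (fun j => S w (e.symm j)) = fun j : Fin a × Fin k => B (T w j.1) j.2 := by
      funext j
      show B (T w (e (e.symm j)).1) (e (e.symm j)).2 = _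
      rw [Equiv.apply_symm_apply]
    rw [show (S w ∘ e.symm) = fun j => S w (e.symm j) from rfl, hw]
    have hT : T (Θ x *ᵥ w) (e i).1 = ∑ c, x (e i).1 c • T w c := by
      apply Subtype.ext
      show E o (e i).1 *ᵥ (Θ x *ᵥ w) = _
      rw [Submodule.coe_sum]
      simp only [SetLike.val_smul]
      show _ = ∑ c, x (e i).1 c • (E o c *ᵥ w)
      rw [Matrix.mulVec_mulVec, ← map_mul]
      simp_rw [← Matrix.smul_mulVec, E, ← map_smul]
      rw [← Matrix.sum_mulVec, ← map_sum]
      congr 2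
      ext p q
      rw [Matrix.sum_apply]
      by_cases hp : o = p
      · subst hp
        simp [Matrix.single_apply]
      · simp [Matrix.single_apply, hp, Matrix.mul_apply]
    rw [hT, map_sum, Finset.sum_apply, Matrix.mulVec, dotProduct, Fintype.sum_prod_type]
    refine Finset.sum_congr rfl fun c _ => ?_
    simp [Matrix.kronecker_apply, Matrix.one_apply]
  have hP : ∀ w, (P : Matrix ι ι F) *ᵥ w = S.symm w := fun w => LinearMap.toMatrix'_mulVec _ _
  rw [← Matrix.mulVec_mulVec, ← Matrix.mulVec_mulVec, hP, hP, S.symm_apply_apply, ← key,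
    S.symm_apply_apply]

/-- What normalises the left tensor factor lies in the tensor-product group. -/
theorem mem_tensorProduct [Nonempty ι] {a k : ℕ} (Θ : Matrix (Fin a) (Fin a) F →ₐ[F] Matrix ι ι F)
    (e : ι ≃ Fin a × Fin k) (P : GL ι F)
    (hΘ : ∀ x, Θ x = conjMat P ((x ⊗ₖ (1 : Matrix (Fin k) (Fin k) F)).submatrix e e))
    (g : GL ι F) (hg : ∀ x, ∃ y, conjMat g (Θ x) = Θ y) :
    g ∈ Cfsg.Geo.tensorProductSubgroup a k e P := by
  classical
  refine Subgroup.mem_map.2 ⟨Cfsg.Geo.glReindex e.symm (glCoord e P g),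
    Subgroup.mem_map.2 ⟨glCoord e P g, ?_, rfl⟩, conj_glReindex_glCoord e P g⟩
  set g0 := glCoord e P g with hg0
  obtain ⟨⟨o, o'⟩⟩ : Nonempty (Fin a × Fin k) := ⟨e (Classical.arbitrary ι)⟩
  choose ψ hψ using hg
  have hinj := algHom_matrix_injective Θ
  let f : Matrix (Fin a) (Fin a) F →ₐ[F] Matrix (Fin a) (Fin a) F :=
    AlgHom.ofLinearMap
      { toFun := ψ
        map_add' := fun x y => hinj (by rw [← hψ, map_add, map_add, map_add, hψ, hψ])
        map_smul' := fun c x =>
          hinj (by rw [← hψ, RingHom.id_apply, map_smul, map_smul, map_smul, hψ]) }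
      (hinj (by show Θ (ψ 1) = Θ 1; rw [← hψ, map_one, map_one]))
      (fun x y => hinj (by
        show Θ (ψ (x * y)) = Θ (ψ x * ψ y)
        rw [← hψ, map_mul, map_mul, map_mul, hψ, hψ]))
  have hfinj : Function.Injective f := by
    intro x y h
    apply hinj
    apply (conjMat g).injective
    rw [hψ, hψ]
    exact congrArg _ h
  obtain ⟨α, hα⟩ := exists_conjMat_eq (AlgEquiv.ofBijective f
    ⟨hfinj, (LinearMap.injective_iff_surjective (f := f.toLinearMap)).1 hfinj⟩)
  -- a centraliser of the left factor is a right factor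
  have hright : ∀ w : Matrix (Fin a × Fin k) (Fin a × Fin k) F,
      (∀ x : Matrix (Fin a) (Fin a) F, w * (x ⊗ₖ 1) = (x ⊗ₖ 1) * w) →
      ∃ b : Matrix (Fin k) (Fin k) F, w = 1 ⊗ₖ b := by
    intro w hw
    refine ⟨Matrix.of fun j j' => w (o, j) (o, j'), ?_⟩
    ext ⟨p, j⟩ ⟨q, j'⟩
    have h1 := congrFun (congrFun (hw (Matrix.single q o 1)) (p, j)) (o, j')
    simp only [Matrix.mul_apply, Fintype.sum_prod_type, Matrix.kronecker_apply, Matrix.single_apply,
      Matrix.one_apply] at h1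
    simp [Finset.sum_ite_eq, Finset.sum_ite_eq', Matrix.one_apply, ite_and] at h1
    simp only [Matrix.kronecker_apply, Matrix.one_apply, Matrix.of_apply, ite_mul, one_mul, zero_mul]
    rw [h1]
    simp only [eq_comm]
  let u : GL (Fin a × Fin k) F :=
    ⟨(α : Matrix (Fin a) (Fin a) F) ⊗ₖ 1, ((α⁻¹ : GL (Fin a) F) : Matrix (Fin a) (Fin a) F) ⊗ₖ 1,
      by rw [← Matrix.mul_kronecker_mul, Units.mul_inv, one_mul, Matrix.one_kronecker_one],
      by rw [← Matrix.mul_kronecker_mul, Units.inv_mul, one_mul, Matrix.one_kronecker_one]⟩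
  have hg0x : ∀ x, conjMat g0 (x ⊗ₖ 1) = conjMat u (x ⊗ₖ (1 : Matrix (Fin k) (Fin k) F)) := by
    intro x
    have h1 := hψ x
    rw [hΘ, hΘ, ← conjMat_glCoord] at h1
    have h2 := congrArg (fun M : Matrix ι ι F => M.submatrix e.symm e.symm) ((conjMat P).injective h1)
    simp only [Matrix.submatrix_submatrix, Equiv.self_comp_symm, Matrix.submatrix_id_id] at h2
    rw [h2, show ψ x = conjMat α x from hα x]
    simp only [conjMat_apply, u, Units.inv_mk]
    rw [← Matrix.mul_kronecker_mul, ← Matrix.mul_kronecker_mul]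
    simp
  have hcomm : ∀ x, ((u⁻¹ * g0 : GL _ F) : Matrix (Fin a × Fin k) (Fin a × Fin k) F) * (x ⊗ₖ 1) =
      (x ⊗ₖ 1) * ((u⁻¹ * g0 : GL _ F) : Matrix (Fin a × Fin k) (Fin a × Fin k) F) := by
    intro x
    rw [← conjMat_eq_self_iff, conjMat_mul, hg0x, conjMat_inv_apply]
  have hcomm' : ∀ x, (((u⁻¹ * g0)⁻¹ : GL _ F) : Matrix (Fin a × Fin k) (Fin a × Fin k) F) * (x ⊗ₖ 1) =
      (x ⊗ₖ 1) * (((u⁻¹ * g0)⁻¹ : GL _ F) : Matrix (Fin a × Fin k) (Fin a × Fin k) F) := by
    intro x
    rw [← conjMat_eq_self_iff]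
    conv_lhs => rw [← (conjMat_eq_self_iff _ _).2 (hcomm x)]
    rw [conjMat_inv_apply]
  obtain ⟨b, hb⟩ := hright _ hcomm
  obtain ⟨b', hb'⟩ := hright _ hcomm'
  have hmk : ∀ c d : Matrix (Fin k) (Fin k) F,
      ((1 : Matrix (Fin a) (Fin a) F) ⊗ₖ c) * ((1 : Matrix (Fin a) (Fin a) F) ⊗ₖ d) = 1 → c * d = 1 := by
    intro c d h
    rw [← Matrix.mul_kronecker_mul, one_mul] at h
    ext j j'
    have := congrFun (congrFun h (o, j)) (o, j')
    simpa [Matrix.one_apply] using this
  let β : GL (Fin k) F :=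
    ⟨b, b', hmk b b' (by rw [← hb, ← hb']; exact Units.mul_inv _),
      hmk b' b (by rw [← hb, ← hb']; exact Units.inv_mul _)⟩
  refine ⟨α, β, ?_⟩
  have h : g0 = u * (u⁻¹ * g0) := by group
  rw [h, Units.val_mul, hb]
  show ((α : Matrix (Fin a) (Fin a) F) ⊗ₖ (1 : Matrix (Fin k) (Fin k) F)) * (1 ⊗ₖ b) = _
  rw [← Matrix.mul_kronecker_mul, mul_one, one_mul]

/-- Interchanging the two factors of a tensor decomposition. -/
theorem tensorProduct_swap {a k : ℕ} (e : ι ≃ Fin a × Fin k) (P : GL ι F) :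
    Cfsg.Geo.tensorProductSubgroup a k e P ≤
      Cfsg.Geo.tensorProductSubgroup k a (e.trans (Equiv.prodComm _ _)) P := by
  rintro g hg
  obtain ⟨g1, hg1, rfl⟩ := Subgroup.mem_map.1 hg
  obtain ⟨g2, ⟨x, y, hxy⟩, rfl⟩ := Subgroup.mem_map.1 hg1
  refine Subgroup.mem_map_of_mem _ (Subgroup.mem_map.2
    ⟨Cfsg.Geo.glReindex (Equiv.prodComm _ _) g2, ⟨y, x, ?_⟩, ?_⟩)
  · rw [coe_glReindex, hxy]
    ext ⟨p, q⟩ ⟨p', q'⟩
    simp [Matrix.kronecker_apply, mul_comm]
  · apply Units.ext
    simp only [MulEquiv.coe_toMonoidHom, coe_glReindex, Matrix.submatrix_submatrix]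
    rfl

/-- A tensor product of two equal factors is a tensor-wreath member. -/
theorem tensorProduct_le_wreath {a : ℕ} (e : ι ≃ Fin a × Fin a) (P : GL ι F) :
    Cfsg.Geo.tensorProductSubgroup a a e P ≤
      Cfsg.Geo.tensorWreathSubgroup a 2 (e.trans (finTwoArrowEquiv (Fin a)).symm) P := by
  rintro g hg
  obtain ⟨g1, hg1, rfl⟩ := Subgroup.mem_map.1 hg
  obtain ⟨g2, ⟨x, y, hxy⟩, rfl⟩ := Subgroup.mem_map.1 hg1
  refine Subgroup.mem_map_of_mem _ (Subgroup.mem_map.2
    ⟨Cfsg.Geo.glReindex (finTwoArrowEquiv (Fin a)).symm g2,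
      Subgroup.subset_closure (Or.inl ⟨![x, y], fun p q => ?_⟩), ?_⟩)
  · rw [coe_glReindex, hxy]
    simp [Fin.prod_univ_two]
  · apply Units.ext
    simp only [MulEquiv.coe_toMonoidHom, coe_glReindex, Matrix.submatrix_submatrix]
    ext p q
    simp

end Cfsg.Agent.Aschbacher
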