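/-
Tensor powers of two-dimensional spaces preserve a form up to a scalar.
-/
import Mathlib
import Cfsg.Agent.Aschbacher.LinearClass
import Cfsg.Agent.Aschbacher.TensorTwo

set_option autoImplicit false
set_option linter.style.haveILetI false

namespace Cfsg.Agent.Aschbacher

open Matrix

variable {F : Type*} [Field F]

lemma pureTensor_smul {m t : ℕ} (c : Fin t → F) (x : Fin t → Matrix (Fin m) (Fin m) F) :
    pureTensor (fun i => c i • x i) = (∏ i, c i) • pureTensor x := by
  ext f g
  simp [pureTensor_apply, Finset.prod_mul_distrib]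

lemma pureTensor_transpose {m t : ℕ} (x : Fin t → Matrix (Fin m) (Fin m) F) :
    (pureTensor x)ᵀ = pureTensor (fun i => (x i)ᵀ) := by
  ext f g
  simp [pureTensor_apply]

/-- The alternating form in dimension two. -/
def altTwo (F : Type*) [Field F] : Matrix (Fin 2) (Fin 2) F := !![0, 1; -1, 0]

lemma altTwo_congr (a : Matrix (Fin 2) (Fin 2) F) : aᵀ * altTwo F * a = a.det • altTwo F := by
  ext i j
  fin_cases i <;> fin_cases j <;>
    simp [altTwo, Matrix.mul_apply, Fin.sum_univ_two, Matrix.det_fin_two] <;> ring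

lemma altTwo_transpose : (altTwo F)ᵀ = (-1 : F) • altTwo F := by
  ext i j
  fin_cases i <;> fin_cases j <;> simp [altTwo]

lemma altTwo_sq : altTwo F * altTwo F = (-1 : F) • 1 := by
  ext i j
  fin_cases i <;> fin_cases j <;> simp [altTwo, Matrix.mul_apply, Fin.sum_univ_two]

/-- The congruence condition is closed under products. -/
lemma congr_mul {ι : Type*} [Fintype ι] [DecidableEq ι] (G x y : Matrix ι ι F) (c d : F)
    (hc : xᵀ * G * x = c • G) (hd : yᵀ * G * y = d • G) :
    (x * y)ᵀ * G * (x * y) = (c * d) • G := by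
  calc (x * y)ᵀ * G * (x * y) = yᵀ * (xᵀ * G * x) * y := by
        rw [Matrix.transpose_mul]; simp only [mul_assoc]
    _ = _ := by rw [hc, Matrix.mul_smul, Matrix.smul_mul, hd, smul_smul]

/-- The congruence condition is closed under inverses. -/
lemma congr_inv {ι : Type*} [Fintype ι] [DecidableEq ι] (G x x' : Matrix ι ι F) (c : F) (hc0 : c ≠ 0)
    (hxx : x * x' = 1) (hc : xᵀ * G * x = c • G) : x'ᵀ * G * x' = c⁻¹ • G := by
  have h : x'ᵀ * (xᵀ * G * x) * x' = x'ᵀ * (c • G) * x' := by rw [hc]
  rw [Matrix.mul_smul, Matrix.smul_mul] at h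
  have h2 : x'ᵀ * (xᵀ * G * x) * x' = (x * x')ᵀ * G * (x * x') := by
    rw [Matrix.transpose_mul]; simp only [mul_assoc]
  rw [h2, hxx, Matrix.transpose_one, one_mul, mul_one] at h
  conv_rhs => rw [h]
  rw [smul_smul, inv_mul_cancel₀ hc0, one_smul]

/-- A member of the standard tensor-wreath group of two-dimensional spaces preserves the tensor power
of the alternating form up to a scalar. -/
theorem tensorWreathStandard_two {t : ℕ} {g : GL (Fin t → Fin 2) F}
    (hg : g ∈ Cfsg.Geo.tensorWreathStandard 2 t F) :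
    ∃ c : Fˣ, (g : Matrix (Fin t → Fin 2) (Fin t → Fin 2) F)ᵀ *
      pureTensor (fun _ => altTwo F) * (g : Matrix (Fin t → Fin 2) (Fin t → Fin 2) F) =
      (c : F) • pureTensor (fun _ : Fin t => altTwo F) := by
  classical
  unfold Cfsg.Geo.tensorWreathStandard at hg
  induction hg using Subgroup.closure_induction with
  | mem x hx =>
    rcases hx with ⟨gs, hgs⟩ | ⟨σ, hσ⟩
    · have hx' : (x : Matrix (Fin t → Fin 2) (Fin t → Fin 2) F) =
          pureTensor fun i => (gs i : Matrix (Fin 2) (Fin 2) F) :=
        Matrix.ext hgs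
      refine ⟨∏ i, Matrix.GeneralLinearGroup.det (gs i), ?_⟩
      rw [hx', pureTensor_transpose, ← map_mul, ← map_mul]
      rw [show ((fun i => (gs i : Matrix (Fin 2) (Fin 2) F)ᵀ) * fun _ => altTwo F) *
          (fun i => (gs i : Matrix (Fin 2) (Fin 2) F)) =
          fun i => ((gs i : Matrix (Fin 2) (Fin 2) F)).det • altTwo F from
            funext fun i => altTwo_congr _, pureTensor_smul, Units.coe_prod]
      rfl
    · refine ⟨1, ?_⟩
      rw [Units.val_one, one_smul]
      ext a b
      rw [Matrix.mul_apply, Finset.sum_eq_single (b ∘ σ.symm), Matrix.mul_apply,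
        Finset.sum_eq_single (a ∘ σ.symm)]
      · simp only [Matrix.transpose_apply, hσ, Function.comp_assoc, Equiv.symm_comp_self,
          Function.comp_id, if_true, one_mul, mul_one, pureTensor_apply, Function.comp_apply]
        exact Equiv.prod_comp σ.symm (fun i => altTwo F (a i) (b i))
      · intro c _ hc
        rw [Matrix.transpose_apply, hσ, if_neg, zero_mul]
        intro h
        exact hc (by rw [h, Function.comp_assoc, Equiv.self_comp_symm, Function.comp_id])
      · simp
      · intro c _ hc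
        rw [hσ, if_neg, mul_zero]
        intro h
        exact hc (by rw [h, Function.comp_assoc, Equiv.self_comp_symm, Function.comp_id])
      · simp
  | one =>
    refine ⟨1, ?_⟩
    rw [Units.val_one, Units.val_one, one_smul, Matrix.transpose_one, one_mul, mul_one]
  | mul x y _ _ hx hy =>
    obtain ⟨c, hc⟩ := hx
    obtain ⟨d, hd⟩ := hy
    refine ⟨c * d, ?_⟩
    rw [Units.val_mul, Units.val_mul]
    exact congr_mul _ _ _ _ _ hc hd
  | inv x _ hx =>
    obtain ⟨c, hc⟩ := hx
    refine ⟨c⁻¹, ?_⟩
    rw [Units.val_inv_eq_inv_val]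
    exact congr_inv _ _ _ _ c.ne_zero (Units.mul_inv x) hc

/-- A subgroup of a tensor-wreath group of two-dimensional spaces lies in one of the classes. -/
theorem inLinClass_wreath_two [Fintype F] {n : ℕ} (hn : 3 ≤ n) {t : ℕ} (e : Fin n ≃ (Fin t → Fin 2))
    (P : GL (Fin n) F) {H : Subgroup (GL (Fin n) F)}
    (h : H ≤ Cfsg.Geo.tensorWreathSubgroup 2 t e P) : InLinClass H := by
  classical
  haveI : NeZero n := ⟨by omega⟩
  set G : Matrix (Fin t → Fin 2) (Fin t → Fin 2) F := pureTensor fun _ => altTwo F with hG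
  set Q : Matrix (Fin n) (Fin n) F := ((P⁻¹ : GL (Fin n) F) : Matrix (Fin n) (Fin n) F) with hQ
  set T : Matrix (Fin n) (Fin n) F := Qᵀ * G.submatrix e e * Q with hT
  have ht : 0 < t := by
    rcases Nat.eq_zero_or_pos t with rfl | h
    · have := Fintype.card_congr e
      simp at this
      omega
    · exact h
  have hGsq : G * G = (-1 : F) ^ t • 1 := by
    rw [hG, ← map_mul, show ((fun _ : Fin t => altTwo F) * fun _ => altTwo F) =
      fun _ => (-1 : F) • (1 : Matrix (Fin 2) (Fin 2) F) from funext fun _ => altTwo_sq, pureTensor_smul]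
    rw [show (pureTensor fun _ : Fin t => (1 : Matrix (Fin 2) (Fin 2) F)) = 1 from map_one pureTensor]
    simp
  have hGt : Gᵀ = (-1 : F) ^ t • G := by
    rw [hG, pureTensor_transpose, show (fun _ : Fin t => (altTwo F)ᵀ) =
      fun _ => (-1 : F) • altTwo F from funext fun _ => altTwo_transpose, pureTensor_smul]
    simp
  have hGdet : IsUnit G.det := by
    have h1 := congrArg Matrix.det hGsq
    rw [Matrix.det_mul, Matrix.det_smul, Matrix.det_one, mul_one] at h1
    exact isUnit_of_mul_isUnit_left
      (h1 ▸ IsUnit.mk0 _ (pow_ne_zero _ (pow_ne_zero _ (neg_ne_zero.2 one_ne_zero))))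
  have hdet : IsUnit T.det := by
    rw [hT, Matrix.det_mul, Matrix.det_mul, Matrix.det_transpose, Matrix.det_submatrix_equiv_self]
    exact ((Matrix.GeneralLinearGroup.det P⁻¹).isUnit.mul hGdet).mul
      (Matrix.GeneralLinearGroup.det P⁻¹).isUnit
  have hsim : H ≤ Cfsg.Geo.similarityGroup (sesqForm (RingHom.id F) T) := by
    intro g hg
    obtain ⟨g1, hg1, rfl⟩ := Subgroup.mem_map.1 (h hg)
    obtain ⟨g2, hg2, rfl⟩ := Subgroup.mem_map.1 hg1
    obtain ⟨c, hc⟩ := tensorWreathStandard_two hg2
    refine ⟨c, fun u v => ?_⟩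
    rw [sesqForm_mulVec, ← sesqForm_smul]
    congr 1
    set M : Matrix (Fin n) (Fin n) F := (g2 : Matrix _ _ F).submatrix e e
    have hcoe : (((MulAut.conj P).toMonoidHom ((Cfsg.Geo.glReindex e.symm).toMonoidHom g2) :
        GL (Fin n) F) : Matrix (Fin n) (Fin n) F) = (P : Matrix (Fin n) (Fin n) F) * M * Q := by
      simp [MulAut.conj_apply, coe_glReindex, M, hQ]
    rw [hcoe, show ((P : Matrix (Fin n) (Fin n) F) * M * Q).map (RingHom.id F) =
      (P : Matrix (Fin n) (Fin n) F) * M * Q from Matrix.map_id _]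
    have hQP : Q * (P : Matrix (Fin n) (Fin n) F) = 1 := Units.inv_mul P
    have hc' : Mᵀ * G.submatrix e e * M = (c : F) • G.submatrix e e := by
      simp only [M]
      rw [Matrix.transpose_submatrix, Matrix.submatrix_mul_equiv, Matrix.submatrix_mul_equiv, hc]
      rfl
    calc ((P : Matrix (Fin n) (Fin n) F) * M * Q)ᵀ * T * ((P : Matrix (Fin n) (Fin n) F) * M * Q)
        = Qᵀ * (Mᵀ * ((Q * (P : Matrix (Fin n) (Fin n) F))ᵀ * G.submatrix e e *
            (Q * (P : Matrix (Fin n) (Fin n) F))) * M) * Q := by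
          rw [hT]; simp only [Matrix.transpose_mul, mul_assoc]
      _ = (c : F) • T := by
          rw [hQP, Matrix.transpose_one, one_mul, mul_one, hc', Matrix.mul_smul, Matrix.smul_mul]
  by_cases hev : Even t ∧ (2 : F) ≠ 0
  · refine inLinClass_symmetricForm hn hev.2 ?_ hdet hsim
    rw [hT, Matrix.transpose_mul, Matrix.transpose_mul, Matrix.transpose_transpose,
      Matrix.transpose_submatrix, hGt, hev.1.neg_one_pow, one_smul, mul_assoc]
  · have hneg : (-1 : F) ^ t = -1 := by
      by_cases h2 : (2 : F) = 0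
      · have : (-1 : F) = 1 := by linear_combination (-1 : F) * h2
        rw [this, one_pow]
      · exact (Nat.not_even_iff_odd.1 fun h => hev ⟨h, h2⟩).neg_one_pow
    have hG0 : (G.submatrix e e)ᵀ = -G.submatrix e e := by
      rw [Matrix.transpose_submatrix, hGt, hneg, neg_one_smul]
      rfl
    have hdiag : ∀ i, G.submatrix e e i i = 0 := by
      intro i
      rw [Matrix.submatrix_apply, hG, pureTensor_apply]
      refine Finset.prod_eq_zero (Finset.mem_univ ⟨0, ht⟩) ?_
      generalize e i ⟨0, ht⟩ = x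
      fin_cases x <;> simp [altTwo]
    have hsymp := isSymplecticForm_sesqForm hG0 hdiag (by rwa [Matrix.det_submatrix_equiv_self])
    refine inLinClass_symplecticForm hn ?_ (fun i => ?_) hdet hsim
    · rw [hT, Matrix.transpose_mul, Matrix.transpose_mul, Matrix.transpose_transpose, hG0]
      simp [mul_assoc]
    · rw [← sesqForm_single (RingHom.id F) T i i]
      have h1 := sesqForm_mulVec (RingHom.id F) (G.submatrix e e) Q (Pi.single i 1) (Pi.single i 1)
      rw [show Q.map (RingHom.id F) = Q from Matrix.map_id Q, ← hT] at h1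
      rw [← h1]
      exact hsymp.alternating _

end Cfsg.Agent.Aschbacher
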