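/-
Minimal normal subgroups of an irreducible matrix group: the abelian case and the case of several
simple factors.
-/
import Mathlib
import Cfsg.Agent.Aschbacher.SymplecticType
import Cfsg.Agent.Aschbacher.Tensor
import Cfsg.Agent.Aschbacher.Clifford

set_option autoImplicit false
set_option linter.style.haveILetI false

namespace Cfsg.Agent.Aschbacher

open Matrix
open scoped commutatorElement

variable {ι : Type} [Fintype ι] [DecidableEq ι] {F : Type*} [Field F]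

/-- A group of matrices whose members all lie in a given algebra together with the scalars. -/
lemma adjoin_sup_scalars (X : Subgroup (GL ι F)) :
    Algebra.adjoin F (Cfsg.Geo.matrixSet (X ⊔ Cfsg.Geo.scalars ι F)) =
      Algebra.adjoin F (Cfsg.Geo.matrixSet X) := by
  refine le_antisymm (Algebra.adjoin_le ?_) (Algebra.adjoin_mono ?_)
  · rintro _ ⟨x, hx, rfl⟩
    obtain ⟨a, ha, z, hz, rfl⟩ := Subgroup.mem_sup_of_normal_right.1 hx
    obtain ⟨c, rfl⟩ := mem_scalars_iff_scalarUnit.1 hz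
    show ((a * scalarUnit ι F c : GL ι F) : Matrix ι ι F) ∈ _
    rw [Units.val_mul, scalarUnit_coe, Matrix.mul_smul, mul_one]
    exact Subalgebra.smul_mem _ (Algebra.subset_adjoin (mem_matrixSet ha)) _
  · rintro _ ⟨x, hx, rfl⟩
    exact mem_matrixSet (Subgroup.mem_sup_left hx)

lemma conjMat_mem_adjoin {X : Subgroup (GL ι F)} {g : GL ι F} (hg : ∀ x ∈ X, g * x * g⁻¹ ∈ X)
    {M : Matrix ι ι F} (hM : M ∈ Algebra.adjoin F (Cfsg.Geo.matrixSet X)) :
    conjMat g M ∈ Algebra.adjoin F (Cfsg.Geo.matrixSet X) := by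
  have : Algebra.adjoin F (Cfsg.Geo.matrixSet X) ≤
      (Algebra.adjoin F (Cfsg.Geo.matrixSet X)).comap
        (conjMat g : Matrix ι ι F →ₐ[F] Matrix ι ι F) := by
    refine Algebra.adjoin_le ?_
    rintro _ ⟨x, hx, rfl⟩
    show conjMat g (x : Matrix ι ι F) ∈ Algebra.adjoin F (Cfsg.Geo.matrixSet X)
    rw [conjMat_units]
    exact Algebra.subset_adjoin (mem_matrixSet (hg x hx))
  exact this hM

/-- Central factors do not change a commutator. -/
lemma commutator_central {G : Type*} [Group G] {z w : G} (hz : ∀ g, g * z = z * g)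
    (hw : ∀ g, g * w = w * g) (a b : G) : ⁅z * a, w * b⁆ = ⁅a, b⁆ := by
  rw [commutatorElement_def, commutatorElement_def, _root_.mul_inv_rev, _root_.mul_inv_rev]
  calc z * a * (w * b) * (a⁻¹ * z⁻¹) * (b⁻¹ * w⁻¹)
      = z * (a * (w * b) * a⁻¹) * z⁻¹ * (b⁻¹ * w⁻¹) := by group
    _ = a * (w * b) * a⁻¹ * (b⁻¹ * w⁻¹) := by rw [← hz, mul_inv_cancel_right]
    _ = w * (a * b * a⁻¹ * b⁻¹) * w⁻¹ := by rw [← mul_assoc a w b, hw a]; group
    _ = a * b * a⁻¹ * b⁻¹ := by rw [← hw, mul_inv_cancel_right]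

/-- If every commutator of `x` with `M` is scalar, `x` commutes with the derived group of `M`. -/
lemma commute_commutator_of_scalar {x : GL ι F} {M : Subgroup (GL ι F)}
    (h : ∀ a ∈ M, x * a * x⁻¹ * a⁻¹ ∈ Cfsg.Geo.scalars ι F) :
    ∀ p ∈ ⁅M, M⁆, x * p = p * x := by
  intro p hp
  have hle : ⁅M, M⁆ ≤ Subgroup.centralizer {x} := by
    rw [Subgroup.commutator_le]
    intro a ha b hb
    rw [Subgroup.mem_centralizer_singleton_iff]
    have e1 : x * a * x⁻¹ = x * a * x⁻¹ * a⁻¹ * a := by group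
    have e2 : x * b * x⁻¹ = x * b * x⁻¹ * b⁻¹ * b := by group
    have h3 : x * ⁅a, b⁆ * x⁻¹ = ⁅a, b⁆ := by
      rw [conjugate_commutatorElement, e1, e2,
        commutator_central (scalars_comm (h a ha)) (scalars_comm (h b hb))]
    calc ⁅a, b⁆ * x = x * ⁅a, b⁆ * x⁻¹ * x := by rw [h3]
      _ = x * ⁅a, b⁆ := inv_mul_cancel_right _ _
  exact (Subgroup.mem_centralizer_singleton_iff.1 (hle hp)).symm

lemma commutator_sup_scalars (X : Subgroup (GL ι F)) :
    ⁅X ⊔ Cfsg.Geo.scalars ι F, X ⊔ Cfsg.Geo.scalars ι F⁆ = ⁅X, X⁆ := by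
  refine le_antisymm ?_ (Subgroup.commutator_mono le_sup_left le_sup_left)
  rw [Subgroup.commutator_le]
  intro a ha b hb
  obtain ⟨a', ha', z, hz, rfl⟩ := Subgroup.mem_sup_of_normal_right.1 ha
  obtain ⟨b', hb', w, hw, rfl⟩ := Subgroup.mem_sup_of_normal_right.1 hb
  rw [show a' * z = z * a' from scalars_comm hz a', show b' * w = w * b' from scalars_comm hw b',
    commutator_central (scalars_comm hz) (scalars_comm hw)]
  exact Subgroup.commutator_mem_commutator ha' hb'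

lemma conj_mem_commutator {X : Subgroup (GL ι F)} {g : GL ι F} (hg : ∀ x ∈ X, g * x * g⁻¹ ∈ X) :
    ∀ p ∈ ⁅X, X⁆, g * p * g⁻¹ ∈ ⁅X, X⁆ := by
  intro p hp
  have hle : X.map (MulAut.conj g).toMonoidHom ≤ X := by
    rintro _ ⟨x, hx, rfl⟩
    exact hg x hx
  have : (MulAut.conj g).toMonoidHom p ∈ ⁅X, X⁆ := by
    have h1 : (MulAut.conj g).toMonoidHom p ∈ (⁅X, X⁆).map (MulAut.conj g).toMonoidHom :=
      Subgroup.mem_map_of_mem _ hp
    rw [Subgroup.map_commutator] at h1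
    exact Subgroup.commutator_mono hle hle h1
  exact this

lemma exists_minimal_subgroup [Finite F] (S : Set (Subgroup (GL ι F))) (hS : S.Nonempty) :
    ∃ M ∈ S, ∀ M' ∈ S, M' ≤ M → M' = M := by
  haveI : Finite (GL ι F) := inferInstance
  haveI : Finite (Subgroup (GL ι F)) := inferInstance
  obtain ⟨M, hM, hmin⟩ := Set.exists_min_image S (fun M => Nat.card M) (Set.toFinite S) hS
  exact ⟨M, hM, fun M' hM' hle => Subgroup.eq_of_le_of_card_ge hle (hmin M' hM')⟩

variable [Fintype F]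

/-- A minimal normal subgroup which is abelian modulo scalars gives a group of symplectic type. -/
theorem exists_symplecticData_of_minimal (hι : 2 ≤ Fintype.card ι) {H N : Subgroup (GL ι F)}
    (hZN : Cfsg.Geo.scalars ι F ≤ N) (hns : ¬ N ≤ Cfsg.Geo.scalars ι F)
    (hnorm : ∀ g ∈ H, ∀ x ∈ N, g * x * g⁻¹ ∈ N)
    (htop : Algebra.adjoin F (Cfsg.Geo.matrixSet N) = ⊤)
    (hcomm : ∀ x ∈ N, ∀ y ∈ N, x * y * x⁻¹ * y⁻¹ ∈ Cfsg.Geo.scalars ι F)
    (hmin : ∀ M : Subgroup (GL ι F), Cfsg.Geo.scalars ι F ≤ M → M ≤ N →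
      (∀ g ∈ H, ∀ x ∈ M, g * x * g⁻¹ ∈ M) → M = Cfsg.Geo.scalars ι F ∨ M = N) :
    ∃ (r : ℕ) (R : Subgroup (GL ι F)), SymplecticData H R r ∧ R ≤ N ∧
      (∀ x ∈ N, ∃ c : Fˣ, scalarUnit ι F c * x ∈ R) ∧ ∀ x ∈ N, x ^ r ∈ Cfsg.Geo.scalars ι F := by
  classical
  set Z := Cfsg.Geo.scalars ι F with hZ
  obtain ⟨x, hx, hxZ⟩ := SetLike.not_le_iff_exists.1 hns
  let π := QuotientGroup.mk' Z
  have hπ : ∀ y, π y = 1 ↔ y ∈ Z := fun y => QuotientGroup.eq_one_iff y
  have hk1 : orderOf (π x) ≠ 1 := fun h => hxZ ((hπ x).1 (orderOf_eq_one_iff.1 h))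
  have hkpos : 0 < orderOf (π x) := orderOf_pos _
  set r := (orderOf (π x)).minFac with hr
  have hrp : r.Prime := Nat.minFac_prime hk1
  have hπcomm : ∀ a ∈ N, ∀ b ∈ N, Commute (π a) (π b) := by
    intro a ha b hb
    have h1 := (hπ _).2 (hcomm a ha b hb)
    rw [map_mul, map_mul, map_mul, map_inv, map_inv] at h1
    show π a * π b = π b * π a
    calc π a * π b = (π a * π b * (π a)⁻¹ * (π b)⁻¹) * (π b * π a) := by group
      _ = π b * π a := by rw [h1, one_mul]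
  let M : Subgroup (GL ι F) :=
    { carrier := {y | y ∈ N ∧ π y ^ r = 1}
      mul_mem' := by
        rintro a b ⟨ha, ha'⟩ ⟨hb, hb'⟩
        exact ⟨mul_mem ha hb, by rw [map_mul, (hπcomm a ha b hb).mul_pow, ha', hb', one_mul]⟩
      one_mem' := ⟨one_mem N, by rw [map_one, one_pow]⟩
      inv_mem' := by
        rintro a ⟨ha, ha'⟩
        exact ⟨inv_mem ha, by rw [map_inv, inv_pow, ha', inv_one]⟩ }
  have hZM : Z ≤ M := fun z hz => ⟨hZN hz, by rw [(hπ z).2 hz, one_pow]⟩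
  rcases hmin M hZM (fun y hy => hy.1) (fun g hg y hy =>
    ⟨hnorm g hg y hy.1, by rw [map_mul, map_mul, map_inv, conj_pow, hy.2, mul_one, mul_inv_cancel]⟩)
    with h | h
  · exfalso
    have hy : x ^ (orderOf (π x) / r) ∈ M := by
      refine ⟨pow_mem hx _, ?_⟩
      rw [map_pow, ← pow_mul, Nat.div_mul_cancel (Nat.minFac_dvd _), pow_orderOf_eq_one]
    rw [h] at hy
    have h1 := (hπ _).2 hy
    rw [map_pow] at h1
    have h2 := orderOf_dvd_of_pow_eq_one h1
    have h3 : orderOf (π x) / r < orderOf (π x) := Nat.div_lt_self hkpos hrp.one_lt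
    have h4 : 0 < orderOf (π x) / r :=
      Nat.div_pos (Nat.minFac_le hkpos) hrp.pos
    have := Nat.le_of_dvd h4 h2
    omega
  · have hpow : ∀ y ∈ N, y ^ r ∈ Z := fun y hy => by
      rw [← h] at hy
      rw [← hπ, map_pow]
      exact hy.2
    obtain ⟨R, hR, hRN, hdec⟩ := exists_symplecticData hι H N hZN hnorm htop hcomm r hrp hpow hmin
    exact ⟨r, R, hR, hRN, hdec, hpow⟩

/-- The tensor decomposition attached to several simple factors in the socle: the factors are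
conjugates of the first one, and each is spanned by a subgroup of the normal subgroup. -/
structure FactorData (H N : Subgroup (GL ι F)) (t m : ℕ) [NeZero t]
    (Φ : Fin t → (Matrix (Fin m) (Fin m) F →ₐ[F] Matrix ι ι F)) : Prop where
  two_le : 2 ≤ t
  two_le_dim : 2 ≤ m
  commute : ∀ i j, i ≠ j → ∀ x y, Commute (Φ i x) (Φ j y)
  gen : Algebra.adjoin F (⋃ i, Set.range (Φ i)) = ⊤
  perm : ∀ g ∈ H, ∃ σ : Equiv.Perm (Fin t), ∀ i x, ∃ y, conjMat g (Φ i x) = Φ (σ i) y
  conj_zero : ∀ i, ∃ h ∈ H, ∀ x, Φ i x = conjMat h (Φ 0 x)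
  spanned : ∀ i, ∃ P : Subgroup (GL ι F), P ≤ N ∧ ⁅P, P⁆ = P ∧ ¬ P ≤ Cfsg.Geo.scalars ι F ∧
    Set.range (Φ i) = (Algebra.adjoin F (Cfsg.Geo.matrixSet P) : Set (Matrix ι ι F))

/-- Several simple factors in the socle give a tensor decomposition into conjugate factors. -/
theorem exists_factorData [Nonempty ι] {H N T : Subgroup (GL ι F)}
    (htop : Algebra.adjoin F (Cfsg.Geo.matrixSet N) = ⊤)
    (hnorm : ∀ g ∈ H, ∀ x ∈ N, g * x * g⁻¹ ∈ N)
    (hmin : ∀ M : Subgroup (GL ι F), Cfsg.Geo.scalars ι F ≤ M → M ≤ N →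
      (∀ g ∈ H, ∀ x ∈ M, g * x * g⁻¹ ∈ M) → M = Cfsg.Geo.scalars ι F ∨ M = N)
    (hnab : ¬ ⁅N, N⁆ ≤ Cfsg.Geo.scalars ι F)
    (hZT : Cfsg.Geo.scalars ι F ≤ T) (hTZ : T ≠ Cfsg.Geo.scalars ι F) (hTN : T < N)
    (hTnorm : ∀ g ∈ N, ∀ x ∈ T, g * x * g⁻¹ ∈ T)
    (hTmin : ∀ M : Subgroup (GL ι F), Cfsg.Geo.scalars ι F ≤ M → M ≤ T →
      (∀ g ∈ N, ∀ x ∈ M, g * x * g⁻¹ ∈ M) → M = Cfsg.Geo.scalars ι F ∨ M = T) :
    ∃ (t m : ℕ) (_ : NeZero t) (Φ : Fin t → (Matrix (Fin m) (Fin m) F →ₐ[F] Matrix ι ι F)),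
      FactorData H N t m Φ := by
  classical
  set Z := Cfsg.Geo.scalars ι F with hZ
  let cj : GL ι F → GL ι F →* GL ι F := fun g => (MulAut.conj g).toMonoidHom
  let S : Set (Subgroup (GL ι F)) := {X | ∃ g ∈ H, X = T.map (cj g)}
  have hconjZ : ∀ g z, z ∈ Z → g * z * g⁻¹ ∈ Z := fun g z hz =>
    Subgroup.Normal.conj_mem inferInstance z hz g
  have hmemS : ∀ X ∈ S, Z ≤ X ∧ X ≠ Z ∧ X ≤ N ∧ (∀ g ∈ N, ∀ x ∈ X, g * x * g⁻¹ ∈ X) ∧
      (∀ M : Subgroup (GL ι F), Z ≤ M → M ≤ X →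
        (∀ g ∈ N, ∀ x ∈ M, g * x * g⁻¹ ∈ M) → M = Z ∨ M = X) := by
    rintro X ⟨h, hh, rfl⟩
    refine ⟨fun z hz => ⟨h⁻¹ * z * h⁻¹⁻¹, hZT (hconjZ _ _ hz), by simp [cj, mul_assoc]⟩, ?_, ?_, ?_, ?_⟩
    · intro he
      apply hTZ
      refine le_antisymm (fun x hx => ?_) hZT
      have h1 : cj h x ∈ Z := he ▸ Subgroup.mem_map_of_mem _ hx
      have h2 := hconjZ h⁻¹ _ h1
      simpa [cj, mul_assoc] using h2
    · rintro _ ⟨x, hx, rfl⟩
      exact hnorm h hh x (hTN.le hx)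
    · rintro g hg _ ⟨x, hx, rfl⟩
      refine ⟨(h⁻¹ * g * h⁻¹⁻¹) * x * (h⁻¹ * g * h⁻¹⁻¹)⁻¹,
        hTnorm _ (hnorm _ (inv_mem hh) g hg) x hx, ?_⟩
      simp [cj, mul_assoc]
    · intro M hZM hMX hMn
      have hle : M.map (cj h⁻¹) ≤ T := by
        rintro _ ⟨y, hy, rfl⟩
        obtain ⟨x, hx, rfl⟩ := hMX hy
        simpa [cj, mul_assoc] using hx
      rcases hTmin (M.map (cj h⁻¹))
        (fun z hz => ⟨h * z * h⁻¹, hZM (hconjZ _ _ hz), by simp [cj, mul_assoc]⟩) hle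
        (by
          rintro g hg _ ⟨y, hy, rfl⟩
          refine ⟨(h * g * h⁻¹) * y * (h * g * h⁻¹)⁻¹, hMn _ (hnorm h hh g hg) y hy, ?_⟩
          simp [cj, mul_assoc]) with he | he
      · left
        refine le_antisymm (fun y hy => ?_) hZM
        have h1 : cj h⁻¹ y ∈ Z := he ▸ Subgroup.mem_map_of_mem _ hy
        have h2 := hconjZ h _ h1
        simpa [cj, mul_assoc] using h2
      · right
        refine le_antisymm hMX ?_
        rintro _ ⟨x, hx, rfl⟩
        obtain ⟨y, hy, hyx⟩ := (he ▸ hx : x ∈ M.map (cj h⁻¹))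
        rw [← hyx]
        simpa [cj, mul_assoc] using hy
  have hST : T ∈ S := ⟨1, one_mem H, by ext x; simp [cj]⟩
  have hSconj : ∀ g ∈ H, ∀ X ∈ S, X.map (cj g) ∈ S := by
    rintro g hg X ⟨h, hh, rfl⟩
    refine ⟨g * h, mul_mem hg hh, ?_⟩
    rw [Subgroup.map_map]
    congr 1
    ext x
    simp [cj, mul_assoc]
  haveI : Finite (Subgroup (GL ι F)) := inferInstance
  let Sf : Finset (Subgroup (GL ι F)) := (Set.toFinite S).toFinset
  have hSf : ∀ X, X ∈ Sf ↔ X ∈ S := fun X => (Set.toFinite S).mem_toFinset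
  set t := Sf.card with ht
  let U : Fin t → Subgroup (GL ι F) := fun i => Sf.equivFin.symm i
  have hUS : ∀ i, U i ∈ S := fun i => (hSf _).1 (Sf.equivFin.symm i).2
  have hUinj : Function.Injective U := fun i j h => Sf.equivFin.symm.injective (Subtype.ext h)
  have hUsurj : ∀ X ∈ S, ∃ i, U i = X := fun X hX => ⟨Sf.equivFin ⟨X, (hSf X).2 hX⟩, by simp [U]⟩
  have ht2 : 2 ≤ t := by
    by_contra hlt
    rcases hmin T hZT hTN.le (fun g hg x hx => by
      obtain ⟨i, hi⟩ := hUsurj T hST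
      obtain ⟨j, hj⟩ := hUsurj _ (hSconj g hg T hST)
      have hij : j = i := Fin.ext (by omega)
      rw [hij, hi] at hj
      exact hj ▸ Subgroup.mem_map_of_mem (cj g) hx) with h | h
    · exact hTZ h
    · exact hTN.ne h
  have hperm : ∀ g ∈ H, ∃ σ : Equiv.Perm (Fin t), ∀ i, (U i).map (cj g) = U (σ i) := by
    intro g hg
    choose s hs using fun i => hUsurj _ (hSconj g hg _ (hUS i))
    have hsinj : Function.Injective s := fun i j h => hUinj
      (Subgroup.map_injective (MulAut.conj g).injective ((hs i).symm.trans ((congrArg U h).trans (hs j))))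
    exact ⟨Equiv.ofBijective s ⟨hsinj, Finite.injective_iff_surjective.1 hsinj⟩, fun i => (hs i).symm⟩
  have hsup : (⨆ i, U i) = N := by
    obtain ⟨i₀, hi₀⟩ := hUsurj T hST
    rcases hmin (⨆ i, U i) (hZT.trans (hi₀ ▸ le_iSup U i₀)) (iSup_le fun i => (hmemS _ (hUS i)).2.2.1)
      (fun g hg x hx => by
        obtain ⟨σ, hσ⟩ := hperm g hg
        have h1 : cj g x ∈ (⨆ i, U i).map (cj g) := Subgroup.mem_map_of_mem _ hx
        rw [Subgroup.map_iSup] at h1
        exact (iSup_le fun i => (hσ i).trans_le (le_iSup U (σ i))) h1) with h | h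
    · exact absurd (le_antisymm ((hi₀ ▸ le_iSup U i₀).trans_eq h) hZT) hTZ
    · exact h
  have hcomm : ∀ i j, i ≠ j → ∀ x ∈ U i, ∀ y ∈ U j, x * y * x⁻¹ * y⁻¹ ∈ Z := by
    intro i j hij x hx y hy
    obtain ⟨hZi, hiZ, hiN, hin, himin⟩ := hmemS _ (hUS i)
    obtain ⟨hZj, hjZ, hjN, hjn, hjmin⟩ := hmemS _ (hUS j)
    have hmem : x * y * x⁻¹ * y⁻¹ ∈ U i ⊓ U j := by
      refine Subgroup.mem_inf.2 ⟨?_, (U j).mul_mem (hjn x (hiN hx) y hy) ((U j).inv_mem hy)⟩
      rw [show x * y * x⁻¹ * y⁻¹ = x * (y * x⁻¹ * y⁻¹) by group]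
      exact mul_mem hx (hin y (hjN hy) _ (inv_mem hx))
    rcases himin (U i ⊓ U j) (le_inf hZi hZj) inf_le_left
      (fun g hg z hz => ⟨hin g hg z hz.1, hjn g hg z hz.2⟩) with h | h
    · exact h ▸ hmem
    · exfalso
      have hle : U i ≤ U j := h ▸ inf_le_right
      rcases hjmin (U i) hZi hle hin with h' | h'
      · exact hiZ h'
      · exact hij (hUinj h')
  -- each factor is non-abelian modulo scalars
  have hPns : ∀ i, ¬ ⁅U i, U i⁆ ≤ Z := by
    intro i hi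
    apply hnab
    have hall : ∀ j, ⁅U j, U j⁆ ≤ Z := by
      intro j
      obtain ⟨g, hg, hgi⟩ := hUS i
      obtain ⟨g', hg', hgj⟩ := hUS j
      have h1 : U j = (U i).map (cj (g' * g⁻¹)) := by
        rw [hgi, hgj, Subgroup.map_map]
        congr 1
        ext x
        simp [cj, mul_assoc]
      rw [h1, ← Subgroup.map_commutator]
      rintro _ ⟨x, hx, rfl⟩
      exact hconjZ _ _ (hi hx)
    let π := QuotientGroup.mk' Z
    have hc : ∀ i j, ∀ x ∈ U i, ∀ y ∈ U j, π x * π y = π y * π x := by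
      intro i j x hx y hy
      have h1 : π (x * y * x⁻¹ * y⁻¹) = 1 := by
        rw [QuotientGroup.mk'_apply, QuotientGroup.eq_one_iff]
        by_cases hij : i = j
        · subst hij
          rw [← commutatorElement_def]
          exact hall i (Subgroup.commutator_mem_commutator hx hy)
        · exact hcomm i j hij x hx y hy
      simp only [map_mul, map_inv] at h1
      calc π x * π y = (π x * π y * (π x)⁻¹ * (π y)⁻¹) * (π y * π x) := by group
        _ = π y * π x := by rw [h1, one_mul]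
    have hNc : N.map π ≤ Subgroup.centralizer (N.map π) := by
      rw [← hsup, Subgroup.map_iSup]
      refine iSup_le fun i => ?_
      rw [Subgroup.le_centralizer_iff]
      refine iSup_le fun j => ?_
      rintro _ ⟨y, hy, rfl⟩
      rw [Subgroup.mem_centralizer_iff]
      rintro _ ⟨x, hx, rfl⟩
      exact hc i j x hx y hy
    rw [Subgroup.commutator_le]
    intro a ha b hb
    have h1 := Subgroup.mem_centralizer_iff.1 (hNc (Subgroup.mem_map_of_mem π hb)) _
      (Subgroup.mem_map_of_mem π ha)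
    show ⁅a, b⁆ ∈ Z
    rw [← QuotientGroup.eq_one_iff]
    show π ⁅a, b⁆ = 1
    rw [map_commutatorElement, commutatorElement_eq_one_iff_mul_comm]
    exact h1
  let P : Fin t → Subgroup (GL ι F) := fun i => ⁅U i, U i⁆
  have hPU : ∀ i, P i ⊔ Z = U i := by
    intro i
    obtain ⟨hZi, hiZ, hiN, hin, himin⟩ := hmemS _ (hUS i)
    have hle : P i ≤ U i := by
      rw [Subgroup.commutator_le]
      exact fun a ha b hb => mul_mem (mul_mem (mul_mem ha hb) (inv_mem ha)) (inv_mem hb)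
    rcases himin (P i ⊔ Z) le_sup_right (sup_le hle hZi) (fun g hg x hx => by
      obtain ⟨p, hp, z, hz, rfl⟩ := Subgroup.mem_sup_of_normal_right.1 hx
      rw [show g * (p * z) * g⁻¹ = (g * p * g⁻¹) * (g * z * g⁻¹) by group]
      exact Subgroup.mul_mem _ (Subgroup.mem_sup_left (conj_mem_commutator (hin g hg) p hp))
        (Subgroup.mem_sup_right (hconjZ g z hz))) with h | h
    · exact absurd (le_sup_left.trans h.le) (hPns i)
    · exact h
  let A : Fin t → Subalgebra F (Matrix ι ι F) := fun i =>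
    Algebra.adjoin F (Cfsg.Geo.matrixSet (P i))
  have hUA : ∀ i, ∀ x ∈ U i, (x : Matrix ι ι F) ∈ A i := by
    intro i x hx
    show _ ∈ Algebra.adjoin F _
    rw [← adjoin_sup_scalars]
    exact Algebra.subset_adjoin (mem_matrixSet ((hPU i).symm ▸ hx : x ∈ P i ⊔ Z))
  have hgen : (⨆ i, A i) = ⊤ := by
    rw [eq_top_iff, ← htop]
    refine Algebra.adjoin_le ?_
    rintro _ ⟨x, hx, rfl⟩
    rw [← hsup] at hx
    refine Subgroup.iSup_induction U (C := fun x => (x : Matrix ι ι F) ∈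
      (⨆ i, A i : Subalgebra F (Matrix ι ι F))) hx
      (fun i y hy => (le_iSup A i) (hUA i y hy)) (one_mem _) (fun a b ha hb => mul_mem ha hb)
  have hAcomm : ∀ i j, i ≠ j → ∀ x ∈ A i, ∀ y ∈ A j, x * y = y * x := by
    intro i j hij
    have hgrp : ∀ p ∈ P i, ∀ y ∈ U j, y * p = p * y := fun p hp y hy =>
      commute_commutator_of_scalar (fun a ha => hcomm j i (Ne.symm hij) y hy a ha) p hp
    intro x hx y hy
    have h1 : A i ≤ Subalgebra.centralizer F (Cfsg.Geo.matrixSet (P j)) := by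
      refine Algebra.adjoin_le ?_
      rintro _ ⟨p, hp, rfl⟩
      rw [SetLike.mem_coe, Subalgebra.mem_centralizer_iff]
      rintro _ ⟨y', hy', rfl⟩
      exact congrArg Units.val (hgrp p hp y' ((hPU j) ▸ Subgroup.mem_sup_left hy'))
    have h2 : A j ≤ Subalgebra.centralizer F {x} := by
      refine Algebra.adjoin_le ?_
      intro z hz
      rw [SetLike.mem_coe, Subalgebra.mem_centralizer_iff]
      intro g hg
      rw [Set.mem_singleton_iff.1 hg]
      exact ((Subalgebra.mem_centralizer_iff F).1 (h1 hx) z hz).symm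
    exact (Subalgebra.mem_centralizer_iff F).1 (h2 hy) x rfl
  have habsN := absIrred_of_adjoin_eq_top htop
  have hiso : ∀ i, ∃ a : ℕ, 0 < a ∧ Nonempty (A i ≃ₐ[F] Matrix (Fin a) (Fin a) F) := by
    intro i
    obtain ⟨-, -, -, hin, -⟩ := hmemS _ (hUS i)
    refine exists_algEquiv_matrix (jacobson_bot_eq_bot (A i) (H := N) habsN.1
      (fun g hg x hx => conjMat_mem_adjoin (conj_mem_commutator (hin g hg)) hx)) fun z hz => ?_
    have hle : (⨆ j, A j) ≤ Subalgebra.centralizer F {(z : Matrix ι ι F)} := by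
      refine iSup_le fun j y hy => ?_
      rw [Subalgebra.mem_centralizer_iff]
      intro g hg
      rw [Set.mem_singleton_iff.1 hg]
      by_cases hij : j = i
      · subst hij
        exact congrArg Subtype.val (hz ⟨y, hy⟩)
      · exact hAcomm i j (Ne.symm hij) _ z.2 y hy
    obtain ⟨c, hc⟩ := habsN.2 (z : Matrix ι ι F) (fun s _ => by
      exact (Subalgebra.mem_centralizer_iff F).1 (hle (hgen ▸ Algebra.mem_top)) _ rfl)
    exact ⟨c, Subtype.ext (by rw [hc, Subalgebra.coe_algebraMap, Algebra.algebraMap_eq_smul_one])⟩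
  have hmapA : ∀ g ∈ H, ∀ i j, (U i).map (cj g) = U j →
      (A i).map (conjMat g : Matrix ι ι F →ₐ[F] Matrix ι ι F) = A j := by
    intro g _ i j hij
    rw [AlgHom.map_adjoin]
    congr 1
    have h2 : (P i).map (cj g) = P j := by
      show (⁅U i, U i⁆).map (cj g) = ⁅U j, U j⁆
      rw [Subgroup.map_commutator, hij]
    rw [← h2]
    ext y
    constructor
    · rintro ⟨_, ⟨p, hp, rfl⟩, rfl⟩
      exact ⟨cj g p, Subgroup.mem_map_of_mem _ hp, (conjMat_units g p).symm⟩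
    · rintro ⟨_, ⟨p, hp, rfl⟩, rfl⟩
      exact ⟨(p : Matrix ι ι F), mem_matrixSet hp, conjMat_units g p⟩
  choose a ha hφ using hiso
  have hafin : ∀ i, Module.finrank F (A i) = a i * a i := by
    intro i
    rw [(hφ i).some.toLinearEquiv.finrank_eq, Module.finrank_matrix, Fintype.card_fin,
      Module.finrank_self, mul_one]
  have haeq : ∀ i j, a i = a j := by
    intro i j
    obtain ⟨g, hg, hgi⟩ := hUS i
    obtain ⟨g', hg', hgj⟩ := hUS j
    have hm := hmapA (g' * g⁻¹) (mul_mem hg' (inv_mem hg)) i j (by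
      rw [hgi, hgj, Subgroup.map_map]
      congr 1
      ext x
      simp [cj, mul_assoc])
    have h1 : Module.finrank F (A i) = Module.finrank F (A j) := by
      rw [← hm]
      exact (Subalgebra.equivMapOfInjective _ _ (conjMat (g' * g⁻¹)).injective).toLinearEquiv.finrank_eq
    rw [hafin, hafin] at h1
    exact Nat.mul_self_inj.1 h1
  set i₀ : Fin t := ⟨0, by omega⟩
  set m := a i₀ with hm
  have hφm : ∀ i, Nonempty (A i ≃ₐ[F] Matrix (Fin m) (Fin m) F) := fun i => by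
    rw [hm, haeq i₀ i]
    exact hφ i
  haveI : NeZero t := ⟨by omega⟩
  have hi₀ : i₀ = 0 := Fin.ext rfl
  choose h hh hhU using hUS
  have hmap0 : ∀ i, (A 0).map (conjMat (h i * (h 0)⁻¹) : Matrix ι ι F →ₐ[F] Matrix ι ι F) = A i :=
    fun i => hmapA _ (mul_mem (hh i) (inv_mem (hh 0))) 0 i (by
      rw [hhU i, hhU 0, Subgroup.map_map]
      congr 1
      ext x
      simp [cj, mul_assoc])
  let ψ : A 0 ≃ₐ[F] Matrix (Fin m) (Fin m) F := (hi₀ ▸ hφm i₀ : Nonempty _).some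
  let Φ₀ : Matrix (Fin m) (Fin m) F →ₐ[F] Matrix ι ι F := (A 0).val.comp ψ.symm.toAlgHom
  have hΦ₀ : Set.range Φ₀ = (A 0 : Set (Matrix ι ι F)) := by
    ext y
    constructor
    · rintro ⟨x, rfl⟩
      exact (ψ.symm x).2
    · intro hy
      exact ⟨ψ ⟨y, hy⟩, by simp [Φ₀]⟩
  let c : Fin t → GL ι F := fun i => if i = 0 then 1 else h i * (h 0)⁻¹
  let Φ : Fin t → (Matrix (Fin m) (Fin m) F →ₐ[F] Matrix ι ι F) := fun i =>
    (conjMat (c i) : Matrix ι ι F →ₐ[F] Matrix ι ι F).comp Φ₀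
  have hΦrange : ∀ i, Set.range (Φ i) = (A i : Set (Matrix ι ι F)) := by
    intro i
    by_cases hi : i = 0
    · subst hi
      rw [← hΦ₀]
      congr 1
      funext x
      simp [Φ, c, conjMat_apply]
    · rw [← hmap0 i, Subalgebra.coe_map, ← hΦ₀, ← Set.range_comp]
      congr 1
      funext x
      simp [Φ, c, hi]
  have hgen' : Algebra.adjoin F (⋃ i, Set.range (Φ i)) = ⊤ := by
    rw [eq_top_iff, ← hgen]
    refine iSup_le fun i => ?_
    rw [← Algebra.adjoin_eq (A i)]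
    refine Algebra.adjoin_mono ?_
    rw [← hΦrange i]
    exact Set.subset_iUnion (fun i => Set.range (Φ i)) i
  have hΦmem : ∀ i x, Φ i x ∈ A i := fun i x =>
    show Φ i x ∈ (A i : Set (Matrix ι ι F)) from hΦrange i ▸ ⟨x, rfl⟩
  refine ⟨t, m, inferInstance, Φ, ht2, ?_, fun i j hij x y =>
    hAcomm i j hij _ (hΦmem i x) _ (hΦmem j y), hgen', fun g hg => ?_, fun i => ?_, fun i => ?_⟩
  · by_contra hlt
    have hm1 : m = 1 := by have := ha i₀; omega
    apply hPns i₀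
    intro x hx
    have h1 : Module.finrank F (A i₀) = 1 := by rw [hafin, ← hm, hm1]
    have h2 : A i₀ = ⊥ := Subalgebra.eq_bot_of_finrank_one h1
    have h3 : (x : Matrix ι ι F) ∈ A i₀ := Algebra.subset_adjoin (mem_matrixSet hx)
    rw [h2, Algebra.mem_bot] at h3
    obtain ⟨c, hc⟩ := h3
    exact mem_scalars_of_eq_smul x c (by rw [← hc, Algebra.algebraMap_eq_smul_one])
  · obtain ⟨σ, hσ⟩ := hperm g hg
    refine ⟨σ, fun i x => ?_⟩
    have hmem : conjMat g (Φ i x) ∈ A (σ i) := hmapA g hg i (σ i) (hσ i) ▸ ⟨Φ i x, hΦmem i x, rfl⟩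
    obtain ⟨y, hy⟩ := ((hΦrange (σ i)).symm ▸ hmem : conjMat g (Φ i x) ∈ Set.range (Φ (σ i)))
    exact ⟨y, hy.symm⟩
  · refine ⟨c i, ?_, fun x => by simp [Φ, c, conjMat_apply]⟩
    by_cases hi : i = 0
    · simp [c, hi]
    · simpa [c, hi] using mul_mem (hh i) (inv_mem (hh 0))
  · obtain ⟨-, -, hiN, -, -⟩ := hmemS _ ⟨h i, hh i, hhU i⟩
    refine ⟨P i, (le_sup_left.trans (hPU i).le).trans hiN, ?_, hPns i, hΦrange i⟩
    show ⁅P i, P i⁆ = ⁅U i, U i⁆
    rw [← commutator_sup_scalars (P i), hPU i]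

end Cfsg.Agent.Aschbacher
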