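/-
Aschbacher's theorem, linear case: every subgroup of GL_n(q), n ≥ 3, lies in a member of one of the
eight classes or is in the residual class.
-/
import Mathlib
import Cfsg.Agent.Aschbacher.WreathTwo
import Cfsg.Agent.Aschbacher.Factors

set_option autoImplicit false
set_option linter.style.haveILetI false

namespace Cfsg.Agent.Aschbacher

open Matrix
open scoped commutatorElement

variable {ι : Type} [Fintype ι] [DecidableEq ι] {F : Type*} [Field F]

section linear

variable [Fintype F] {n : ℕ}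

/-- A non-scalar subgroup normalised by `H` spans all matrices, or `H` lies in one of the classes. -/
theorem adjoin_eq_top_or_inLinClass (hn : 3 ≤ n) {H N : Subgroup (GL (Fin n) F)} (hirr : Irred H)
    (hnorm : ∀ g ∈ H, ∀ x ∈ N, g * x * g⁻¹ ∈ N) (hns : ¬ N ≤ Cfsg.Geo.scalars (Fin n) F) :
    InLinClass H ∨ Algebra.adjoin F (Cfsg.Geo.matrixSet N) = ⊤ := by
  classical
  haveI : NeZero n := ⟨by omega⟩
  set A := Algebra.adjoin F (Cfsg.Geo.matrixSet N) with hA
  have hconj : ∀ g ∈ H, ∀ x ∈ A, conjMat g x ∈ A := fun g hg x hx =>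
    conjMat_mem_adjoin (hnorm g hg) hx
  rcases center_trichotomy A hirr hconj with ⟨t, m, D, hD, h⟩ | ⟨r, K, hr, hK, h⟩ | ⟨a, ha, ⟨φ⟩⟩
  · exact Or.inl (inLinClass_decomposition hD h)
  · exact Or.inl (inLinClass_field hr hK h)
  · let Θ : Matrix (Fin a) (Fin a) F →ₐ[F] Matrix (Fin n) (Fin n) F := A.val.comp φ.symm.toAlgHom
    obtain ⟨k, e, P, hP⟩ := exists_kronecker_basis Θ
    have hcard : n = a * k := by simpa using Fintype.card_congr e
    have hle : H ≤ Cfsg.Geo.tensorProductSubgroup a k e P := by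
      intro g hg
      refine mem_tensorProduct Θ e P hP g fun x =>
        ⟨φ ⟨conjMat g (Θ x), hconj g hg _ (φ.symm x).2⟩, ?_⟩
      simp [Θ]
    rcases Nat.lt_trichotomy a 1 with h1 | h1 | h1
    · omega
    · subst h1
      exfalso
      apply hns
      intro x hx
      have hscal : φ ⟨(x : Matrix (Fin n) (Fin n) F), Algebra.subset_adjoin (mem_matrixSet hx)⟩ =
          algebraMap F _ (φ ⟨(x : Matrix (Fin n) (Fin n) F), Algebra.subset_adjoin (mem_matrixSet hx)⟩ 0 0) := by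
        ext i j
        rw [Matrix.algebraMap_matrix_apply, if_pos (Subsingleton.elim i j), Subsingleton.elim i 0,
          Subsingleton.elim j 0]
        rfl
      have h2 := congrArg (fun y => ((φ.symm y : A) : Matrix (Fin n) (Fin n) F)) hscal
      simp only [AlgEquiv.symm_apply_apply, AlgEquiv.commutes] at h2
      exact mem_scalars_of_eq_smul x _ (h2.trans (Algebra.algebraMap_eq_smul_one _))
    · rcases Nat.lt_trichotomy k 1 with hk | hk | hk
      · have : k = 0 := by omega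
        subst this
        omega
      · right
        subst hk
        apply Algebra.toSubmodule_eq_top.1
        apply Submodule.eq_top_of_finrank_eq
        rw [Module.finrank_matrix, Fintype.card_fin, Module.finrank_self, mul_one]
        show Module.finrank F A = _
        rw [φ.toLinearEquiv.finrank_eq, Module.finrank_matrix, Fintype.card_fin, Module.finrank_self,
          mul_one, hcard, mul_one]
      · left
        rcases Nat.lt_trichotomy a k with h2 | h2 | h2
        · exact inLinClass_tensor (by omega) h2 e P hle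
        · subst h2
          have hw := hle.trans (tensorProduct_le_wreath e P)
          rcases Nat.lt_or_ge a 3 with h3 | h3
          · obtain rfl : a = 2 := by omega
            exact inLinClass_wreath_two hn _ P hw
          · exact inLinClass_wreath h3 le_rfl _ P hw
        · exact inLinClass_tensor (by omega) h2 _ P (hle.trans (tensorProduct_swap e P))

/-- The case of a minimal normal subgroup which is abelian modulo scalars. -/
theorem inLinClass_of_abelian (hn : 3 ≤ n) {H N : Subgroup (GL (Fin n) F)}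
    (hZN : Cfsg.Geo.scalars (Fin n) F ≤ N) (hns : ¬ N ≤ Cfsg.Geo.scalars (Fin n) F)
    (hnorm : ∀ g ∈ H, ∀ x ∈ N, g * x * g⁻¹ ∈ N)
    (htop : Algebra.adjoin F (Cfsg.Geo.matrixSet N) = ⊤)
    (hcomm : ∀ x ∈ N, ∀ y ∈ N, x * y * x⁻¹ * y⁻¹ ∈ Cfsg.Geo.scalars (Fin n) F)
    (hmin : ∀ M : Subgroup (GL (Fin n) F), Cfsg.Geo.scalars (Fin n) F ≤ M → M ≤ N →
      (∀ g ∈ H, ∀ x ∈ M, g * x * g⁻¹ ∈ M) → M = Cfsg.Geo.scalars (Fin n) F ∨ M = N) :
    InLinClass H := by
  obtain ⟨r, R, hR, -⟩ := exists_symplecticData_of_minimal (by rw [Fintype.card_fin]; omega) hZN hns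
    hnorm htop hcomm hmin
  exact inLinClass_of_symplecticData hn hR

/-- Several simple factors in the socle give a tensor-wreath decomposition. -/
theorem inLinClass_of_factors (hn : 3 ≤ n) {H N T : Subgroup (GL (Fin n) F)}
    (htop : Algebra.adjoin F (Cfsg.Geo.matrixSet N) = ⊤)
    (hnorm : ∀ g ∈ H, ∀ x ∈ N, g * x * g⁻¹ ∈ N)
    (hmin : ∀ M : Subgroup (GL (Fin n) F), Cfsg.Geo.scalars (Fin n) F ≤ M → M ≤ N →
      (∀ g ∈ H, ∀ x ∈ M, g * x * g⁻¹ ∈ M) → M = Cfsg.Geo.scalars (Fin n) F ∨ M = N)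
    (hnab : ¬ ⁅N, N⁆ ≤ Cfsg.Geo.scalars (Fin n) F)
    (hZT : Cfsg.Geo.scalars (Fin n) F ≤ T) (hTZ : T ≠ Cfsg.Geo.scalars (Fin n) F) (hTN : T < N)
    (hTnorm : ∀ g ∈ N, ∀ x ∈ T, g * x * g⁻¹ ∈ T)
    (hTmin : ∀ M : Subgroup (GL (Fin n) F), Cfsg.Geo.scalars (Fin n) F ≤ M → M ≤ T →
      (∀ g ∈ N, ∀ x ∈ M, g * x * g⁻¹ ∈ M) → M = Cfsg.Geo.scalars (Fin n) F ∨ M = T) :
    InLinClass H := by
  classical
  haveI : NeZero n := ⟨by omega⟩
  obtain ⟨t, m, _, Φ, hd⟩ := exists_factorData htop hnorm hmin hnab hZT hTZ hTN hTnorm hTmin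
  obtain ⟨e, Q, hQ⟩ := exists_tensor_basis Φ hd.commute hd.gen
  have hle : H ≤ Cfsg.Geo.tensorWreathSubgroup m t e Q := by
    intro g hg
    obtain ⟨σ, hσ⟩ := hd.perm g hg
    exact mem_tensorWreath (Nat.pos_of_neZero t) Φ hd.gen e Q hQ g σ hσ
  rcases eq_or_lt_of_le hd.two_le_dim with h | h
  · subst h
    exact inLinClass_wreath_two hn _ Q hle
  · exact inLinClass_wreath h hd.two_le e Q hle

/-- A subgroup of a subgroup, pushed forward, is invariant under conjugation if it is normal. -/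
lemma conj_mem_map_subtype {G : Type*} [Group G] {P : Subgroup G} {K : Subgroup P} (hK : K.Normal) :
    ∀ g ∈ P, ∀ x ∈ K.map P.subtype, g * x * g⁻¹ ∈ K.map P.subtype := by
  intro g hg y hy
  obtain ⟨x, hx, rfl⟩ := Subgroup.mem_map.1 hy
  exact Subgroup.mem_map.2 ⟨⟨g, hg⟩ * x * ⟨g, hg⟩⁻¹, hK.conj_mem x hx ⟨g, hg⟩, rfl⟩

/-- A central factor does not enlarge the derived group. -/
lemma commutator_sup_central {G : Type*} [Group G] (X Z : Subgroup G) [Z.Normal]
    (hcen : ∀ z ∈ Z, ∀ g : G, g * z = z * g) : ⁅X ⊔ Z, X ⊔ Z⁆ = ⁅X, X⁆ := by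
  refine le_antisymm ?_ (Subgroup.commutator_mono le_sup_left le_sup_left)
  rw [Subgroup.commutator_le]
  intro a ha b hb
  obtain ⟨a', ha', z, hz, rfl⟩ := Subgroup.mem_sup_of_normal_right.1 ha
  obtain ⟨b', hb', w, hw, rfl⟩ := Subgroup.mem_sup_of_normal_right.1 hb
  rw [hcen z hz a', hcen w hw b', commutator_central (hcen z hz) (hcen w hw)]
  exact Subgroup.commutator_mem_commutator ha' hb'

/-- The derived group of a minimal non-central normal subgroup is simple modulo the centre. -/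
theorem isSimpleGroup_core {G : Type*} [Group G] {Z T P : Subgroup G} [Z.Normal]
    (hcen : ∀ z ∈ Z, ∀ g : G, g * z = z * g) [(Z.subgroupOf P).Normal]
    (hZT : Z ≤ T) (hPle : P ≤ T) (hab : ¬ ⁅T, T⁆ ≤ Z) (hPT : P ⊔ Z = T) (hP : P = ⁅T, T⁆)
    (hTmin : ∀ M : Subgroup G, Z ≤ M → M ≤ T → (∀ g ∈ T, ∀ x ∈ M, g * x * g⁻¹ ∈ M) →
      M = Z ∨ M = T) :
    IsSimpleGroup (P ⧸ Z.subgroupOf P) := by
  haveI : Nontrivial (P ⧸ Z.subgroupOf P) := by
    rw [QuotientGroup.nontrivial_iff]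
    intro htop
    apply hab
    intro x hx
    rw [← hP] at hx
    have : (⟨x, hx⟩ : P) ∈ Z.subgroupOf P := htop ▸ Subgroup.mem_top _
    exact this
  refine ⟨fun K hK => ?_⟩
  set K' : Subgroup G := (K.comap (QuotientGroup.mk' (Z.subgroupOf P))).map P.subtype with hK'
  have hK'P : K' ≤ P := Subgroup.map_subtype_le _
  have hnormal : ∀ g ∈ T, ∀ x ∈ K' ⊔ Z, g * x * g⁻¹ ∈ K' ⊔ Z := by
    intro g hg x hx
    rw [← hPT] at hg
    obtain ⟨p, hp, z, hz, rfl⟩ := Subgroup.mem_sup_of_normal_right.1 hg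
    obtain ⟨k, hk, w, hw, rfl⟩ := Subgroup.mem_sup_of_normal_right.1 hx
    have h1 : p * z * (k * w) * (p * z)⁻¹ = (p * k * p⁻¹) * w := by
      calc p * z * (k * w) * (p * z)⁻¹ = p * (z * (k * w) * z⁻¹) * p⁻¹ := by group
        _ = p * (k * w) * p⁻¹ := by rw [← hcen z hz (k * w), mul_inv_cancel_right]
        _ = p * k * (w * p⁻¹) := by group
        _ = p * k * (p⁻¹ * w) := by rw [hcen w hw p⁻¹]
        _ = (p * k * p⁻¹) * w := by group
    rw [h1]
    exact Subgroup.mul_mem _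
      (Subgroup.mem_sup_left (conj_mem_map_subtype (hK.comap _) p hp k hk))
      (Subgroup.mem_sup_right hw)
  rcases hTmin (K' ⊔ Z) le_sup_right (sup_le (hK'P.trans hPle) hZT) hnormal with h | h
  · left
    rw [eq_bot_iff]
    intro y hy
    obtain ⟨x, rfl⟩ := QuotientGroup.mk'_surjective (Z.subgroupOf P) y
    rw [Subgroup.mem_bot]
    refine (QuotientGroup.eq_one_iff x).2 ?_
    show (x : G) ∈ Z
    exact h ▸ Subgroup.mem_sup_left (Subgroup.mem_map_of_mem P.subtype
      (Subgroup.mem_comap.2 hy : x ∈ K.comap (QuotientGroup.mk' (Z.subgroupOf P))))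
  · right
    rw [eq_top_iff]
    intro y _
    obtain ⟨x, rfl⟩ := QuotientGroup.mk'_surjective (Z.subgroupOf P) y
    have h1 : P ≤ K' := by
      rw [hP, ← h, commutator_sup_central _ _ hcen, Subgroup.commutator_le]
      exact fun a ha b hb => mul_mem (mul_mem (mul_mem ha hb) (inv_mem ha)) (inv_mem hb)
    obtain ⟨x', hx', hxx⟩ := Subgroup.mem_map.1 (h1 x.2)
    have hxx' : x' = x := Subtype.ext hxx
    exact hxx' ▸ Subgroup.mem_comap.1 hx'

/-- A perfect group which is not central is non-abelian modulo the centre. -/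
theorem not_isMulCommutative_of_perfect {G : Type*} [Group G] {Z P : Subgroup G}
    [(Z.subgroupOf P).Normal] (hperf : ⁅P, P⁆ = P) (hns : ¬ P ≤ Z) :
    ¬ IsMulCommutative (P ⧸ Z.subgroupOf P) := by
  intro hc
  apply hns
  rw [← hperf, Subgroup.commutator_le]
  intro a ha b hb
  have h2 : QuotientGroup.mk' (Z.subgroupOf P) ⁅(⟨a, ha⟩ : P), ⟨b, hb⟩⁆ = 1 := by
    rw [map_commutatorElement, commutatorElement_eq_one_iff_mul_comm]
    exact mul_comm' _ _
  exact (QuotientGroup.eq_one_iff (N := Z.subgroupOf P) ⁅(⟨a, ha⟩ : P), ⟨b, hb⟩⁆).1 h2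

/-- Aschbacher's theorem for GL_n(q), n ≥ 3. -/
theorem linear_class_or_residual (hn : 3 ≤ n) (H : Subgroup (GL (Fin n) F)) :
    InLinClass H ∨ Cfsg.Geo.InLinearResidualClass H := by
  classical
  haveI : NeZero n := ⟨by omega⟩
  set Z := Cfsg.Geo.scalars (Fin n) F with hZ
  set H' := H ⊔ Z with hH'
  have hmono : InLinClass H' → InLinClass H := fun ⟨M, hM, hle⟩ => ⟨M, hM, le_sup_left.trans hle⟩
  by_cases hirr : Irred H'
  swap
  · obtain ⟨W, h0, h1, hle⟩ := exists_le_subspaceStabilizer hirr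
    exact Or.inl (hmono (inLinClass_subspace h0 h1 hle))
  have hH'Z : ¬ H' ≤ Z := by
    intro hle
    let W : Submodule F (Fin n → F) := Submodule.span F {Pi.single (0 : Fin n) 1}
    have hW : W = ⊤ := hirr.eq_top (fun g hg v hv => by
      obtain ⟨c, hc⟩ := (Cfsg.Geo.mem_scalars_iff g).1 (hle hg)
      rw [hc, smul_mulVec']
      exact W.smul_mem _ hv) (Submodule.mem_span_singleton_self _) (by
        intro h
        exact (one_ne_zero : (1 : F) ≠ 0) (by simpa [W] using congrFun h (0 : Fin n)))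
    have h1 : Module.finrank F W = 1 := finrank_span_singleton (fun h =>
      (one_ne_zero : (1 : F) ≠ 0) (by simpa [W] using congrFun h (0 : Fin n)))
    rw [hW, finrank_top, Module.finrank_fintype_fun_eq_card, Fintype.card_fin] at h1
    omega
  obtain ⟨N, ⟨hZN, hNZ, hNH, hnorm⟩, hNmin⟩ := exists_minimal_subgroup
    {N : Subgroup (GL (Fin n) F) | Z ≤ N ∧ ¬ N ≤ Z ∧ N ≤ H' ∧ ∀ g ∈ H', ∀ x ∈ N, g * x * g⁻¹ ∈ N}
    ⟨H', le_sup_right, hH'Z, le_rfl, fun g hg x hx => mul_mem (mul_mem hg hx) (inv_mem hg)⟩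
  have hmin : ∀ M : Subgroup (GL (Fin n) F), Z ≤ M → M ≤ N →
      (∀ g ∈ H', ∀ x ∈ M, g * x * g⁻¹ ∈ M) → M = Z ∨ M = N := by
    intro M hZM hMN hM
    by_cases h : M ≤ Z
    · exact Or.inl (le_antisymm h hZM)
    · exact Or.inr (hNmin M ⟨hZM, h, hMN.trans hNH, hM⟩ hMN)
  rcases adjoin_eq_top_or_inLinClass hn hirr hnorm hNZ with h | htop
  · exact Or.inl (hmono h)
  by_cases hab : ⁅N, N⁆ ≤ Z
  · refine Or.inl (hmono (inLinClass_of_abelian hn hZN hNZ hnorm htop (fun x hx y hy => ?_) hmin))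
    rw [← commutatorElement_def]
    exact hab (Subgroup.commutator_mem_commutator hx hy)
  obtain ⟨T, ⟨hZT, hTZ, hTN, hTnorm⟩, hTmin'⟩ := exists_minimal_subgroup
    {T : Subgroup (GL (Fin n) F) | Z ≤ T ∧ ¬ T ≤ Z ∧ T ≤ N ∧ ∀ g ∈ N, ∀ x ∈ T, g * x * g⁻¹ ∈ T}
    ⟨N, hZN, hNZ, le_rfl, fun g hg x hx => mul_mem (mul_mem hg hx) (inv_mem hg)⟩
  have hTmin : ∀ M : Subgroup (GL (Fin n) F), Z ≤ M → M ≤ T →
      (∀ g ∈ N, ∀ x ∈ M, g * x * g⁻¹ ∈ M) → M = Z ∨ M = T := by
    intro M hZM hMT hM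
    by_cases h : M ≤ Z
    · exact Or.inl (le_antisymm h hZM)
    · exact Or.inr (hTmin' M ⟨hZM, h, hMT.trans hTN, hM⟩ hMT)
  rcases lt_or_eq_of_le hTN with hlt | rfl
  · exact Or.inl (hmono (inLinClass_of_factors hn htop hnorm hmin hab hZT
      (fun h => hTZ h.le) hlt hTnorm hTmin))
  -- the almost simple case
  set P := ⁅T, T⁆ with hP
  have hPle : P ≤ T := by
    rw [hP, Subgroup.commutator_le]
    exact fun a ha b hb => mul_mem (mul_mem (mul_mem ha hb) (inv_mem ha)) (inv_mem hb)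
  have hPconj : ∀ g ∈ H', ∀ x ∈ P, g * x * g⁻¹ ∈ P := fun g hg => conj_mem_commutator (hnorm g hg)
  have hPT : P ⊔ Z = T := by
    rcases hmin (P ⊔ Z) le_sup_right (sup_le hPle hZT) (fun g hg x hx => by
      obtain ⟨p, hp, z, hz, rfl⟩ := Subgroup.mem_sup_of_normal_right.1 hx
      rw [show g * (p * z) * g⁻¹ = (g * p * g⁻¹) * (g * z * g⁻¹) by group]
      exact Subgroup.mul_mem _ (Subgroup.mem_sup_left (hPconj g hg p hp))
        (Subgroup.mem_sup_right (Subgroup.Normal.conj_mem inferInstance z hz g))) with h | h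
    · exact absurd (le_sup_left.trans h.le) hab
    · exact h
  have hPtop : Algebra.adjoin F (Cfsg.Geo.matrixSet P) = ⊤ := by
    rw [← htop, ← hPT, adjoin_sup_scalars]
  have habs := absIrred_of_adjoin_eq_top hPtop
  have hperf : ⁅P, P⁆ = P := by
    rw [← commutator_sup_scalars P, hPT, hP]
  have hPH : P ≤ H := by
    rw [hP]
    refine le_trans (Subgroup.commutator_mono hNH hNH) ?_
    rw [hH', commutator_sup_scalars, Subgroup.commutator_le]
    exact fun a ha b hb => mul_mem (mul_mem (mul_mem ha hb) (inv_mem ha)) (inv_mem hb)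
  have hnorm' : ∀ g ∈ H, ∀ x ∈ P, g * x * g⁻¹ ∈ P := fun g hg =>
    hPconj g (Subgroup.mem_sup_left hg)
  by_cases hreal : ∃ F₀ : Subfield F, F₀ ≠ ⊤ ∧ Cfsg.Geo.RealisableOver F₀ (Cfsg.Geo.matrixSet P)
  · obtain ⟨F₀, hne, hr⟩ := hreal
    exact Or.inl (inLinClass_of_realisable habs hnorm' hne hr)
  by_cases hsymp : ∃ f, Cfsg.Geo.IsSymplecticForm f ∧ Cfsg.Geo.FixesForm (Cfsg.Geo.matrixSet P) f
  · obtain ⟨f, hf, hfix⟩ := hsymp
    obtain ⟨S, rfl⟩ := exists_sesqForm_of_bilinear hf.bilinear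
    have hS := isUnit_det_of_nondegenerate _ hf.nondegenerate
    refine Or.inl (inLinClass_symplecticForm hn ?_ (fun i => ?_) hS fun g hg =>
      mem_similarityGroup_of_normalizes _ habs hS ((fixesForm_iff _ P S).1 hfix) (hnorm' g hg))
    · ext i j
      have h1 := hf.skew (Pi.single j 1) (Pi.single i 1)
      rw [sesqForm_single, sesqForm_single] at h1
      simpa using h1
    · rw [← sesqForm_single (RingHom.id F) S i i]
      exact hf.alternating _
  by_cases hquad : ∃ Q, Cfsg.Geo.IsNondegenerateQuadraticForm Q ∧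
      Cfsg.Geo.FixesQuadForm (Cfsg.Geo.matrixSet P) Q
  · obtain ⟨Q, hQ, hfix⟩ := hquad
    obtain ⟨S, hS'⟩ := exists_sesqForm_of_bilinear hQ.polar_bilinear
    have hS : IsUnit S.det := isUnit_det_of_nondegenerate (RingHom.id F) (hS' ▸ hQ.nondegenerate)
    have hfixS : Fixes (RingHom.id F) P S := by
      rw [← fixesForm_iff, ← hS']
      intro s hs u v
      simp only [QuadraticMap.polar, ← Matrix.mulVec_add]
      rw [hfix s hs, hfix s hs, hfix s hs]
    have hsim : H ≤ Cfsg.Geo.similarityGroup (sesqForm (RingHom.id F) S) := fun g hg =>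
      mem_similarityGroup_of_normalizes _ habs hS hfixS (hnorm' g hg)
    have hsymm : Sᵀ = S := by
      ext i j
      rw [Matrix.transpose_apply, ← sesqForm_single (RingHom.id F) S j i,
        ← sesqForm_single (RingHom.id F) S i j, ← hS', QuadraticMap.polar_comm]
    left
    by_cases h2 : (2 : F) = 0
    · refine inLinClass_symplecticForm hn ?_ (fun i => ?_) hS hsim
      · rw [hsymm]
        ext i j
        rw [Matrix.neg_apply, eq_neg_iff_add_eq_zero, ← two_mul, h2, zero_mul]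
      · rw [← sesqForm_single (RingHom.id F) S i i, ← hS', QuadraticMap.polar,
          show (Pi.single i (1 : F) : Fin n → F) + Pi.single i 1 = (2 : F) • Pi.single i 1 from
            (two_smul F _).symm, hQ.smul, h2]
        have h3 : ∀ a : F, a + a = 0 := fun a => by rw [← two_mul, h2, zero_mul]
        rw [sub_sub, h3]
        simp
    · exact inLinClass_symmetricForm hn h2 hsymm hS hsim
  by_cases hunit : ∃ (σ : F ≃+* F) (f : (Fin n → F) → (Fin n → F) → F),
      Cfsg.Geo.IsUnitaryForm σ f ∧ Cfsg.Geo.FixesForm (Cfsg.Geo.matrixSet P) f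
  · obtain ⟨σ, f, hf, hfix⟩ := hunit
    obtain ⟨S, rfl⟩ := exists_sesqForm_of_unitary hf
    have hS := isUnit_det_of_nondegenerate _ hf.nondegenerate
    obtain ⟨a₀, ha₀⟩ : ∃ a, σ a ≠ a := by
      by_contra hall
      push Not at hall
      exact hf.ne_refl (RingEquiv.ext hall)
    refine Or.inl (inLinClass_hermitianForm hn (τ := σ.toRingHom) hf.involutive ha₀ hS ?_ fun g hg =>
      mem_similarityGroup_of_normalizes _ habs hS ((fixesForm_iff _ P S).1 hfix) (hnorm' g hg))
    ext i j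
    have h1 := hf.herm (Pi.single i 1) (Pi.single j 1)
    rw [sesqForm_single, sesqForm_single] at h1
    rw [Matrix.transpose_apply, Matrix.map_apply]
    exact h1.symm
  right
  haveI hnormZ : (Z.subgroupOf P).Normal := by
    refine ⟨fun a ha b => ?_⟩
    show (b : GL (Fin n) F) * a * (b : GL (Fin n) F)⁻¹ ∈ Z
    exact Subgroup.Normal.conj_mem inferInstance _ ha _
  have hsimple : IsSimpleGroup (P ⧸ Z.subgroupOf P) :=
    isSimpleGroup_core (fun z hz => scalars_comm hz) hZT hPle hab hPT hP hTmin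
  have hnonab : ¬ IsMulCommutative (P ⧸ Z.subgroupOf P) :=
    not_isMulCommutative_of_perfect hperf (fun h => hab (hP ▸ h))
  refine ⟨P, ⟨hPH, hnorm', hperf, hsimple, hnonab, ?_, habs, fun F₀ h0 hr => hreal ⟨F₀, h0, hr⟩⟩,
    hquad, hsymp, hunit⟩
  intro g _ hgP
  obtain ⟨c, hc⟩ := habs.2 (g : Matrix (Fin n) (Fin n) F) (by
    rintro _ ⟨p, hp, rfl⟩
    exact congrArg Units.val (commute_commutator_of_scalar hgP p (hperf.symm ▸ hp)))
  exact mem_scalars_of_eq_smul g c hc

end linear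

end Cfsg.Agent.Aschbacher
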